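import Cfsg.Agent.PGrp.Basic

/-!
The Frattini subgroup of a finite `p`-group, maximal normal abelian subgroups.
-/

namespace CL.PGrp

open Subgroup
open scoped commutatorElement

variable {G : Type*} [Group G]

theorem index_eq_prime_of_isCoatom [Finite G] {p : ℕ} [hp : Fact p.Prime] (hG : IsPGroup p G)
    {M : Subgroup G} (hM : IsCoatom M) : M.Normal ∧ M.index = p := by
  obtain ⟨M', h1, h2, h3⟩ := exists_normal_index_prime hG hM.1
  have hne : M' ≠ ⊤ := by
    rintro rfl
    rw [Subgroup.index_top] at h3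
    exact hp.out.one_lt.ne h3
  have : M' = M := by
    by_contra h
    exact hne (hM.2 _ (lt_of_le_of_ne h1 (Ne.symm h)))
  subst this
  exact ⟨h2, h3⟩

theorem isCoatom_of_index_eq_prime {p : ℕ} (hp : p.Prime) {M : Subgroup G} (hM : M.index = p) :
    IsCoatom M := by
  refine ⟨?_, fun K hK => ?_⟩
  · rintro rfl
    rw [Subgroup.index_top] at hM
    exact hp.one_lt.ne hM
  · have h := Subgroup.relIndex_mul_index hK.le
    rw [hM] at h
    rcases (Nat.dvd_prime hp).mp (Dvd.intro_left _ h) with h1 | h1
    · exact Subgroup.index_eq_one.mp h1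
    · rw [h1] at h
      have h2 : M.relIndex K = 1 := by
        have := hp.pos
        nlinarith
      exact absurd (Subgroup.relIndex_eq_one.mp h2) (not_le_of_gt hK)

theorem commutator_le_of_index_eq_prime {p : ℕ} [hp : Fact p.Prime] {M : Subgroup G} [M.Normal]
    (hM : M.index = p) : commutator G ≤ M := by
  have : IsCyclic (G ⧸ M) := isCyclic_of_prime_card (p := p) hM
  exact Subgroup.Normal.quotient_commutative_iff_commutator_le.mp inferInstance

theorem commutator_le_frattini [Finite G] {p : ℕ} [hp : Fact p.Prime] (hG : IsPGroup p G) :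
    commutator G ≤ frattini G := by
  refine le_iInf₂ fun M hM => ?_
  obtain ⟨h1, h2⟩ := index_eq_prime_of_isCoatom hG hM
  exact commutator_le_of_index_eq_prime h2

theorem pow_mem_frattini [Finite G] {p : ℕ} [hp : Fact p.Prime] (hG : IsPGroup p G) (x : G) :
    x ^ p ∈ frattini G := by
  have : zpowers (x ^ p) ≤ frattini G := by
    refine le_iInf₂ fun M hM => ?_
    obtain ⟨h1, h2⟩ := index_eq_prime_of_isCoatom hG hM
    rw [Subgroup.zpowers_le, ← h2]
    exact M.pow_index_mem x
  exact this (mem_zpowers _)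

/-- In a finite group, a subgroup containing all commutators and all `p`-th powers contains the
Frattini subgroup. -/
theorem frattini_le [Finite G] {p : ℕ} [hp : Fact p.Prime] (N : Subgroup G)
    (hcomm : commutator G ≤ N) (hpow : ∀ x : G, x ^ p ∈ N) : frattini G ≤ N := by
  intro x hx
  by_contra hxN
  obtain ⟨M, ⟨hNM, hxM⟩, hmax⟩ := Set.Finite.exists_le_maximal
    (s := {M : Subgroup G | N ≤ M ∧ x ∉ M}) (Set.toFinite _) (a := N) ⟨le_rfl, hxN⟩ |>.imp
      fun M h => h.2
  have hMn : M.Normal := Subgroup.Normal.of_commutator_le G (hcomm.trans hNM)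
  have key : ∀ y : G, y ∈ M ⊔ zpowers x := by
    intro y
    by_cases hy : y ∈ M
    · exact Subgroup.mem_sup_left hy
    have hx' : x ∈ M ⊔ zpowers y := by
      by_contra h
      have := hmax (y := M ⊔ zpowers y) ⟨hNM.trans le_sup_left, h⟩ le_sup_left
      exact hy (this (Subgroup.mem_sup_right (mem_zpowers y)))
    have h1 : M ⊔ zpowers x = M ⊔ zpowers y := by
      apply Subgroup.eq_of_le_of_card_ge (sup_le le_sup_left (by rwa [Subgroup.zpowers_le]))
      rw [card_sup_zpowers hxM (hNM (hpow x)), card_sup_zpowers hy (hNM (hpow y))]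
    rw [h1]
    exact Subgroup.mem_sup_right (mem_zpowers y)
  have htop : M ⊔ zpowers x = ⊤ := eq_top_iff.mpr fun y _ => key y
  have h2 := relIndex_sup_zpowers hxM (hNM (hpow x))
  rw [htop, Subgroup.relIndex_top_right] at h2
  exact hxM (frattini_le_coatom (isCoatom_of_index_eq_prime hp.out h2) hx)

theorem isMulCommutative_sup_zpowers {A : Subgroup G} (hA : IsMulCommutative A) {x : G}
    (hx : x ∈ centralizer (A : Set G)) : IsMulCommutative (A ⊔ zpowers x : Subgroup G) := by
  rw [← Subgroup.le_centralizer_iff_isMulCommutative, centralizer_sup_eq]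
  have h1 : zpowers x ≤ centralizer (A : Set G) := by rwa [Subgroup.zpowers_le]
  refine sup_le (le_inf (Subgroup.le_centralizer A) (Subgroup.le_centralizer_iff.mp h1))
    (le_inf h1 (Subgroup.le_centralizer _))

theorem pow_eq_one_of_mem_sup_zpowers {A : Subgroup G} {x : G}
    (hx : x ∈ centralizer (A : Set G)) {n : ℕ} (hA : ∀ a ∈ A, a ^ n = 1) (hxn : x ^ n = 1) {y : G}
    (hy : y ∈ A ⊔ zpowers x) : y ^ n = 1 := by
  obtain ⟨a, ha, i, rfl⟩ := (mem_sup_zpowers_iff (centralizer_le_normalizer _ hx)).mp hy
  have : Commute a x := hx a ha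
  rw [(this.zpow_right i).mul_pow, hA a ha, one_mul, ← zpow_natCast, ← zpow_mul, mul_comm, zpow_mul,
    zpow_natCast, hxn, one_zpow]

/-- A maximal normal abelian subgroup of a finite `p`-group is self-centralising. -/
theorem centralizer_eq_of_maximal_normal_abelian [Finite G] {p : ℕ} [Fact p.Prime]
    (hG : IsPGroup p G) (A : Subgroup G) [A.Normal] (hA : IsMulCommutative A)
    (hmax : ∀ B : Subgroup G, B.Normal → IsMulCommutative B → A ≤ B → B = A) :
    centralizer (A : Set G) = A := by
  refine le_antisymm ?_ (Subgroup.le_centralizer A)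
  by_contra h
  obtain ⟨x, hxC, hxA, -, hxc⟩ := exists_central_mod hG A (centralizer (A : Set G)) h
  have := hmax _ (normal_sup_zpowers hxc) (isMulCommutative_sup_zpowers hA hxC) le_sup_left
  exact hxA (this ▸ Subgroup.mem_sup_right (mem_zpowers x))

/-- Every normal subgroup with a property is contained in a maximal such (finite groups). -/
theorem exists_maximal_subgroup [Finite G] (P : Subgroup G → Prop) (A : Subgroup G) (hA : P A) :
    ∃ B : Subgroup G, A ≤ B ∧ P B ∧ ∀ C : Subgroup G, P C → B ≤ C → C = B := by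
  obtain ⟨B, hAB, hB, hmax⟩ := Set.Finite.exists_le_maximal (s := {M : Subgroup G | P M})
    (Set.toFinite _) (a := A) hA
  exact ⟨B, hAB, hB, fun C hC hBC => le_antisymm (hmax hC hBC) hBC⟩

/-- A finite `p`-group has a self-centralising normal abelian subgroup containing a given normal
abelian subgroup. -/
theorem exists_scn_ge [Finite G] {p : ℕ} [Fact p.Prime] (hG : IsPGroup p G) (B : Subgroup G)
    [B.Normal] (hB : IsMulCommutative B) :
    ∃ A : Subgroup G, B ≤ A ∧ A.Normal ∧ centralizer (A : Set G) = A := by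
  obtain ⟨A, hBA, ⟨hn, hc⟩, hmax⟩ := exists_maximal_subgroup
    (fun A : Subgroup G => A.Normal ∧ IsMulCommutative A) B ⟨inferInstance, hB⟩
  exact ⟨A, hBA, hn, centralizer_eq_of_maximal_normal_abelian hG A hc
    fun C h1 h2 h3 => hmax C ⟨h1, h2⟩ h3⟩

end CL.PGrp
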