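import Cfsg.Agent.Base

/-!
# Finite `p`-groups with a cyclic subgroup of index `p`
-/

namespace CL.PGrp.CycMax

/-- If `r ^ p ≡ 1` modulo `p ^ (k+1)` with `p` an odd prime then `r ≡ 1` modulo `p ^ k`. -/
theorem dvd_sub_one_of_pow_prime_odd {p : ℕ} (hp : p.Prime) (hp2 : p ≠ 2) (r : ℤ) (k : ℕ)
    (h : (p : ℤ) ^ (k + 1) ∣ r ^ p - 1) : (p : ℤ) ^ k ∣ r - 1 := by
  have := Fact.mk hp
  have h1 : (p : ℤ) ∣ r ^ p - 1 := (dvd_pow_self _ (Nat.succ_ne_zero k)).trans h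
  have h2 : (p : ℤ) ∣ r - 1 := by
    rw [← ZMod.intCast_zmod_eq_zero_iff_dvd] at h1 ⊢
    push_cast at h1 ⊢
    rwa [ZMod.pow_card] at h1
  have h3 : ¬ (p : ℤ) ∣ r := by
    intro h3
    have : (p : ℤ) ∣ 1 := by simpa using dvd_sub h3 h2
    exact hp.one_lt.ne' (by exact_mod_cast Int.eq_one_of_dvd_one (by positivity) this)
  have h4 := Int.emultiplicity_pow_sub_pow hp (hp.odd_of_ne_two hp2) (y := 1) h2 h3 p
  rw [one_pow, hp.emultiplicity_self] at h4
  rw [pow_dvd_iff_le_emultiplicity] at h ⊢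
  rw [h4] at h
  push_cast at h
  exact (ENat.add_le_add_iff_right (by simp)).1 h

/-- If `r ^ 2 ≡ 1` modulo `2 ^ (k+1)` then `r ≡ ±1` modulo `2 ^ k`. -/
theorem dvd_sub_or_add_one_of_sq (r : ℤ) (k : ℕ) (h : (2 : ℤ) ^ (k + 1) ∣ r ^ 2 - 1) :
    (2 : ℤ) ^ k ∣ r - 1 ∨ (2 : ℤ) ^ k ∣ r + 1 := by
  rcases Nat.eq_zero_or_pos k with rfl | hk
  · simp
  have hodd : Odd r := by
    by_contra hr
    rw [Int.not_odd_iff_even] at hr
    have h2 : (2 : ℤ) ∣ r ^ 2 - 1 := (dvd_pow_self _ (Nat.succ_ne_zero k)).trans h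
    obtain ⟨s, rfl⟩ := hr
    obtain ⟨t, ht⟩ := h2
    have : (s + s) ^ 2 = 2 * (2 * s ^ 2) := by ring
    omega
  obtain ⟨s, rfl⟩ := hodd
  obtain ⟨k, rfl⟩ : ∃ j, k = j + 1 := ⟨k - 1, by omega⟩
  have h' : (2 : ℤ) ^ k ∣ s * (s + 1) := by
    have e : (2 * s + 1) ^ 2 - 1 = 4 * (s * (s + 1)) := by ring
    have e2 : (2 : ℤ) ^ (k + 1 + 1) = 4 * 2 ^ k := by ring
    rw [e, e2] at h
    exact (mul_dvd_mul_iff_left (by norm_num)).1 h
  have hprime : Prime (2 : ℤ) := Int.prime_two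
  rcases Int.even_or_odd s with hs | hs
  · left
    have : IsCoprime ((2 : ℤ) ^ k) (s + 1) := by
      apply IsCoprime.pow_left
      rw [Int.prime_two.coprime_iff_not_dvd] 
      obtain ⟨t, rfl⟩ := hs
      omega
    have := this.dvd_of_dvd_mul_right h'
    obtain ⟨t, rfl⟩ := this
    exact ⟨t, by ring⟩
  · right
    have : IsCoprime ((2 : ℤ) ^ k) s := by
      apply IsCoprime.pow_left
      rw [Int.prime_two.coprime_iff_not_dvd]
      obtain ⟨t, rfl⟩ := hs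
      omega
    have := this.dvd_of_dvd_mul_left h'
    obtain ⟨t, ht⟩ := this
    exact ⟨t, by rw [pow_succ]; linear_combination 2 * ht⟩

section Conj
variable {G : Type*} [Group G]

theorem conj_zpow_of_conj {a b : G} {r : ℤ} (h : b * a * b⁻¹ = a ^ r) (i : ℤ) :
    b * a ^ i * b⁻¹ = a ^ (i * r) := by
  rw [← conj_zpow, h, ← zpow_mul, mul_comm r i]

theorem pow_conj_zpow_of_conj {a b : G} {r : ℤ} (h : b * a * b⁻¹ = a ^ r) (j : ℕ) (i : ℤ) :
    b ^ j * a ^ i * (b ^ j)⁻¹ = a ^ (i * r ^ j) := by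
  induction j generalizing i with
  | zero => simp
  | succ j ih =>
    have : b ^ (j + 1) * a ^ i * (b ^ (j + 1))⁻¹ = b ^ j * (b * a ^ i * b⁻¹) * (b ^ j)⁻¹ := by
      rw [pow_succ]; group
    rw [this, conj_zpow_of_conj h, ih]
    congr 1; ring

theorem zpow_mul_pow_of_conj {a b : G} {r : ℤ} (h : b * a * b⁻¹ = a ^ r) (u : ℤ) (k : ℕ) :
    (a ^ u * b) ^ k = a ^ (u * ∑ j ∈ Finset.range k, r ^ j) * b ^ k := by
  induction k with
  | zero => simp
  | succ k ih =>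
    rw [pow_succ, ih, Finset.sum_range_succ, mul_add, zpow_add, ← pow_conj_zpow_of_conj h k u,
      pow_succ]
    group

end Conj

variable {G : Type*} [Group G] [Finite G] {p : ℕ}

/-- A subgroup of index `p` of a finite `p`-group is normal. -/
theorem normal_of_index_eq [hp : Fact p.Prime] (hG : IsPGroup p G) {C : Subgroup G}
    (hCi : C.index = p) : C.Normal := by
  obtain ⟨n, hn⟩ := IsPGroup.iff_card.1 hG
  apply Subgroup.normal_of_index_eq_minFac_card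
  have hn0 : n ≠ 0 := by
    rintro rfl
    have := C.index_dvd_card
    rw [hCi, hn, pow_zero, Nat.dvd_one] at this
    exact hp.out.one_lt.ne' this
  rw [hCi, hn, hp.out.pow_minFac hn0]

omit [Finite G] in
/-- If `C` is normal of prime index `p` and `b ∉ C`, every element is `c * b ^ j` with `c ∈ C`. -/
theorem exists_mul_pow_of_index [hp : Fact p.Prime] {C : Subgroup G} [C.Normal]
    (hCi : C.index = p) {b : G} (hb : b ∉ C) (g : G) : ∃ c ∈ C, ∃ j : ℕ, g = c * b ^ j := by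
  have hcard : Nat.card (G ⧸ C) = p := hCi
  have : Finite (G ⧸ C) := Nat.finite_of_card_ne_zero (hcard ▸ hp.out.ne_zero)
  have hb1 : (b : G ⧸ C) ≠ 1 := by rwa [Ne, QuotientGroup.eq_one_iff]
  have := mem_powers_of_prime_card (g' := (g : G ⧸ C)) hcard hb1
  obtain ⟨j, hj⟩ := this
  refine ⟨g * (b ^ j)⁻¹, ?_, j, by group⟩
  rw [← QuotientGroup.eq_one_iff]
  simp only at hj
  simp [← hj]

omit [Finite G] in
theorem pow_mem_of_index {C : Subgroup G} [C.Normal] (hCi : C.index = p) (b : G) :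
    b ^ p ∈ C := hCi ▸ C.pow_index_mem b

theorem sq_dvd_one_add_pow_sub (t : ℤ) (j : ℕ) : t ^ 2 ∣ (1 + t) ^ j - (1 + j * t) := by
  induction j with
  | zero => simp
  | succ j ih =>
    obtain ⟨c, hc⟩ := ih
    refine ⟨c * (1 + t) + j, ?_⟩
    have : (1 + t) ^ (j + 1) = ((1 + j * t) + t ^ 2 * c) * (1 + t) := by
      rw [pow_succ, ← hc]; ring
    rw [this]; push_cast; ring

theorem sq_dvd_geom_sum_sub (t : ℤ) (n : ℕ) :
    t ^ 2 ∣ ∑ j ∈ Finset.range n, (1 + t) ^ j - (n + t * (n.choose 2 : ℕ)) := by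
  induction n with
  | zero => simp
  | succ n ih =>
    rw [Finset.sum_range_succ]
    have h2 : ((n + 1).choose 2 : ℕ) = n.choose 2 + n := by
      rw [Nat.choose_succ_succ' n 1, Nat.choose_one_right, add_comm]
    have := dvd_add ih (sq_dvd_one_add_pow_sub t n)
    refine this.trans (dvd_of_eq ?_)
    rw [h2]; push_cast; ring

/-- For odd `p`, if `r ≡ 1` modulo both `p ^ m` and `p`, then `1 + r + ⋯ + r ^ (p-1) ≡ p` modulo
`p ^ (m+1)`. -/
theorem dvd_geom_sum_sub_odd (hp : p.Prime) (hp2 : p ≠ 2) {r : ℤ} {m : ℕ}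
    (h1 : (p : ℤ) ^ m ∣ r - 1) (h2 : (p : ℤ) ∣ r - 1) :
    (p : ℤ) ^ (m + 1) ∣ ∑ j ∈ Finset.range p, r ^ j - p := by
  have h3 := sq_dvd_geom_sum_sub (r - 1) p
  have h4 : (p : ℤ) ^ (m + 1) ∣ (r - 1) ^ 2 := by
    rw [pow_succ, sq]; exact mul_dvd_mul h1 h2
  have h5 : (p : ℤ) ∣ (p.choose 2 : ℕ) := by
    have : 2 < p := lt_of_le_of_ne hp.two_le (Ne.symm hp2)
    exact_mod_cast hp.dvd_choose_self (by norm_num) this
  have h6 : (p : ℤ) ^ (m + 1) ∣ (r - 1) * (p.choose 2 : ℕ) := by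
    rw [pow_succ]; exact mul_dvd_mul h1 h5
  have := dvd_add (h4.trans h3) h6
  refine this.trans (dvd_of_eq ?_)
  simp only [add_sub_cancel]; ring

omit [Finite G] in
/-- Basic set-up: generator `a` of the cyclic subgroup `C` of index `p`. -/
theorem exists_generator [hp : Fact p.Prime] (hG : IsPGroup p G) (C : Subgroup G)
    (hC : IsCyclic C) (hCi : C.index = p) :
    ∃ (a : G) (m : ℕ), C = Subgroup.zpowers a ∧ orderOf a = p ^ m ∧ Nat.card G = p ^ (m + 1) := by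
  obtain ⟨a, ha⟩ := (Subgroup.isCyclic_iff_exists_zpowers_eq_top C).1 hC
  obtain ⟨m, hm⟩ := IsPGroup.iff_orderOf.1 hG a
  refine ⟨a, m, ha.symm, hm, ?_⟩
  rw [← C.card_mul_index, hCi, ← ha, Nat.card_zpowers, hm, pow_succ]

omit [Finite G] in
theorem exists_conj_eq_zpow {a : G} (h : (Subgroup.zpowers a).Normal) (b : G) :
    ∃ r : ℤ, b * a * b⁻¹ = a ^ r := by
  obtain ⟨r, hr⟩ := h.conj_mem a (Subgroup.mem_zpowers a) b
  exact ⟨r, hr.symm⟩

omit [Finite G] in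
/-- If `b ^ k` commutes with `a` then `r ^ k ≡ 1` modulo the order of `a`. -/
theorem dvd_pow_sub_one_of_conj {a b : G} {r : ℤ} (h : b * a * b⁻¹ = a ^ r) {k : ℕ}
    (hk : b ^ k ∈ Subgroup.zpowers a) : (orderOf a : ℤ) ∣ r ^ k - 1 := by
  have h1 := pow_conj_zpow_of_conj h k 1
  obtain ⟨s, hs⟩ := hk
  simp only at hs
  rw [← hs, one_mul, zpow_one] at h1
  rw [orderOf_dvd_iff_zpow_eq_one, zpow_sub, ← h1]
  group

/-- In a non-cyclic `p`-group, if `⟨a⟩` has index `p` and `b ∉ ⟨a⟩` then `b ^ p ∈ ⟨a ^ p⟩`. -/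
theorem exists_pow_eq_of_not_isCyclic [hp : Fact p.Prime] (hG : IsPGroup p G)
    (hnc : ¬ IsCyclic G) {a b : G} (hCi : (Subgroup.zpowers a).index = p)
    (hb : b ∉ Subgroup.zpowers a) : ∃ t : ℤ, b ^ p = a ^ (t * p) := by
  have := normal_of_index_eq hG hCi
  obtain ⟨s, hs⟩ := pow_mem_of_index hCi b
  simp only at hs
  by_cases hps : (p : ℤ) ∣ s
  · obtain ⟨t, rfl⟩ := hps
    exact ⟨t, by rw [← hs, mul_comm]⟩
  exfalso
  apply hnc
  obtain ⟨m, hm⟩ := IsPGroup.iff_orderOf.1 hG a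
  have hcop : IsCoprime s (orderOf a : ℤ) := by
    rw [hm]; push_cast
    apply IsCoprime.pow_right
    apply IsCoprime.symm
    rwa [(Nat.prime_iff_prime_int.1 hp.out).coprime_iff_not_dvd]
  obtain ⟨u, v, huv⟩ := hcop
  have ha : a ∈ Subgroup.zpowers b := by
    have h1 : a = (a ^ s) ^ u := by
      rw [← zpow_mul]
      conv_lhs => rw [← zpow_one a, ← huv]
      rw [zpow_add, mul_comm v, zpow_mul a (orderOf a), zpow_natCast, pow_orderOf_eq_one]
      simp [mul_comm]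
    rw [h1, hs]
    exact Subgroup.zpow_mem _ (Subgroup.pow_mem _ (Subgroup.mem_zpowers b) p) u
  refine ⟨⟨b, fun g => ?_⟩⟩
  obtain ⟨c, hc, j, rfl⟩ := exists_mul_pow_of_index hCi hb g
  exact Subgroup.mul_mem (Subgroup.zpowers b) ((Subgroup.zpowers_le_of_mem ha) hc)
    (Subgroup.pow_mem _ (Subgroup.mem_zpowers b) j)

omit [Finite G] in
/-- If `⟨a⟩` is normal of index `p` and commutes with some `b ∉ ⟨a⟩`, the group is abelian. -/
theorem mul_comm_of_commute [hp : Fact p.Prime] {a b : G} [(Subgroup.zpowers a).Normal]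
    (hCi : (Subgroup.zpowers a).index = p) (hb : b ∉ Subgroup.zpowers a) (hab : Commute a b)
    (x y : G) : x * y = y * x := by
  obtain ⟨c, ⟨i, rfl⟩, j, rfl⟩ := exists_mul_pow_of_index hCi hb x
  obtain ⟨d, ⟨k, rfl⟩, l, rfl⟩ := exists_mul_pow_of_index hCi hb y
  apply Commute.eq
  apply Commute.mul_left <;> apply Commute.mul_right
  · exact (Commute.refl a).zpow_zpow i k
  · exact (hab.zpow_left i).pow_right l
  · exact (hab.symm.pow_left j).zpow_right k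
  · exact (Commute.refl b).pow_pow j l

/-- Structure of a non-cyclic `p`-group (`p` odd) with a cyclic subgroup `C` of index `p`. -/
theorem exists_gens_odd [hp : Fact p.Prime] (hp2 : p ≠ 2) (hG : IsPGroup p G)
    (hnc : ¬ IsCyclic G) (C : Subgroup G) (hC : IsCyclic C) (hCi : C.index = p) :
    ∃ (a b : G) (m : ℕ) (r : ℤ), C = Subgroup.zpowers a ∧ orderOf a = p ^ (m + 1) ∧
      Nat.card G = p ^ (m + 2) ∧ b ∉ C ∧ b ^ p = 1 ∧ b * a * b⁻¹ = a ^ r ∧
      (p : ℤ) ^ m ∣ r - 1 ∧ (p : ℤ) ∣ r - 1 := by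
  obtain ⟨a, m, rfl, hm, hcard⟩ := exists_generator hG C hC hCi
  have hN := normal_of_index_eq hG hCi
  obtain ⟨m, rfl⟩ : ∃ k, m = k + 1 := by
    rcases m with _ | m
    · exact absurd (isCyclic_of_prime_card (by simpa using hcard)) hnc
    · exact ⟨m, rfl⟩
  obtain ⟨b, hb⟩ : ∃ b, b ∉ Subgroup.zpowers a := by
    by_contra! h
    exact hnc ⟨⟨a, h⟩⟩
  obtain ⟨r, hr⟩ := exists_conj_eq_zpow hN b
  have h1 := dvd_pow_sub_one_of_conj hr (pow_mem_of_index hCi b)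
  rw [hm] at h1; push_cast at h1
  have h2 := dvd_sub_one_of_pow_prime_odd hp.out hp2 r m h1
  have h3 : (p : ℤ) ∣ r - 1 := by
    have h1' : (p : ℤ) ∣ r ^ p - 1 := (dvd_pow_self _ (Nat.succ_ne_zero m)).trans h1
    rw [← ZMod.intCast_zmod_eq_zero_iff_dvd] at h1' ⊢
    push_cast at h1' ⊢
    rwa [ZMod.pow_card] at h1'
  obtain ⟨t, ht⟩ := exists_pow_eq_of_not_isCyclic hG hnc hCi hb
  refine ⟨a, a ^ (-t) * b, m, r, rfl, hm, hcard, ?_, ?_, ?_, h2, h3⟩
  · intro h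
    apply hb
    have := Subgroup.mul_mem _ (Subgroup.zpow_mem _ (Subgroup.mem_zpowers a) t) h
    simpa using this
  · rw [zpow_mul_pow_of_conj hr, ht, ← zpow_add, ← orderOf_dvd_iff_zpow_eq_one, hm]
    push_cast
    have := (dvd_geom_sum_sub_odd hp.out hp2 h2 h3).mul_left (-t)
    refine this.trans (dvd_of_eq ?_); ring
  · have : a ^ (-t) * b * a * (a ^ (-t) * b)⁻¹ = a ^ (-t) * (b * a * b⁻¹) * (a ^ (-t))⁻¹ := by
      group
    rw [this, hr]; group

/-- Non-abelian `p`-groups (`p` odd) with a cyclic subgroup of index `p` are modular. -/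
theorem exists_gens_odd_nonabelian [hp : Fact p.Prime] (hp2 : p ≠ 2) (hG : IsPGroup p G)
    (C : Subgroup G) (hC : IsCyclic C) (hCi : C.index = p) (hna : ∃ x y : G, x * y ≠ y * x) :
    ∃ (a b : G) (m : ℕ), C = Subgroup.zpowers a ∧ orderOf a = p ^ (m + 2) ∧
      Nat.card G = p ^ (m + 3) ∧ b ∉ C ∧ orderOf b = p ∧ b * a * b⁻¹ = a ^ (1 + p ^ (m + 1)) := by
  obtain ⟨x, y, hxy⟩ := hna
  have hnc : ¬ IsCyclic G := fun h => hxy (mul_comm' x y)
  obtain ⟨a, b, m, r, rfl, ha, hcard, hb, hbp, hr, h1, h2⟩ := exists_gens_odd hp2 hG hnc C hC hCi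
  have hN := normal_of_index_eq hG hCi
  have hnd : ¬ (p : ℤ) ^ (m + 1) ∣ r - 1 := by
    intro h
    apply hxy
    apply mul_comm_of_commute hCi hb
    have : a ^ (r - 1) = 1 := by
      rw [← orderOf_dvd_iff_zpow_eq_one, ha]; exact_mod_cast h
    rw [zpow_sub, ← hr, zpow_one, mul_inv_eq_one, mul_inv_eq_iff_eq_mul] at this
    exact this.symm
  obtain ⟨m, rfl⟩ : ∃ k, m = k + 1 := by
    rcases m with _ | m
    · exact absurd (by simpa using h2) hnd
    · exact ⟨m, rfl⟩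
  obtain ⟨k, hk⟩ := h1
  have hpk : ¬ (p : ℤ) ∣ k := by
    rintro ⟨l, rfl⟩
    exact hnd ⟨l, by rw [hk]; ring⟩
  obtain ⟨i, hi⟩ : ∃ i : ℕ, (p : ℤ) ∣ i * k - 1 := by
    have hk0 : (k : ZMod p) ≠ 0 := by rwa [Ne, ZMod.intCast_zmod_eq_zero_iff_dvd]
    refine ⟨((k : ZMod p)⁻¹).val, ?_⟩
    rw [← ZMod.intCast_zmod_eq_zero_iff_dvd]
    push_cast
    rw [ZMod.natCast_zmod_val, inv_mul_cancel₀ hk0, sub_self]
  have hconj : b ^ i * a * (b ^ i)⁻¹ = a ^ (1 + p ^ (m + 1)) := by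
    have := pow_conj_zpow_of_conj hr i 1
    rw [zpow_one, one_mul] at this
    rw [this, ← zpow_natCast, zpow_eq_zpow_iff_modEq, ha, Int.modEq_iff_dvd]
    have h3 := sq_dvd_one_add_pow_sub (r - 1) i
    have h4 : (p : ℤ) ^ (m + 1 + 1) ∣ (r - 1) ^ 2 := by
      rw [pow_succ, sq]; exact mul_dvd_mul ⟨k, hk⟩ h2
    have h5 : (p : ℤ) ^ (m + 1 + 1) ∣ p ^ (m + 1) * (i * k - 1) := by
      rw [pow_succ]; exact mul_dvd_mul dvd_rfl hi
    have := (dvd_add (h4.trans h3) h5).neg_right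
    push_cast
    refine this.trans (dvd_of_eq ?_)
    simp only [add_sub_cancel]
    rw [hk]; ring
  have hbi : b ^ i ∉ Subgroup.zpowers a := by
    rintro ⟨s, hs⟩
    simp only at hs
    rw [← hs] at hconj
    have h3 : a ^ (p ^ (m + 1)) = 1 := by
      have : a ^ s * a * (a ^ s)⁻¹ = a := by group
      rw [this, pow_add, pow_one] at hconj
      simpa using hconj.symm
    rw [← orderOf_dvd_iff_pow_eq_one, ha, Nat.pow_dvd_pow_iff_le_right hp.out.one_lt] at h3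
    omega
  refine ⟨a, b ^ i, m, rfl, ha, hcard, hbi, ?_, hconj⟩
  apply orderOf_eq_prime
  · rw [← pow_mul, mul_comm, pow_mul, hbp, one_pow]
  · intro h
    exact hbi (h ▸ Subgroup.one_mem _)

/-- In a non-cyclic `p`-group (`p` odd) with a cyclic subgroup of index `p`, the map `x ↦ x ^ p` is
multiplicative. -/
theorem mul_pow_of_cyclic_index [hp : Fact p.Prime] (hp2 : p ≠ 2) (hG : IsPGroup p G)
    (C : Subgroup G) (hC : IsCyclic C) (hCi : C.index = p) (x y : G) :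
    (x * y) ^ p = x ^ p * y ^ p := by
  by_cases hnc : IsCyclic G
  · exact (Commute.mul_pow (mul_comm' x y) p)
  obtain ⟨a, b, m, r, rfl, ha, hcard, hb, hbp, hr, h1, h2⟩ := exists_gens_odd hp2 hG hnc C hC hCi
  have hN := normal_of_index_eq hG hCi
  have key : ∀ (i : ℤ) (j : ℕ), (a ^ i * b ^ j) ^ p = a ^ (i * p) := by
    intro i j
    have hj : b ^ j * a * (b ^ j)⁻¹ = a ^ (r ^ j) := by
      simpa using pow_conj_zpow_of_conj hr j 1
    have hd : r - 1 ∣ r ^ j - 1 := by simpa using sub_dvd_pow_sub_pow r 1 j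
    rw [zpow_mul_pow_of_conj hj, ← pow_mul, mul_comm j p, pow_mul, hbp, one_pow, mul_one,
      zpow_eq_zpow_iff_modEq, ha, Int.modEq_iff_dvd]
    have := (dvd_geom_sum_sub_odd hp.out hp2 (h1.trans hd) (h2.trans hd)).mul_left (-i)
    push_cast
    refine this.trans (dvd_of_eq ?_); ring
  obtain ⟨c, ⟨i, rfl⟩, j, rfl⟩ := exists_mul_pow_of_index hCi hb x
  obtain ⟨d, ⟨k, rfl⟩, l, rfl⟩ := exists_mul_pow_of_index hCi hb y
  simp only
  have e : a ^ i * b ^ j * (a ^ k * b ^ l) = a ^ (i + k * r ^ j) * b ^ (j + l) := by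
    rw [zpow_add, ← pow_conj_zpow_of_conj hr j k, pow_add]; group
  rw [e, key, key, key, ← zpow_add, zpow_eq_zpow_iff_modEq, ha, Int.modEq_iff_dvd]
  have hd : r - 1 ∣ r ^ j - 1 := by simpa using sub_dvd_pow_sub_pow r 1 j
  have : (p : ℤ) ^ (m + 1) ∣ (r ^ j - 1) * p := by
    rw [pow_succ]; exact mul_dvd_mul (h1.trans hd) dvd_rfl
  push_cast
  refine (this.mul_left (-k)).trans (dvd_of_eq ?_); ring

/-- B&G 4.5(b): the elements of order dividing `p` form a subgroup of order `p ^ 2`. -/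
theorem exists_omega_of_cyclic_index [hp : Fact p.Prime] (hp2 : p ≠ 2) (hG : IsPGroup p G)
    (hnc : ¬ IsCyclic G) (C : Subgroup G) (hC : IsCyclic C) (hCi : C.index = p) :
    ∃ E : Subgroup G, (∀ x, x ∈ E ↔ x ^ p = 1) ∧ Nat.card E = p ^ 2 := by
  let φ : G →* G := MonoidHom.mk' (fun x => x ^ p) (mul_pow_of_cyclic_index hp2 hG C hC hCi)
  refine ⟨φ.ker, fun x => Iff.rfl, ?_⟩
  obtain ⟨a, b, m, r, rfl, ha, hcard, hb, hbp, hr, h1, h2⟩ := exists_gens_odd hp2 hG hnc C hC hCi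
  have hN := normal_of_index_eq hG hCi
  have hrange : φ.range = Subgroup.zpowers (a ^ p) := by
    apply le_antisymm
    · rintro _ ⟨x, rfl⟩
      obtain ⟨c, ⟨i, rfl⟩, j, rfl⟩ := exists_mul_pow_of_index hCi hb x
      have hb' : φ b = 1 := hbp
      have ha' : φ a = a ^ p := rfl
      simp only [map_mul, map_zpow, map_pow, hb', ha', one_pow, mul_one]
      exact Subgroup.zpow_mem _ (Subgroup.mem_zpowers _) i
    · rw [Subgroup.zpowers_le]
      exact ⟨a, rfl⟩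
  have h3 : Nat.card φ.range = p ^ m := by
    rw [hrange, Nat.card_zpowers, orderOf_pow_of_dvd hp.out.ne_zero, ha, pow_succ,
      Nat.mul_div_cancel _ hp.out.pos]
    rw [ha]; exact dvd_pow_self _ (Nat.succ_ne_zero m)
  have h4 := φ.ker.card_mul_index
  rw [Subgroup.index_ker, h3, hcard, pow_add, mul_comm] at h4
  exact Nat.eq_of_mul_eq_mul_left (pow_pos hp.out.pos m) h4

/-- B&G 4.5(b), in the form of statement S0127. -/
theorem omega_of_cyclic_index [hp : Fact p.Prime] (hp2 : p ≠ 2) (hG : IsPGroup p G)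
    (hnc : ¬ IsCyclic G) (C : Subgroup G) (hC : IsCyclic C) (hCi : C.index = p) :
    Cfsg.IsElementaryAbelian p (Subgroup.closure {x : G | x ^ p = 1}) ∧
      Nat.card (Subgroup.closure {x : G | x ^ p = 1}) = p ^ 2 := by
  obtain ⟨E, hE, hcard⟩ := exists_omega_of_cyclic_index hp2 hG hnc C hC hCi
  have : {x : G | x ^ p = 1} = E := by ext x; simp [hE]
  rw [this, Subgroup.closure_eq]
  exact ⟨⟨IsPGroup.isMulCommutative_of_card_eq_prime_sq hcard, fun a ha => (hE a).1 ha⟩, hcard⟩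

/-- Non-abelian `2`-groups with a cyclic subgroup of index `2`. -/
theorem exists_gens_two (hG : IsPGroup 2 G) (C : Subgroup G) (hC : IsCyclic C)
    (hCi : C.index = 2) (hna : ∃ x y : G, x * y ≠ y * x) :
    ∃ (a b : G) (m : ℕ), C = Subgroup.zpowers a ∧ orderOf a = 2 ^ (m + 2) ∧
      Nat.card G = 2 ^ (m + 3) ∧ b ∉ C ∧
      ((b ^ 2 = 1 ∧ b * a * b⁻¹ = a⁻¹) ∨ (b ^ 2 = a ^ (2 ^ (m + 1)) ∧ b * a * b⁻¹ = a⁻¹) ∨
       (1 ≤ m ∧ b ^ 2 = 1 ∧ b * a * b⁻¹ = a ^ (1 + 2 ^ (m + 1))) ∨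
       (1 ≤ m ∧ b ^ 2 = 1 ∧ b * a * b⁻¹ = a ^ (2 ^ (m + 1) - 1))) := by
  obtain ⟨x, y, hxy⟩ := hna
  have hnc : ¬ IsCyclic G := fun h => hxy (mul_comm' x y)
  obtain ⟨a, m, rfl, ha, hcard⟩ := exists_generator hG C hC hCi
  have hN := normal_of_index_eq hG hCi
  obtain ⟨b, hb⟩ : ∃ b, b ∉ Subgroup.zpowers a := by
    by_contra! h
    exact hnc ⟨⟨a, h⟩⟩
  obtain ⟨r, hr⟩ := exists_conj_eq_zpow hN b
  have h1 := dvd_pow_sub_one_of_conj hr (pow_mem_of_index hCi b)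
  rw [ha] at h1; push_cast at h1
  have hord : ∀ i j : ℤ, a ^ i = a ^ j ↔ (2 : ℤ) ^ m ∣ j - i := by
    intro i j
    rw [zpow_eq_zpow_iff_modEq, ha, Int.modEq_iff_dvd]; push_cast; rfl
  have hnd : ¬ (2 : ℤ) ^ m ∣ r - 1 := by
    intro h
    apply hxy
    apply mul_comm_of_commute hCi hb
    rw [← hord, ← hr, zpow_one, eq_mul_inv_iff_mul_eq] at h
    exact h
  obtain ⟨m, rfl⟩ : ∃ k, m = k + 2 := by
    rcases m with _ | _ | m
    · simp at hnd
    · exfalso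
      apply hnd
      have : r - 1 = (r ^ 2 - 1) - r * (r - 1) := by ring
      rw [this]
      exact dvd_sub h1 (by simpa using (Int.even_mul_pred_self r).two_dvd)
    · exact ⟨m, rfl⟩
  obtain ⟨t, ht⟩ := exists_pow_eq_of_not_isCyclic hG hnc hCi hb
  push_cast at ht
  -- `b ^ 2` commutes with `b`
  have hcomm : (2 : ℤ) ^ (m + 2) ∣ t * 2 * (r - 1) := by
    have := conj_zpow_of_conj hr (t * 2)
    rw [← ht] at this
    have e : b * b ^ 2 * b⁻¹ = b ^ 2 := by group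
    rw [e, ht, hord] at this
    exact this.trans (dvd_of_eq (by ring))
  have hmem : ∀ u : ℤ, a ^ u * b ∉ Subgroup.zpowers a := by
    intro u h
    apply hb
    simpa using Subgroup.mul_mem _ (Subgroup.zpow_mem _ (Subgroup.mem_zpowers a) (-u)) h
  have hconj : ∀ u : ℤ, a ^ u * b * a * (a ^ u * b)⁻¹ = a ^ r := by
    intro u
    have : a ^ u * b * a * (a ^ u * b)⁻¹ = a ^ u * (b * a * b⁻¹) * (a ^ u)⁻¹ := by group
    rw [this, hr]; group
  have hsq : ∀ u : ℤ, (a ^ u * b) ^ 2 = a ^ (u * (1 + r) + t * 2) := by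
    intro u
    rw [zpow_mul_pow_of_conj hr, ht, ← zpow_add]
    simp [Finset.sum_range_succ]
  -- parity of a quotient
  have hpar : ∀ s : ℤ, (2 : ℤ) ^ (m + 1) ∣ s →
      (2 : ℤ) ^ (m + 2) ∣ s ∨ (2 : ℤ) ^ (m + 2) ∣ s - 2 ^ (m + 1) := by
    rintro _ ⟨k, rfl⟩
    rcases Int.even_or_odd' k with ⟨l, rfl | rfl⟩
    · exact Or.inl ⟨l, by ring⟩
    · exact Or.inr ⟨l, by ring⟩
  -- if `r ≡ -1` modulo `2 ^ (m+1)` and modulo `4`, then `b ^ 2` has order at most `2`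
  have hinv : (4 : ℤ) ∣ r + 1 → (2 : ℤ) ^ (m + 1) ∣ t * 2 := by
    rintro ⟨k, hk⟩
    have e : t * 2 * (r - 1) = 2 * (t * 2 * (2 * k - 1)) := by
      have : r = 4 * k - 1 := by linarith
      rw [this]; ring
    rw [e, pow_succ' _ (m + 1), mul_dvd_mul_iff_left (by norm_num)] at hcomm
    have : IsCoprime ((2 : ℤ) ^ (m + 1)) (2 * k - 1) := by
      apply IsCoprime.pow_left
      rw [Int.prime_two.coprime_iff_not_dvd]
      omega
    exact this.dvd_of_dvd_mul_right hcomm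
  have hcase1 : (2 : ℤ) ^ (m + 2) ∣ r + 1 → ∃ b : G, b ∉ Subgroup.zpowers a ∧
      ((b ^ 2 = 1 ∧ b * a * b⁻¹ = a⁻¹) ∨ (b ^ 2 = a ^ (2 ^ (m + 1)) ∧ b * a * b⁻¹ = a⁻¹)) := by
    intro h
    have h4 : (4 : ℤ) ∣ r + 1 := (Dvd.intro_left (2 ^ m) (by ring)).trans h
    have hr' : b * a * b⁻¹ = a⁻¹ := by
      rw [hr, ← zpow_neg_one, eq_comm, hord]; simpa using h
    refine ⟨b, hb, ?_⟩
    rcases hpar _ (hinv h4) with h5 | h5
    · left
      refine ⟨?_, hr'⟩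
      rw [ht, ← zpow_zero a, eq_comm, hord]; simpa using h5
    · right
      refine ⟨?_, hr'⟩
      rw [ht, ← zpow_natCast, eq_comm, hord]; simpa using h5
  rcases Nat.eq_zero_or_pos m with rfl | hm
  · -- order 8
    have h4 : (2 : ℤ) ^ (0 + 2) ∣ r + 1 := by
      rcases dvd_sub_or_add_one_of_sq r 1 h1 with h | h <;> norm_num at hnd h ⊢ <;> omega
    obtain ⟨b', hb', h⟩ := hcase1 h4
    refine ⟨a, b', 0, rfl, ha, hcard, hb', ?_⟩
    rcases h with h | h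
    · exact Or.inl h
    · exact Or.inr (Or.inl h)
  obtain ⟨m, rfl⟩ : ∃ k, m = k + 1 := ⟨m - 1, by omega⟩
  rcases dvd_sub_or_add_one_of_sq r (m + 1 + 1) h1 with h | h
  · -- modular
    rcases hpar _ h with h2 | h2
    · exact absurd h2 hnd
    obtain ⟨k, hk⟩ := h2
    -- solve `u (1 + r) + 2 t ≡ 0`
    have hcop : IsCoprime (1 + 2 ^ (m + 1) + 2 ^ (m + 2) * k) ((2 : ℤ) ^ (m + 2)) := by
      apply IsCoprime.pow_right
      apply IsCoprime.symm
      rw [Int.prime_two.coprime_iff_not_dvd]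
      have : (1 : ℤ) + 2 ^ (m + 1) + 2 ^ (m + 2) * k = 2 * (2 ^ m + 2 ^ (m + 1) * k) + 1 := by ring
      omega
    obtain ⟨u, v, huv⟩ := hcop
    refine ⟨a, a ^ (-t * u) * b, m + 1, rfl, ha, hcard, hmem _, Or.inr (Or.inr (Or.inl
      ⟨by omega, ?_, ?_⟩))⟩
    · rw [hsq, ← zpow_zero a, eq_comm, hord]
      refine ⟨t * v, ?_⟩
      have : r = 1 + 2 ^ (m + 2) + 2 ^ (m + 3) * k := by linear_combination hk
      rw [this]
      linear_combination (-2 * t) * huv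
    · rw [hconj, ← zpow_natCast, eq_comm, hord]
      exact ⟨k, by push_cast; linear_combination hk⟩
  · rcases hpar _ h with h2 | h2
    · obtain ⟨b', hb', h⟩ := hcase1 h2
      refine ⟨a, b', m + 1, rfl, ha, hcard, hb', ?_⟩
      rcases h with h | h
      · exact Or.inl h
      · exact Or.inr (Or.inl h)
    -- semidihedral
    have h4 : (4 : ℤ) ∣ r + 1 := (Dvd.intro_left (2 ^ m) (by ring)).trans h
    have hpow : ∀ u : ℤ, a ^ u * b * a * (a ^ u * b)⁻¹ = a ^ (2 ^ (m + 1 + 1) - 1) := by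
      intro u
      rw [hconj, ← zpow_natCast, eq_comm, hord, Nat.cast_sub Nat.one_le_two_pow]
      push_cast
      exact h2.trans (dvd_of_eq (by ring))
    rcases hpar _ (hinv h4) with h5 | h5
    · refine ⟨a, a ^ (0 : ℤ) * b, m + 1, rfl, ha, hcard, hmem _, Or.inr (Or.inr (Or.inr
        ⟨by omega, ?_, hpow _⟩))⟩
      rw [hsq, ← zpow_zero a, eq_comm, hord]; simpa using h5
    · refine ⟨a, a ^ (1 : ℤ) * b, m + 1, rfl, ha, hcard, hmem _, Or.inr (Or.inr (Or.inr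
        ⟨by omega, ?_, hpow _⟩))⟩
      rw [hsq, ← zpow_zero a, eq_comm, hord]
      have := dvd_add (dvd_add h2 h5) (dvd_refl ((2 : ℤ) ^ (m + 1 + 2)))
      exact this.trans (dvd_of_eq (by ring))

end CL.PGrp.CycMax
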