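import Cfsg.Agent.Base

/-!
# Commutator chains `N ≥ [N,G] ≥ [N,G,G] ≥ …` of `p`-groups; normal subgroups of each order
-/

namespace CL.PGrp.Chain

open Subgroup
open scoped commutatorElement

variable {L : Type*} [Group L]

theorem iterCommutator_le_lowerCentralSeries (N G : Subgroup L) (i : ℕ) :
    Cfsg.iterCommutator N G i ≤ (N ⊔ G).lowerCentralSeries i := by
  induction i with
  | zero => exact le_sup_left
  | succ i ih => exact commutator_mono ih le_sup_right

theorem le_normalizer_iterCommutator {N G : Subgroup L} (hGN : G ≤ normalizer (N : Set L))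
    (i : ℕ) : G ≤ normalizer (Cfsg.iterCommutator N G i : Set L) := by
  cases i with
  | zero => exact hGN
  | succ i => exact normalizer_commutator_ge_right _ _

theorem iterCommutator_succ_le {N G : Subgroup L} (hGN : G ≤ normalizer (N : Set L)) (i : ℕ) :
    Cfsg.iterCommutator N G (i + 1) ≤ Cfsg.iterCommutator N G i :=
  le_normalizer_iff_commutator_le_left.1 (le_normalizer_iterCommutator hGN i)

theorem iterCommutator_antitone {N G : Subgroup L} (hGN : G ≤ normalizer (N : Set L)) :
    Antitone (Cfsg.iterCommutator N G) :=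
  antitone_nat_of_succ_le (iterCommutator_succ_le hGN)

theorem iterCommutator_le {N G : Subgroup L} (hGN : G ≤ normalizer (N : Set L)) (i : ℕ) :
    Cfsg.iterCommutator N G i ≤ N :=
  iterCommutator_antitone hGN (Nat.zero_le i)

theorem iterCommutator_mono {N N' G G' : Subgroup L} (hN : N ≤ N') (hG : G ≤ G') (i : ℕ) :
    Cfsg.iterCommutator N G i ≤ Cfsg.iterCommutator N' G' i := by
  induction i with
  | zero => exact hN
  | succ i ih => exact commutator_mono ih hG

variable [Finite L] {p : ℕ} [hp : Fact p.Prime]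

theorem exists_iterCommutator_eq_bot {N G : Subgroup L} (hN : IsPGroup p N) (hG : IsPGroup p G)
    (hGN : G ≤ normalizer (N : Set L)) : ∃ k, Cfsg.iterCommutator N G k = ⊥ := by
  have h := (IsPGroup.to_sup_of_normal_left' hN hG hGN).isNilpotent
  obtain ⟨k, hk⟩ := (isNilpotent_iff_lowerCentralSeries _).1 h
  exact ⟨k, le_bot_iff.1 (hk ▸ iterCommutator_le_lowerCentralSeries N G k)⟩

/-- A `p`-group `G` normalising a nontrivial `p`-group `H` has `[H, G] < H`. -/
theorem commutator_lt {H G : Subgroup L} (hH : IsPGroup p H) (hG : IsPGroup p G)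
    (hGH : G ≤ normalizer (H : Set L)) (hne : H ≠ ⊥) : ⁅H, G⁆ < H := by
  refine lt_of_le_of_ne (le_normalizer_iff_commutator_le_left.1 hGH) fun h => hne ?_
  obtain ⟨k, hk⟩ := exists_iterCommutator_eq_bot hH hG hGH
  have : ∀ i, Cfsg.iterCommutator H G i = H := by
    intro i
    induction i with
    | zero => rfl
    | succ i ih => rw [Cfsg.iterCommutator, ih, h]
  rw [← this k, hk]

/-- Proper subgroups of `p`-groups have index at least `p`. -/
theorem mul_card_le_of_lt {H K : Subgroup L} (hK : IsPGroup p K) (h : H < K) :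
    p * Nat.card H ≤ Nat.card K := by
  obtain ⟨a, ha⟩ := IsPGroup.iff_card.1 (hK.to_le h.le)
  obtain ⟨b, hb⟩ := IsPGroup.iff_card.1 hK
  have h1 : Nat.card H < Nat.card K := by
    refine lt_of_le_of_ne (card_le_of_le h.le) fun e => h.ne ?_
    exact eq_of_le_of_card_ge h.le e.ge
  rw [ha, hb] at h1 ⊢
  rw [← pow_succ']
  exact Nat.pow_le_pow_right hp.out.pos ((Nat.pow_lt_pow_iff_right hp.out.one_lt).1 h1)

/-- If `K < A` are subgroups with `A` a `p`-group, there is `B` with `K ≤ B ≤ A` of index `p`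
in `A`. -/
theorem exists_index_p_between {K A : Subgroup L} (hA : IsPGroup p A) (h : K < A) :
    ∃ B : Subgroup L, K ≤ B ∧ B ≤ A ∧ p * Nat.card B = Nat.card A := by
  obtain ⟨a, ha⟩ := IsPGroup.iff_card.1 (hA.to_le h.le)
  obtain ⟨b, hb⟩ := IsPGroup.iff_card.1 hA
  have h1 := mul_card_le_of_lt hA h
  rw [ha, hb, ← pow_succ', Nat.pow_le_pow_iff_right hp.out.one_lt] at h1
  obtain ⟨b, rfl⟩ : ∃ c, b = c + 1 := ⟨b - 1, by omega⟩
  have h2 : Nat.card (K.subgroupOf A) = p ^ a := by
    rw [← ha]; exact Nat.card_congr (subgroupOfEquivOfLe h.le).toEquiv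
  obtain ⟨B, hB, hKB⟩ := Sylow.exists_subgroup_card_pow_prime_le (G := A) p (m := b)
    (by rw [hb]; exact pow_dvd_pow _ (Nat.le_succ b)) (K.subgroupOf A) h2 (by omega)
  refine ⟨B.map A.subtype, ?_, map_subtype_le B, ?_⟩
  · intro x hx
    exact ⟨⟨x, h.le hx⟩, hKB hx, rfl⟩
  · rw [card_map_of_injective A.subtype_injective, hB, hb, pow_succ']

/-- A proper `G`-invariant subgroup `H` of the `p`-group `N` lies, together with `[N, G]`, in a
proper subgroup of `N`. -/
theorem sup_commutator_lt {N G H : Subgroup L} (hN : IsPGroup p N) (hG : IsPGroup p G)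
    (hGN : G ≤ normalizer (N : Set L)) (hH : H < N) (hGH : G ≤ normalizer (H : Set L)) :
    H ⊔ ⁅N, G⁆ < N := by
  classical
  -- a maximal `G`-invariant proper subgroup `M` of `N` containing `H`
  obtain ⟨M, hHM, hM⟩ := Finite.exists_le_maximal
    (p := fun M : Subgroup L => M < N ∧ G ≤ normalizer (M : Set L)) ⟨hH, hGH⟩
  obtain ⟨hMN, hGM⟩ := hM.prop
  have hmax : ∀ F : Subgroup L, M < F → F ≤ N → G ≤ normalizer (F : Set L) → F = N := by
    intro F h1 h2 h3
    by_contra h4
    exact h1.not_ge (hM.le_of_ge ⟨lt_of_le_of_ne h2 h4, h3⟩ h1.le)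
  -- `M` is normal in `N`
  have hNM : N ≤ normalizer (M : Set L) := by
    have h1 : M.subgroupOf N < ⊤ := by
      rw [lt_top_iff_ne_top, Ne, subgroupOf_eq_top]; exact hMN.not_ge
    have := hN.isNilpotent
    have h2 := Group.normalizerCondition_of_isNilpotent (M.subgroupOf N) h1
    obtain ⟨x, hx1, hx2⟩ := SetLike.exists_of_lt h2
    rw [← subgroupOf_normalizer_eq hMN.le] at hx1
    have h3 := hmax (N ⊓ normalizer (M : Set L))
      (lt_of_le_of_ne (le_inf hMN.le le_normalizer) fun e => hx2 (by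
        rw [mem_subgroupOf, e]; exact ⟨x.2, hx1⟩)) inf_le_left (by
      rw [le_normalizer_iff]
      rintro g hg y ⟨hy1, hy2⟩
      refine ⟨le_normalizer_iff.1 hGN g hg y hy1, ?_⟩
      exact (normalizer (M : Set L)).mul_mem ((normalizer (M : Set L)).mul_mem (hGM hg) hy2)
        ((normalizer (M : Set L)).inv_mem (hGM hg)))
    rw [← h3]; exact inf_le_right
  -- the elements of `N` centralised by `G` modulo `M`
  let F : Subgroup L :=
    { carrier := {x | x ∈ N ∧ ∀ g ∈ G, ⁅x, g⁆ ∈ M}
      one_mem' := ⟨one_mem _, fun g _ => by simp⟩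
      mul_mem' := by
        rintro x y ⟨hx, hx'⟩ ⟨hy, hy'⟩
        refine ⟨mul_mem hx hy, fun g hg => ?_⟩
        rw [commutatorElement_mul_left_eq_conj_mul]
        exact mul_mem (le_normalizer_iff.1 hNM x hx _ (hy' g hg)) (hx' g hg)
      inv_mem' := by
        rintro x ⟨hx, hx'⟩
        refine ⟨inv_mem hx, fun g hg => ?_⟩
        rw [commutatorElement_inv_left, ← commutatorElement_inv]
        simpa using le_normalizer_iff.1 hNM x⁻¹ (inv_mem hx) _ (inv_mem (hx' g hg)) }
  have hFN : F ≤ N := fun x hx => hx.1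
  have hMF : M ≤ F := fun x hx => ⟨hMN.le hx, fun g hg =>
    le_normalizer_iff_commutator_le_left.1 hGM (commutator_mem_commutator hx hg)⟩
  have hGF : G ≤ normalizer (F : Set L) := by
    rw [le_normalizer_iff]
    rintro g hg y ⟨hy1, hy2⟩
    refine ⟨le_normalizer_iff.1 hGN g hg y hy1, fun k hk => ?_⟩
    have : ⁅g * y * g⁻¹, k⁆ = g * ⁅y, g⁻¹ * k * g⁆ * g⁻¹ := by
      simp only [commutatorElement_def]; group
    rw [this]
    exact le_normalizer_iff.1 hGM g hg _ (hy2 _ (mul_mem (mul_mem (inv_mem hg) hk) hg))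
  have hex : ∃ k, Cfsg.iterCommutator N G k ≤ M := by
    obtain ⟨k, hk⟩ := exists_iterCommutator_eq_bot hN hG hGN
    exact ⟨k, hk ▸ bot_le⟩
  have hk0 : Nat.find hex ≠ 0 := fun e => hMN.not_ge (by
    have := Nat.find_spec hex
    rwa [e] at this)
  obtain ⟨j, hj⟩ := Nat.exists_eq_succ_of_ne_zero hk0
  have h1 : ¬ Cfsg.iterCommutator N G j ≤ M := Nat.find_min hex (by omega)
  have h2 : Cfsg.iterCommutator N G (j + 1) ≤ M := by
    have := Nat.find_spec hex
    rwa [hj] at this
  have h3 : Cfsg.iterCommutator N G j ≤ F := fun x hx =>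
    ⟨iterCommutator_le hGN j hx, fun g hg => h2 (commutator_mem_commutator hx hg)⟩
  have h4 : F = N := hmax F (lt_of_le_of_ne hMF fun e => h1 (e ▸ h3)) hFN hGF
  refine lt_of_le_of_lt (sup_le hHM ?_) hMN
  rw [commutator_le]
  intro x hx g hg
  rw [← h4] at hx
  exact hx.2 g hg

/-- Upper bound for the orders in the commutator chain. -/
theorem pow_mul_card_iterCommutator_le {N G : Subgroup L} (hN : IsPGroup p N) (hG : IsPGroup p G)
    (hGN : G ≤ normalizer (N : Set L)) (i j : ℕ) (h : Cfsg.iterCommutator N G (i + j) ≠ ⊥) :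
    p ^ (j + 1) * Nat.card (Cfsg.iterCommutator N G (i + j + 1)) ≤
      Nat.card (Cfsg.iterCommutator N G i) := by
  have step : ∀ k, Cfsg.iterCommutator N G k ≠ ⊥ →
      p * Nat.card (Cfsg.iterCommutator N G (k + 1)) ≤ Nat.card (Cfsg.iterCommutator N G k) :=
    fun k hk => mul_card_le_of_lt (hN.to_le (iterCommutator_le hGN k))
      (commutator_lt (hN.to_le (iterCommutator_le hGN k)) hG
        (le_normalizer_iterCommutator hGN k) hk)
  induction j with
  | zero => simpa using step i h
  | succ j ih =>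
    have h1 : Cfsg.iterCommutator N G (i + j) ≠ ⊥ := fun e => h (le_bot_iff.1
      (e ▸ iterCommutator_antitone hGN (by omega)))
    calc p ^ (j + 1 + 1) * Nat.card (Cfsg.iterCommutator N G (i + (j + 1) + 1))
        = p ^ (j + 1) * (p * Nat.card (Cfsg.iterCommutator N G (i + (j + 1) + 1))) := by ring
      _ ≤ p ^ (j + 1) * Nat.card (Cfsg.iterCommutator N G (i + j + 1)) :=
          Nat.mul_le_mul_left _ (step _ h)
      _ ≤ _ := ih h1

variable {R : Type*} [Group R] [Finite R]

/-- In a finite `p`-group, a nontrivial normal subgroup `A` has `[A, R] < A`. -/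
theorem commutator_top_lt (hR : IsPGroup p R) {A : Subgroup R} [A.Normal] (hA : A ≠ ⊥) :
    ⁅A, (⊤ : Subgroup R)⁆ < A :=
  commutator_lt (hR.to_subgroup A) (hR.to_subgroup ⊤) (by rw [normalizer_eq_top]) hA

/-- Between normal subgroups `K < A` of a finite `p`-group there is a normal subgroup of index `p`
in `A`. -/
theorem exists_normal_index_p_between (hR : IsPGroup p R) {K A : Subgroup R} [K.Normal]
    [A.Normal] (h : K < A) :
    ∃ B : Subgroup R, B.Normal ∧ K ≤ B ∧ B ≤ A ∧ p * Nat.card B = Nat.card A := by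
  have h1 := sup_commutator_lt (hR.to_subgroup A) (hR.to_subgroup ⊤)
    (by rw [normalizer_eq_top]) h (by rw [normalizer_eq_top])
  obtain ⟨B, hB1, hB2, hB3⟩ := exists_index_p_between (hR.to_subgroup A) h1
  refine ⟨B, ?_, le_sup_left.trans hB1, hB2, hB3⟩
  rw [← commutator_top_right_le_iff]
  exact (commutator_mono hB2 le_rfl).trans (le_sup_right.trans hB1)

/-- Between normal subgroups `K ≤ A` of a finite `p`-group there are normal subgroups of every
intermediate order. -/
theorem exists_normal_card_between (hR : IsPGroup p R) {K A : Subgroup R} [K.Normal] [A.Normal]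
    (h : K ≤ A) {j : ℕ} (hK : Nat.card K ≤ p ^ j) (hA : p ^ j ≤ Nat.card A) :
    ∃ B : Subgroup R, B.Normal ∧ K ≤ B ∧ B ≤ A ∧ Nat.card B = p ^ j := by
  obtain ⟨n, hn⟩ := IsPGroup.iff_card.1 (hR.to_subgroup A)
  rw [hn, Nat.pow_le_pow_iff_right hp.out.one_lt] at hA
  obtain ⟨d, rfl⟩ := Nat.exists_eq_add_of_le hA
  clear hA
  induction d generalizing A with
  | zero => exact ⟨A, inferInstance, h, le_rfl, hn⟩
  | succ d ih =>
    have hlt : K < A := lt_of_le_of_ne h fun e => by
      rw [e, hn, Nat.pow_le_pow_iff_right hp.out.one_lt] at hK; omega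
    obtain ⟨B, hB0, hB1, hB2, hB3⟩ := exists_normal_index_p_between hR hlt
    rw [hn, ← add_assoc, pow_succ'] at hB3
    obtain ⟨C, hC0, hC1, hC2, hC3⟩ := ih hB1 (Nat.eq_of_mul_eq_mul_left hp.out.pos hB3)
    exact ⟨C, hC0, hC1, hC2.trans hB2, hC3⟩

/-- A normal subgroup of a finite `p`-group contains normal subgroups of every smaller order. -/
theorem exists_normal_card_le (hR : IsPGroup p R) (A : Subgroup R) [A.Normal] {j : ℕ}
    (hA : p ^ j ≤ Nat.card A) : ∃ B : Subgroup R, B.Normal ∧ B ≤ A ∧ Nat.card B = p ^ j := by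
  obtain ⟨B, h0, -, h2, h3⟩ := exists_normal_card_between hR (K := ⊥) (A := A) bot_le
    (by rw [card_bot]; exact Nat.one_le_pow _ _ hp.out.pos) hA
  exact ⟨B, h0, h2, h3⟩

/-- If normal subgroups `K ≤ A` of a finite `p`-group have `|A| ≤ p |K|` then `[A, R] ≤ K`. -/
theorem commutator_top_le_of_card_le (hR : IsPGroup p R) {K A : Subgroup R} [K.Normal] [A.Normal]
    (h : K ≤ A) (hc : Nat.card A ≤ p * Nat.card K) : ⁅A, (⊤ : Subgroup R)⁆ ≤ K := by
  rcases h.eq_or_lt with rfl | h'
  · exact commutator_le_left _ _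
  have h1 := sup_commutator_lt (hR.to_subgroup A) (hR.to_subgroup ⊤)
    (by rw [normalizer_eq_top]) h' (by rw [normalizer_eq_top])
  have h2 := mul_card_le_of_lt (hR.to_subgroup A) h1
  have h3 : K = K ⊔ ⁅A, ⊤⁆ := eq_of_le_of_card_ge le_sup_left
    (Nat.le_of_mul_le_mul_left (h2.trans hc) hp.out.pos)
  rw [h3]; exact le_sup_right

/-- A normal subgroup of order at most `p` of a finite `p`-group is central. -/
theorem le_center_of_card_le (hR : IsPGroup p R) {A : Subgroup R} [A.Normal]
    (hc : Nat.card A ≤ p) : A ≤ center R := by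
  rw [← commutator_top_right_eq_bot_iff_le_center, ← le_bot_iff]
  exact commutator_top_le_of_card_le hR bot_le (by simpa using hc)

end CL.PGrp.Chain
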