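import Cfsg.Agent.Base
import Cfsg.Agent.PGrp.CyclicMax
import Cfsg.Agent.PGrp.Uniserial

/-!
# `R/R'` for finite `p`-groups, bounds for the nilpotency class, counting subgroups of order `p`
-/

namespace CL.PGrp.Chain

open Subgroup

variable {R : Type*} [Group R] [Finite R] {p : ℕ} [hp : Fact p.Prime]

omit [Finite R] hp in
theorem lowerCentralSeries_eq_iterCommutator (N : Subgroup R) (i : ℕ) :
    N.lowerCentralSeries i = Cfsg.iterCommutator N N i := by
  induction i with
  | zero => rfl
  | succ i ih => rw [Subgroup.lowerCentralSeries_succ, ih]; rfl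

/-- Every proper subgroup of a finite `p`-group lies in a normal subgroup of index `p`, which
contains the derived subgroup and all `p`-th powers. -/
theorem exists_maximal_ge (hR : IsPGroup p R) {H : Subgroup R} (hH : H ≠ ⊤) :
    ∃ M : Subgroup R, M.Normal ∧ H ≤ M ∧ M.index = p ∧ commutator R ≤ M ∧ ∀ x : R, x ^ p ∈ M := by
  obtain ⟨B, hB1, -, hB3⟩ := exists_index_p_between (hR.to_subgroup ⊤) (lt_top_iff_ne_top.2 hH)
  rw [card_top] at hB3
  have hi : B.index = p := by
    have := B.index_mul_card
    rw [← hB3] at this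
    exact Nat.eq_of_mul_eq_mul_right Nat.card_pos this
  have hN := CycMax.normal_of_index_eq hR hi
  refine ⟨B, hN, hB1, hi, ?_, CycMax.pow_mem_of_index hi⟩
  exact commutator_top_le_of_card_le hR le_top (by rw [card_top, hB3])

/-- In a finite `p`-group, `H R' = R` forces `H = R`. -/
theorem eq_top_of_sup_commutator (hR : IsPGroup p R) {H : Subgroup R}
    (h : H ⊔ commutator R = ⊤) : H = ⊤ := by
  by_contra hH
  obtain ⟨M, -, h1, h2, h3, -⟩ := exists_maximal_ge hR hH
  have : M = ⊤ := top_le_iff.1 (h ▸ sup_le h1 h3)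
  rw [this, index_top] at h2
  exact hp.out.one_lt.ne h2

/-- A finite `p`-group whose quotient by a subgroup of `R'` is cyclic is cyclic. -/
theorem isCyclic_of_quotient (hR : IsPGroup p R) {N : Subgroup R} [N.Normal]
    (hN : N ≤ commutator R) (h : IsCyclic (R ⧸ N)) : IsCyclic R := by
  obtain ⟨g, hg⟩ := h.exists_generator
  obtain ⟨x, rfl⟩ := QuotientGroup.mk_surjective g
  have : zpowers x ⊔ commutator R = ⊤ := by
    rw [eq_top_iff]
    intro y _
    obtain ⟨k, hk⟩ := hg (y : R ⧸ N)
    simp only [← QuotientGroup.mk_zpow] at hk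
    rw [QuotientGroup.eq] at hk
    have : y = x ^ k * ((x ^ k)⁻¹ * y) := by group
    rw [this]
    exact mul_mem_sup (zpow_mem (mem_zpowers x) k) (hN hk)
  exact ⟨⟨x, fun y => (eq_top_of_sup_commutator hR this).ge (mem_top y)⟩⟩

/-- A non-cyclic finite `p`-group has `|R : R'| ≥ p ^ 2`. -/
theorem sq_mul_card_commutator_le (hR : IsPGroup p R) (hnc : ¬ IsCyclic R) :
    p ^ 2 * Nat.card (commutator R) ≤ Nat.card R := by
  obtain ⟨k, hk⟩ := hR.index (commutator R)
  rw [← (commutator R).index_mul_card, hk]
  refine Nat.mul_le_mul_right _ (Nat.pow_le_pow_right hp.out.pos ?_)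
  by_contra! hlt
  apply hnc
  apply isCyclic_of_quotient hR le_rfl
  apply isCyclic_of_card_dvd_prime (p := p)
  rw [← index_eq_card, hk]
  interval_cases k <;> simp

/-- A `p`-group of order at most `p ^ (m + 2)` has nilpotency class at most `m + 1`. -/
theorem lowerCentralSeries_eq_bot_of_card_le (hR : IsPGroup p R) {m : ℕ}
    (hm : Nat.card R ≤ p ^ (m + 2)) : (⊤ : Subgroup R).lowerCentralSeries (m + 1) = ⊥ := by
  by_contra h
  have hnc : ¬ IsCyclic R := fun hc => h (le_bot_iff.1 (by
    have h1 : (⊤ : Subgroup R).lowerCentralSeries 1 = ⊥ := by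
      rw [top_lowerCentralSeries_one]; exact commutator_eq_bot R
    exact h1 ▸ Subgroup.lowerCentralSeries_antitone _ (by omega)))
  have h1 := sq_mul_card_commutator_le hR hnc
  rw [lowerCentralSeries_eq_iterCommutator, add_comm] at h
  have h2 := pow_mul_card_iterCommutator_le (hR.to_subgroup ⊤) (hR.to_subgroup ⊤) le_normalizer
    1 m h
  have h3 : p ^ (m + 1) ≤ Nat.card (commutator R) :=
    (Nat.le_mul_of_pos_right _ Nat.card_pos).trans h2
  have h4 : p ^ 2 * p ^ (m + 1) ≤ p ^ (m + 2) := (Nat.mul_le_mul_left _ h3).trans (h1.trans hm)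
  rw [← pow_add, Nat.pow_le_pow_iff_right hp.out.one_lt] at h4
  omega

/-- A normal subgroup of index at most `p ^ 2` of a finite `p`-group contains `R'`. -/
theorem commutator_le_of_index_le_sq (hR : IsPGroup p R) {N : Subgroup R} [N.Normal]
    (h : N.index ≤ p ^ 2) : commutator R ≤ N := by
  have h1 := lowerCentralSeries_eq_bot_of_card_le (m := 0) (hR.to_quotient N) h
  rw [zero_add, top_lowerCentralSeries_one, commutator_eq_bot_iff] at h1
  exact Normal.quotient_commutative_iff_commutator_le.1 h1

/-- A normal subgroup of index at most `p ^ (m + 2)` contains the corresponding term of the lower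
central series. -/
theorem lowerCentralSeries_le_of_index_le (hR : IsPGroup p R) {N : Subgroup R} [N.Normal] {m : ℕ}
    (h : N.index ≤ p ^ (m + 2)) : (⊤ : Subgroup R).lowerCentralSeries (m + 1) ≤ N := by
  have h1 := lowerCentralSeries_eq_bot_of_card_le (hR.to_quotient N) h
  rw [← map_top_of_surjective _ (QuotientGroup.mk'_surjective N), ← map_lowerCentralSeries,
    Subgroup.map_eq_bot_iff, QuotientGroup.ker_mk'] at h1
  exact h1

/-- The number of elements of order `p` is `p - 1` times the number of subgroups of order `p`. -/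
theorem card_orderOf_eq_mul_card_subgroups :
    Nat.card {x : R // orderOf x = p} = (p - 1) * Nat.card {H : Subgroup R // Nat.card H = p} := by
  classical
  have := Fintype.ofFinite R
  have := Fintype.ofFinite (Subgroup R)
  rw [Nat.subtype_card (Finset.univ.filter fun x : R => orderOf x = p) (by simp),
    Nat.subtype_card (Finset.univ.filter fun H : Subgroup R => Nat.card H = p) (by simp),
    Finset.card_eq_sum_card_fiberwise (f := fun x => zpowers x)
      (t := Finset.univ.filter fun H : Subgroup R => Nat.card H = p), mul_comm,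
    ← smul_eq_mul, ← Finset.sum_const]
  · apply Finset.sum_congr rfl
    intro H hH
    simp only [Finset.mem_filter, Finset.mem_univ, true_and] at hH
    have : ((Finset.univ.filter fun x : R => orderOf x = p).filter fun x => zpowers x = H) =
        (Finset.univ.filter fun x : R => x ∈ H).erase 1 := by
      ext x
      simp only [Finset.mem_filter, Finset.mem_univ, true_and, Finset.mem_erase]
      constructor
      · rintro ⟨h1, rfl⟩
        refine ⟨?_, mem_zpowers x⟩
        rintro rfl
        rw [orderOf_one] at h1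
        exact hp.out.one_lt.ne h1
      · rintro ⟨h1, h2⟩
        have h3 : orderOf x = p := by
          apply orderOf_eq_prime _ h1
          have := pow_card_eq_one' (x := (⟨x, h2⟩ : H))
          rw [hH] at this
          exact congrArg Subtype.val this
        exact ⟨h3, eq_of_le_of_card_ge (zpowers_le_of_mem h2) (by rw [hH, Nat.card_zpowers, h3])⟩
    rw [this, Finset.card_erase_of_mem (by simp),
      ← Nat.subtype_card (p := fun x => x ∈ H) _ (by simp), hH]
  · intro x hx
    simp only [Finset.coe_filter, Finset.mem_univ, true_and, Set.mem_ofPred_eq] at hx ⊢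
    rw [Nat.card_zpowers, hx]

/-- A non-cyclic group of order `p ^ 2` has exponent `p`. -/
theorem pow_eq_one_of_card_sq (hR : Nat.card R = p ^ 2) (hnc : ¬ IsCyclic R) (x : R) :
    x ^ p = 1 := by
  have h1 := orderOf_dvd_natCard x
  rw [hR, Nat.dvd_prime_pow hp.out] at h1
  obtain ⟨k, hk, h2⟩ := h1
  have : k ≠ 2 := by
    rintro rfl
    exact hnc (isCyclic_of_orderOf_eq_card x (h2.trans hR.symm))
  rw [← orderOf_dvd_iff_pow_eq_one, h2]
  interval_cases k <;> simp_all

/-- A non-cyclic group of order `p ^ 2` has `p + 1` subgroups of order `p`. -/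
theorem card_subgroups_of_card_sq (hR : Nat.card R = p ^ 2) (hnc : ¬ IsCyclic R) :
    Nat.card {H : Subgroup R // Nat.card H = p} = p + 1 := by
  classical
  have h1 := card_orderOf_eq_mul_card_subgroups (R := R) (p := p)
  have := Fintype.ofFinite R
  rw [Nat.subtype_card (Finset.univ.erase (1 : R)) (fun x => by
    simp only [Finset.mem_erase, Finset.mem_univ, and_true]
    constructor
    · exact fun h => orderOf_eq_prime (pow_eq_one_of_card_sq hR hnc x) h
    · rintro h rfl
      rw [orderOf_one] at h
      exact hp.out.one_lt.ne h), Finset.card_erase_of_mem (by simp), Finset.card_univ,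
    ← Nat.card_eq_fintype_card, hR] at h1
  have h2 : p ^ 2 - 1 = (p - 1) * (p + 1) := by
    rw [mul_comm, ← Nat.sq_sub_sq, one_pow]
  rw [h2] at h1
  exact (Nat.eq_of_mul_eq_mul_left (Nat.sub_pos_of_lt hp.out.one_lt) h1).symm

end CL.PGrp.Chain
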