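import Cfsg.Agent.PGrp.Power

/-!
Power maps and `Ω₁` in groups of class at most two (odd exponent) or three (`p > 3`).
-/

namespace CL.PGrp

open Subgroup
open scoped commutatorElement

variable {G : Type*} [Group G]

theorem commutatorElement_mem_commutator (x y : G) : ⁅x, y⁆ ∈ commutator G :=
  Subgroup.commutator_mem_commutator (mem_top x) (mem_top y)

theorem commute_of_commutator_le_center (h : commutator G ≤ center G) (x y g : G) :
    Commute ⁅x, y⁆ g :=
  (mem_center_iff.mp (h (commutatorElement_mem_commutator x y)) g).symm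

theorem commute_of_class_two (h2 : ⁅commutator G, (⊤ : Subgroup G)⁆ = ⊥) (x y g : G) :
    Commute ⁅x, y⁆ g :=
  commute_of_commutator_le_center (commutator_top_right_eq_bot_iff_le_center.mp h2) x y g

/-- If a set of elements with `x ^ n = 1` is closed under multiplication, every element of the
subgroup it generates satisfies `x ^ n = 1`. -/
theorem pow_eq_one_of_mem_closure {n : ℕ}
    (h : ∀ x y : G, x ^ n = 1 → y ^ n = 1 → (x * y) ^ n = 1) {g : G}
    (hg : g ∈ closure {x : G | x ^ n = 1}) : g ^ n = 1 := by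
  induction hg using Subgroup.closure_induction with
  | mem x hx => exact hx
  | one => simp
  | mul x y _ _ hx hy => exact h x y hx hy
  | inv x _ hx => rw [inv_pow, hx, inv_one]

/-- Class two, odd `n`: the elements with `x ^ n = 1` are closed under multiplication. -/
theorem mul_pow_eq_one_of_class_two (h2 : commutator G ≤ center G) {n : ℕ} (hn : Odd n) (x y : G)
    (hx : x ^ n = 1) (hy : y ^ n = 1) : (x * y) ^ n = 1 := by
  rw [mul_pow_of_odd' (commute_of_commutator_le_center h2 _ _ _)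
    (commute_of_commutator_le_center h2 _ _ _) hn (by rw [hy]; exact Commute.one_left x), hx, hy,
    one_mul]

/-- In class two, the commutator subgroup has exponent dividing `n` if all `n`-th powers are
central. -/
theorem pow_eq_one_of_mem_commutator (h2 : commutator G ≤ center G) {n : ℕ}
    (hn : ∀ x : G, x ^ n ∈ center G) {g : G} (hg : g ∈ commutator G) : g ^ n = 1 := by
  rw [commutator_eq_closure] at hg h2
  induction hg using Subgroup.closure_induction with
  | mem x hx =>
    obtain ⟨a, b, rfl⟩ := hx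
    rw [← commutator_pow_left (mem_center_iff.mp (h2 (subset_closure ⟨a, b, rfl⟩)) a).symm,
      commutatorElement_eq_one_iff_mul_comm]
    exact (mem_center_iff.mp (hn a) b).symm
  | one => simp
  | mul x y hx' _ hx hy =>
    have : Commute x y := (mem_center_iff.mp (h2 hx') y).symm
    rw [this.mul_pow, hx, hy, one_mul]
  | inv x _ hx => rw [inv_pow, hx, inv_one]

theorem commute_of_class_three (h3 : ⁅⁅commutator G, (⊤ : Subgroup G)⁆, (⊤ : Subgroup G)⁆ = ⊥)
    {c : G} (hc : c ∈ commutator G) (x g : G) : Commute ⁅c, x⁆ g :=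
  (mem_center_iff.mp (commutator_top_right_eq_bot_iff_le_center.mp h3
    (Subgroup.commutator_mem_commutator hc (mem_top x))) g).symm

/-- The collection formula in a group of class at most three, with explicit commutators. -/
theorem exists_mul_pow_class_three
    (h3 : ⁅⁅commutator G, (⊤ : Subgroup G)⁆, (⊤ : Subgroup G)⁆ = ⊥) (x y : G) :
    ∃ c d e : G, c = ⁅y⁻¹, x⁻¹⁆ ∧ d = ⁅c⁻¹, x⁻¹⁆ ∧ e = ⁅c⁻¹, y⁻¹⁆ ∧
      (∀ g, Commute d g) ∧ (∀ g, Commute e g) ∧
      (∀ n : ℕ, y ^ n * x = x * y ^ n * c ^ n * e ^ n.choose 2) ∧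
      ∀ n : ℕ, (x * y) ^ n = x ^ n * y ^ n * c ^ n.choose 2 *
        (d ^ n.choose 3 * e ^ (n.choose 3 + (n + 1).choose 3)) := by
  have hc : (⁅y⁻¹, x⁻¹⁆)⁻¹ ∈ commutator G := inv_mem (commutatorElement_mem_commutator _ _)
  have hd := commute_of_class_three h3 hc x⁻¹
  have he := commute_of_class_three h3 hc y⁻¹
  have hyx : y * x = x * y * ⁅y⁻¹, x⁻¹⁆ := by rw [commutatorElement_def]; group
  have h1 : ∀ c z : G, c * z = z * c * ⁅c⁻¹, z⁻¹⁆ := by
    intro c z
    rw [commutatorElement_def]; group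
  exact ⟨_, _, _, rfl, rfl, rfl, hd, he, pow_mul_class_three hyx (h1 _ _) he,
    mul_pow_class_three hyx (h1 _ _) (h1 _ _) hd he⟩

theorem prime_dvd_choose_three {p : ℕ} (hp : p.Prime) (h : 3 < p) :
    p ∣ p.choose 2 ∧ p ∣ p.choose 3 ∧ p ∣ p.choose 3 + (p + 1).choose 3 := by
  have h2 : p ∣ p.choose 2 := hp.dvd_choose_self (by norm_num) (by omega)
  have h3 : p ∣ p.choose 3 := hp.dvd_choose_self (by norm_num) h
  refine ⟨h2, h3, ?_⟩
  rw [Nat.choose_succ_succ' p 2]
  exact dvd_add h3 (dvd_add h2 h3)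

/-- Class three, `p > 3`: the elements with `x ^ p = 1` are closed under multiplication. -/
theorem mul_pow_eq_one_of_class_three
    (h3 : ⁅⁅commutator G, (⊤ : Subgroup G)⁆, (⊤ : Subgroup G)⁆ = ⊥) {p : ℕ} (hp : p.Prime)
    (h : 3 < p) (x y : G) (hx : x ^ p = 1) (hy : y ^ p = 1) : (x * y) ^ p = 1 := by
  obtain ⟨c, d, e, hc, hd, he, hdc, hec, h1, h2⟩ := exists_mul_pow_class_three h3 x y
  obtain ⟨⟨k1, hk1⟩, ⟨k2, hk2⟩, ⟨k3, hk3⟩⟩ := prime_dvd_choose_three hp h
  have hdp : d ^ p = 1 := by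
    rw [hd, ← commutator_pow_right (hd ▸ hdc _), inv_pow, hx]
    simp
  have hep : e ^ p = 1 := by
    rw [he, ← commutator_pow_right (he ▸ hec _), inv_pow, hy]
    simp
  have hcp : c ^ p = 1 := by
    have := h1 p
    rw [hy, hk1, pow_mul, hep] at this
    simpa using this
  rw [h2, hk3, hk1, hk2, pow_mul, pow_mul, pow_mul, hx, hy, hcp, hdp, hep]
  simp

/-- Class three, `p > 3`, commutator subgroup of exponent `p`: the `p`-th power map is
multiplicative. -/
theorem mul_pow_of_class_three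
    (h3 : ⁅⁅commutator G, (⊤ : Subgroup G)⁆, (⊤ : Subgroup G)⁆ = ⊥) {p : ℕ} (hp : p.Prime)
    (h : 3 < p) (hG : ∀ c ∈ commutator G, c ^ p = 1) (x y : G) :
    (x * y) ^ p = x ^ p * y ^ p := by
  obtain ⟨c, d, e, hc, hd, he, -, -, -, h2⟩ := exists_mul_pow_class_three h3 x y
  obtain ⟨⟨k1, hk1⟩, ⟨k2, hk2⟩, ⟨k3, hk3⟩⟩ := prime_dvd_choose_three hp h
  have hcp : c ^ p = 1 := hG _ (hc ▸ commutatorElement_mem_commutator _ _)
  have hdp : d ^ p = 1 := hG _ (hd ▸ commutatorElement_mem_commutator _ _)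
  have hep : e ^ p = 1 := hG _ (he ▸ commutatorElement_mem_commutator _ _)
  rw [h2, hk3, hk1, hk2, pow_mul, pow_mul, pow_mul, hcp, hdp, hep]
  simp

end CL.PGrp
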