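import Cfsg.Agent.PGrp.Frattini
import Cfsg.Agent.PGrp.Omega

/-!
Alperin's theorem on maximal normal abelian subgroups of given exponent in a finite `p`-group.
-/

namespace CL.PGrp

open Subgroup
open scoped commutatorElement

universe u

/-- If commutators and `p`-th powers of order dividing `q` are central, and `p ∣ q.choose 2`, then
the elements of order dividing `q` are closed under multiplication. -/
theorem mul_pow_eq_one_of_central {p q : ℕ} [Fact p.Prime] (hq : p ∣ q.choose 2) (m : ℕ) :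
    ∀ (H : Type u) [Group H] [Finite H], Nat.card H = m → IsPGroup p H →
      (∀ x y : H, ⁅x, y⁆ ^ q = 1 → ⁅x, y⁆ ∈ center H) →
      (∀ x : H, x ^ q = 1 → x ^ p ∈ center H) →
      ∀ x y : H, x ^ q = 1 → y ^ q = 1 → (x * y) ^ q = 1 := by
  induction m using Nat.strong_induction_on with
  | _ m ih =>
    intro H _ _ hm hH h1 h2 x y hx hy
    by_cases hxt : zpowers x = ⊤
    · have hy' : y ∈ zpowers x := hxt ▸ mem_top y
      obtain ⟨i, rfl⟩ := hy'
      rw [((Commute.refl x).zpow_right i).mul_pow, hx, hy, one_mul]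
    obtain ⟨M, hxM, hMn, hMi⟩ := exists_normal_index_prime hH hxt
    have hxM' : x ∈ M := hxM (mem_zpowers x)
    have hlt : Nat.card M < m := by
      rw [← hm, ← M.card_mul_index, hMi]
      exact (Nat.lt_mul_iff_one_lt_right Nat.card_pos).mpr (Fact.out : p.Prime).one_lt
    have hcen : ∀ z : M, (z : H) ∈ center H → z ∈ center M := fun z hz =>
      mem_center_iff.mpr fun g => Subtype.ext (mem_center_iff.mp hz g)
    have ih' := ih _ hlt M rfl (hH.to_subgroup M)
      (fun a b hab => hcen _ (h1 a b (congrArg Subtype.val hab)))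
      (fun a ha => hcen _ (h2 a (congrArg Subtype.val ha)))
      ⟨y * x * y⁻¹, hMn.conj_mem x hxM' y⟩ ⟨x⁻¹, inv_mem hxM'⟩
      (Subtype.ext (by simp [conj_pow, hx])) (Subtype.ext (by simp [hx]))
    have h3 : ⁅y, x⁆ ^ q = 1 := congrArg Subtype.val ih'
    have h4 : ∀ g, Commute ⁅y, x⁆ g := fun g => (mem_center_iff.mp (h1 y x h3) g).symm
    have h5 : ⁅y, x⁆ ^ p = 1 := by
      rw [← commutator_pow_left (h4 y), commutatorElement_eq_one_iff_mul_comm]
      exact (mem_center_iff.mp (h2 y hy) x).symm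
    obtain ⟨k, hk⟩ := hq
    rw [mul_pow_class_two (h4 x) (h4 y), hk, pow_mul, h5, hx, hy]
    simp

variable {G : Type*} [Group G]

/-- Alperin: if `A` is maximal among the normal abelian subgroups of exponent dividing `p ^ n ≠ 2`
of a finite `p`-group, then `A` contains every element of order dividing `p ^ n` of its
centraliser. -/
theorem mem_of_maximal_normal_abelian_exponent [Finite G] {p : ℕ} [hp : Fact p.Prime]
    (hG : IsPGroup p G) (n : ℕ) (hn : p ^ n ≠ 2) (A : Subgroup G) [A.Normal]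
    (hA : IsMulCommutative A) (hAe : ∀ a ∈ A, a ^ p ^ n = 1)
    (hmax : ∀ B : Subgroup G, B.Normal → IsMulCommutative B → (∀ b ∈ B, b ^ p ^ n = 1) → A ≤ B →
      B = A) (x : G) (hx : x ∈ centralizer (A : Set G)) (hxn : x ^ p ^ n = 1) : x ∈ A := by
  obtain ⟨D, hAD, ⟨hDn, hDC, hDA⟩, hDmax⟩ := exists_maximal_subgroup
    (fun D : Subgroup G => D.Normal ∧ D ≤ centralizer (A : Set G) ∧
      ∀ d ∈ D, d ^ p ^ n = 1 → d ∈ A) A
    ⟨inferInstance, Subgroup.le_centralizer A, fun d hd _ => hd⟩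
  by_cases hCD : centralizer (A : Set G) ≤ D
  · exact hDA x (hCD hx) hxn
  exfalso
  obtain ⟨e, heC, heD, hep, hec⟩ := exists_central_mod hG D _ hCD
  have hEn : (D ⊔ zpowers e).Normal := normal_sup_zpowers hec
  set E := D ⊔ zpowers e with hE
  have hEC : E ≤ centralizer (A : Set G) := sup_le hDC (by rwa [Subgroup.zpowers_le])
  have hcen : ∀ z : E, (z : G) ∈ A → z ∈ center E := fun z hz =>
    mem_center_iff.mpr fun g => Subtype.ext (hEC g.2 z hz).symm
  have hpow : ∀ z ∈ E, z ^ p ∈ D := by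
    intro z hz
    have := D.pow_relIndex_mem (K := E) hz
    rwa [relIndex_sup_zpowers heD hep] at this
  have hclosed := mul_pow_eq_one_of_central (prime_pow_dvd_choose_two hp.out hn) _ E rfl
    (hG.to_subgroup E)
    (fun a b hab => hcen _ (hDA _ (commutator_mem_of_mem_sup_zpowers hec b.2 a)
      (congrArg Subtype.val hab)))
    (fun a ha => hcen _ (hDA _ (hpow a a.2) (by
      have : (a : G) ^ p ^ n = 1 := congrArg Subtype.val ha
      rw [Subgroup.coe_pow, ← pow_mul, mul_comm, pow_mul, this, one_pow])))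
  let W : Subgroup G :=
    { carrier := {z | z ∈ E ∧ z ^ p ^ n = 1}
      one_mem' := ⟨one_mem _, one_pow _⟩
      mul_mem' := fun {a b} ha hb => ⟨mul_mem ha.1 hb.1, congrArg Subtype.val
        (hclosed ⟨a, ha.1⟩ ⟨b, hb.1⟩ (Subtype.ext ha.2) (Subtype.ext hb.2))⟩
      inv_mem' := fun {a} ha => ⟨inv_mem ha.1, by rw [inv_pow, ha.2, inv_one]⟩ }
  have hWn : W.Normal := ⟨fun a ha g => ⟨hEn.conj_mem a ha.1 g, by rw [conj_pow, ha.2]; simp⟩⟩
  have hWA : ¬ W ≤ A := by
    intro h
    have := hDmax E ⟨hEn, hEC, fun d hd hdn => h ⟨hd, hdn⟩⟩ le_sup_left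
    exact heD (this ▸ Subgroup.mem_sup_right (mem_zpowers e))
  obtain ⟨y, hyW, hyA, -, hyc⟩ := exists_central_mod hG A W hWA
  have := hmax _ (normal_sup_zpowers hyc) (isMulCommutative_sup_zpowers hA (hEC hyW.1))
    (fun b hb => pow_eq_one_of_mem_sup_zpowers (hEC hyW.1) hAe hyW.2 hb) le_sup_left
  exact hyA (this ▸ Subgroup.mem_sup_right (mem_zpowers y))

/-- For odd `p`, every normal elementary abelian subgroup `B` of a finite `p`-group lies in a normal
elementary abelian subgroup `A` with `Ω₁(C(A)) = A`. -/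
theorem exists_maximal_normal_elementary [Finite G] {p : ℕ} [hp : Fact p.Prime] (hp2 : p ≠ 2)
    (hG : IsPGroup p G) (B : Subgroup G) [B.Normal] (hB : IsMulCommutative B)
    (hBe : ∀ b ∈ B, b ^ p = 1) :
    ∃ A : Subgroup G, B ≤ A ∧ A.Normal ∧ IsMulCommutative A ∧ (∀ a ∈ A, a ^ p = 1) ∧
      ∀ x ∈ centralizer (A : Set G), x ^ p = 1 → x ∈ A := by
  obtain ⟨A, hBA, ⟨h1, h2, h3⟩, hmax⟩ := exists_maximal_subgroup
    (fun A : Subgroup G => A.Normal ∧ IsMulCommutative A ∧ ∀ a ∈ A, a ^ p = 1) B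
    ⟨inferInstance, hB, hBe⟩
  refine ⟨A, hBA, h1, h2, h3, fun x hx hxp => ?_⟩
  exact mem_of_maximal_normal_abelian_exponent hG 1 (by rwa [pow_one]) A h2
    (by simpa using h3) (fun C c1 c2 c3 c4 => hmax C ⟨c1, c2, by simpa using c3⟩ c4) x hx
    (by rwa [pow_one])

end CL.PGrp
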