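import Cfsg.Agent.PGrp.Frattini
import Cfsg.Agent.PGrp.Omega

/-!
Thompson's critical subgroup; `p'`-automorphisms of `p`-groups are faithful on a critical subgroup
and, for odd `p`, on `Ω₁`.
-/

namespace CL.PGrp

open Subgroup
open scoped commutatorElement

variable {G : Type*} [Group G]

/-- If `a x = x z` with `z` fixed by the automorphism `a`, then `a ^ n x = x z ^ n`. -/
theorem aut_pow_apply_of_fixed (a : MulAut G) {x z : G} (hx : a x = x * z) (hz : a z = z) (n : ℕ) :
    (a ^ n) x = x * z ^ n := by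
  induction n with
  | zero => simp
  | succ n ih => rw [pow_succ', MulAut.mul_apply, ih, map_mul, map_pow, hx, hz, pow_succ', mul_assoc]

/-- A `p'`-automorphism `a` of a `p`-group fixing `x⁻¹ * a x` fixes `x`. -/
theorem aut_apply_eq_of_fixed {p : ℕ} (hG : IsPGroup p G) (a : MulAut G)
    (ha : Nat.Coprime (orderOf a) p) {x : G} (hz : a (x⁻¹ * a x) = x⁻¹ * a x) : a x = x := by
  have h := aut_pow_apply_of_fixed a (x := x) (z := x⁻¹ * a x) (by group) hz (orderOf a)
  rw [pow_orderOf_eq_one, MulAut.one_apply, left_eq_mul] at h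
  have h1 := hG.orderOf_coprime ha.symm (x⁻¹ * a x)
  have h2 : orderOf (x⁻¹ * a x) = 1 := 
    Nat.eq_one_of_dvd_coprimes h1 dvd_rfl (orderOf_dvd_of_pow_eq_one h)
  rw [orderOf_eq_one_iff, inv_mul_eq_one] at h2
  exact h2.symm

/-- A `p'`-automorphism of a `p`-group that fixes pointwise a normal subgroup containing its own
centraliser is trivial. -/
theorem aut_eq_one_of_centralizer_le {p : ℕ} (hG : IsPGroup p G) (H : Subgroup G) [hH : H.Normal]
    (h3 : centralizer (H : Set G) ≤ H) (a : MulAut G) (ha : Nat.Coprime (orderOf a) p)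
    (h : ∀ x ∈ H, a x = x) : a = 1 := by
  ext g
  apply aut_apply_eq_of_fixed hG a ha
  apply h
  apply h3
  intro y hy
  have h1 := h _ (hH.conj_mem y hy g)
  rw [map_mul, map_mul, map_inv, h y hy] at h1
  calc y * (g⁻¹ * a g) = g⁻¹ * (g * y * g⁻¹) * a g := by group
    _ = g⁻¹ * (a g * y * (a g)⁻¹) * a g := by rw [h1]
    _ = g⁻¹ * a g * y := by group

/-- Thompson's critical subgroup. -/
theorem exists_critical [Finite G] {p : ℕ} [Fact p.Prime] (hG : IsPGroup p G) :
    ∃ H : Subgroup G, H.Characteristic ∧ (∀ x ∈ H, x ^ p ∈ centralizer (H : Set G)) ∧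
      ⁅H, (⊤ : Subgroup G)⁆ ≤ H ⊓ centralizer (H : Set G) ∧ centralizer (H : Set G) ≤ H := by
  obtain ⟨A, -, ⟨hAc, hAab⟩, hmax⟩ := exists_maximal_subgroup
    (fun A : Subgroup G => A.Characteristic ∧ IsMulCommutative A) ⊥ ⟨inferInstance, inferInstance⟩
  let π := QuotientGroup.mk' A
  have hπ : ∀ x : G, π x = 1 ↔ x ∈ A := fun x => QuotientGroup.eq_one_iff x
  let C : Subgroup G :=
    { carrier := {x | x ∈ centralizer (A : Set G) ∧ x ^ p ∈ A ∧ ∀ g : G, ⁅g, x⁆ ∈ A}
      one_mem' := ⟨one_mem _, by simp, fun g => by simp⟩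
      mul_mem' := by
        rintro x y ⟨hx1, hx2, hx3⟩ ⟨hy1, hy2, hy3⟩
        simp only [← hπ, map_commutatorElement, commutatorElement_eq_one_iff_commute, map_pow]
          at hx2 hx3 hy2 hy3 ⊢
        refine ⟨mul_mem hx1 hy1, ?_, fun g => ?_⟩
        · rw [map_mul, (hy3 x).mul_pow, hx2, hy2, one_mul]
        · rw [map_mul]
          exact (hx3 g).mul_right (hy3 g)
      inv_mem' := by
        rintro x ⟨hx1, hx2, hx3⟩
        simp only [← hπ, map_commutatorElement, commutatorElement_eq_one_iff_commute, map_pow]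
          at hx2 hx3 ⊢
        refine ⟨inv_mem hx1, ?_, fun g => ?_⟩
        · rw [map_inv, inv_pow, hx2, inv_one]
        · rw [map_inv]
          exact (hx3 g).inv_right }
  have hC : ∀ x, x ∈ C ↔ x ∈ centralizer (A : Set G) ∧ x ^ p ∈ A ∧ ∀ g : G, ⁅g, x⁆ ∈ A :=
    fun x => Iff.rfl
  have hAC : A ≤ C := fun a ha =>
    ⟨Subgroup.le_centralizer A ha, pow_mem ha p, fun g =>
      commutator_le_right (⊤ : Subgroup G) A (commutator_mem_commutator (mem_top g) ha)⟩
  have hCA : A ≤ centralizer (C : Set G) :=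
    Subgroup.le_centralizer_iff.mp fun x hx => hx.1
  have hCc : C.Characteristic := by
    rw [Subgroup.characteristic_iff_le_comap]
    rintro φ x ⟨hx1, hx2, hx3⟩
    have hAφ := Subgroup.characteristic_iff_le_comap.mp hAc φ
    refine ⟨Subgroup.characteristic_iff_le_comap.mp (inferInstance) φ hx1, ?_, fun g => ?_⟩
    · have := hAφ hx2
      rwa [Subgroup.mem_comap, map_pow] at this
    · have := hAφ (hx3 (φ.symm g))
      rw [Subgroup.mem_comap, map_commutatorElement] at this
      simpa using this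
  have hZ : C ⊓ centralizer (C : Set G) = A := by
    refine hmax _ ⟨inferInstance, ?_⟩ (le_inf hAC hCA)
    rw [← Subgroup.le_centralizer_iff_isMulCommutative]
    exact inf_le_right.trans (centralizer_le (SetLike.coe_subset_coe.mpr inf_le_left))
  refine ⟨C, hCc, fun x hx => hCA hx.2.1, ?_, ?_⟩
  · rw [hZ, Subgroup.commutator_comm, Subgroup.commutator_le]
    exact fun g _ x hx => hx.2.2 g
  · by_contra h
    have h' : ¬ centralizer (C : Set G) ≤ A := fun h' => h (h'.trans hAC)
    obtain ⟨x, hx1, hx2, hx3, hx4⟩ := exists_central_mod hG A _ h'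
    apply hx2
    rw [← hZ]
    exact ⟨⟨centralizer_le (SetLike.coe_subset_coe.mpr hAC) hx1, hx3, hx4⟩, hx1⟩

/-- For odd `p`: a `p'`-automorphism fixing the elements of order dividing `p` of an invariant
subgroup `H` of class at most two fixes `H` pointwise. -/
theorem aut_apply_eq_of_class_two {p : ℕ} (hp : Odd p) (hG : IsPGroup p G) (H : Subgroup G)
    (hH : ⁅H, H⁆ ≤ centralizer (H : Set G)) (a : MulAut G) (haH : ∀ x ∈ H, a x ∈ H)
    (ha : Nat.Coprime (orderOf a) p) (h : ∀ x ∈ H, x ^ p = 1 → a x = x) :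
    ∀ x ∈ H, a x = x := by
  have key : ∀ k : ℕ, ∀ x ∈ H, x ^ p ^ k = 1 → a x = x := by
    intro k
    induction k with
    | zero =>
      intro x _ hx
      rw [pow_zero, pow_one] at hx
      rw [hx, map_one]
    | succ k ih =>
      intro x hxH hx
      have h1 : (a x) ^ p = x ^ p := by
        rw [← map_pow]
        exact ih _ (pow_mem hxH p) (by rw [← pow_mul, ← pow_succ', hx])
      apply aut_apply_eq_of_fixed hG a ha
      apply h _ (mul_mem (inv_mem hxH) (haH x hxH))
      have hc : ∀ g ∈ H, Commute ⁅a x, x⁻¹⁆ g := fun g hg =>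
        (hH (commutator_mem_commutator (haH x hxH) (inv_mem hxH)) g hg).symm
      rw [mul_pow_of_odd' (hc _ (inv_mem hxH)) (hc _ (haH x hxH)) hp
        (by rw [h1]; exact (Commute.refl x).pow_left p |>.inv_right), h1, inv_pow, inv_mul_cancel]
  intro x hx
  obtain ⟨k, hk⟩ := hG x
  exact key k x hx hk

/-- For odd `p`, a `p'`-automorphism of a finite `p`-group fixing all elements of order dividing `p`
is trivial. -/
theorem aut_eq_one_of_omega [Finite G] {p : ℕ} [hp : Fact p.Prime] (hp2 : p ≠ 2)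
    (hG : IsPGroup p G) (a : MulAut G) (ha : Nat.Coprime (orderOf a) p)
    (h : ∀ x : G, x ^ p = 1 → a x = x) : a = 1 := by
  obtain ⟨H, hH, -, h2, h3⟩ := exists_critical hG
  apply aut_eq_one_of_centralizer_le hG H h3 a ha
  exact aut_apply_eq_of_class_two (hp.out.odd_of_ne_two hp2) hG H
    ((commutator_mono le_rfl le_top).trans (h2.trans inf_le_right)) a
    (Subgroup.characteristic_iff_le_comap.mp hH a) ha fun x _ hx => h x hx

end CL.PGrp
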