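import Cfsg.Agent.Base
import Cfsg.Agent.PGrp.ClassBound
import Cfsg.Agent.PGrp.Omega
import Cfsg.Agent.PGrp.Frattini
import Cfsg.Agent.PGrp.Alperin
import Cfsg.Agent.PGrp.Critical

/-!
# `p`-groups of small rank (Bender–Glauberman, section 4, first part)
-/

namespace CL.PGrp.RankTwo

open Subgroup CL.PGrp.Chain
open scoped commutatorElement

universe u

variable {R : Type*} [Group R] [Finite R] {p : ℕ} [hp : Fact p.Prime]

/-- Ambient form of B&G 4.5(b). -/
theorem exists_omega_of_cyclic_le (hp2 : p ≠ 2) {A B : Subgroup R} (hA : IsPGroup p A)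
    (hnc : ¬ IsCyclic A) (hBA : B ≤ A) (hB : IsCyclic B) (hc : p * Nat.card B = Nat.card A) :
    ∃ E : Subgroup R, (∀ x, x ∈ E ↔ x ∈ A ∧ x ^ p = 1) ∧ Nat.card E = p ^ 2 := by
  have e := subgroupOfEquivOfLe hBA
  have h1 : IsCyclic (B.subgroupOf A) := e.isCyclic.2 hB
  have h2 : (B.subgroupOf A).index = p := by
    have := (B.subgroupOf A).index_mul_card
    rw [Nat.card_congr e.toEquiv, ← hc] at this
    exact Nat.eq_of_mul_eq_mul_right Nat.card_pos this
  obtain ⟨E, hE, hcard⟩ := CycMax.exists_omega_of_cyclic_index hp2 hA hnc _ h1 h2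
  refine ⟨E.map A.subtype, fun x => ⟨?_, ?_⟩, ?_⟩
  · rintro ⟨y, hy, rfl⟩
    exact ⟨y.2, congrArg Subtype.val ((hE y).1 hy)⟩
  · rintro ⟨h3, h4⟩
    exact ⟨⟨x, h3⟩, (hE _).2 (Subtype.ext h4), rfl⟩
  · rw [card_map_of_injective A.subtype_injective, hcard]

omit [Finite R] hp in
theorem normal_of_mem_iff {A E : Subgroup R} [hA : A.Normal] {n : ℕ}
    (hE : ∀ x, x ∈ E ↔ x ∈ A ∧ x ^ n = 1) : E.Normal := by
  refine ⟨fun x hx g => ?_⟩
  rw [hE] at hx ⊢
  exact ⟨hA.conj_mem x hx.1 g, by rw [conj_pow, hx.2]; simp⟩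

/-- B&G 4.6: a non-cyclic normal subgroup of a `p`-group (`p` odd) contains a normal elementary
abelian subgroup of order `p ^ 2`. -/
theorem exists_normal_elementary_le (hp2 : p ≠ 2) (hR : IsPGroup p R) (S : Subgroup R) [S.Normal]
    (hS : ¬ IsCyclic S) :
    ∃ A : Subgroup R, A ≤ S ∧ A.Normal ∧ Cfsg.IsElementaryAbelian p A ∧ Nat.card A = p ^ 2 := by
  obtain ⟨A, hAS, hA⟩ := Finite.exists_le_minimal
    (p := fun A : Subgroup R => A.Normal ∧ ¬ IsCyclic A) (a := S) ⟨inferInstance, hS⟩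
  obtain ⟨hAn, hAc⟩ := hA.prop
  have hA1 : ⊥ < A := by
    rw [bot_lt_iff_ne_bot]
    rintro rfl
    exact hAc inferInstance
  obtain ⟨B, hBn, -, hBA, hc⟩ := exists_normal_index_p_between hR hA1
  have hB : IsCyclic B := by
    by_contra hB
    have := hA.le_of_le ⟨hBn, hB⟩ hBA
    have h1 := card_le_of_le this
    have h2 : 0 < Nat.card B := Nat.card_pos
    have := hp.out.one_lt
    nlinarith
  obtain ⟨E, hE, hcard⟩ := exists_omega_of_cyclic_le hp2 (hR.to_subgroup A) hAc hBA hB hc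
  exact ⟨E, fun x hx => hAS ((hE x).1 hx).1, normal_of_mem_iff hE,
    ⟨IsPGroup.isMulCommutative_of_card_eq_prime_sq hcard, fun x hx => ((hE x).1 hx).2⟩, hcard⟩

/-- B&G 4.5(a). -/
theorem exists_normal_elementary (hp2 : p ≠ 2) (hR : IsPGroup p R) (hnc : ¬ IsCyclic R) :
    ∃ A : Subgroup R, A.Normal ∧ Cfsg.IsElementaryAbelian p A ∧ Nat.card A = p ^ 2 := by
  obtain ⟨A, -, h⟩ := exists_normal_elementary_le hp2 hR ⊤ (by rwa [topEquiv.isCyclic])
  exact ⟨A, h⟩

omit [Finite R] in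
/-- A cyclic group has no elementary abelian subgroup of order `p ^ 2`. -/
theorem not_isCyclic_of_elementary {E H : Subgroup R} (hE : ∀ x ∈ E, x ^ p = 1)
    (hc : Nat.card E = p ^ 2) (hEH : E ≤ H) : ¬ IsCyclic H := by
  intro h
  have h1 : IsCyclic E := isCyclic_of_le hEH
  obtain ⟨g, hg⟩ := h1.exists_ofOrder_eq_natCard
  have h2 : orderOf g ∣ p := orderOf_dvd_of_pow_eq_one (Subtype.ext (hE g g.2))
  rw [hg, hc] at h2
  have := Nat.le_of_dvd hp.out.pos h2
  have := hp.out.one_lt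
  nlinarith

/-- The centraliser of a normal subgroup of order at most `p ^ 2` has index at most `p`. -/
theorem index_centralizer_le_of_card_le_sq (hR : IsPGroup p R) (A : Subgroup R) [A.Normal]
    (hA : Nat.card A ≤ p ^ 2) : (centralizer (A : Set R)).index ≤ p := by
  obtain ⟨k, hk⟩ := IsPGroup.iff_card.1 (hR.to_subgroup A)
  have h1 := index_centralizer_le hR k A hk
  rw [hk, Nat.pow_le_pow_iff_right hp.out.one_lt] at hA
  have := hp.out.one_lt
  interval_cases k <;> simp at h1 <;> omega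

/-- B&G 4.7: no normal elementary abelian subgroup of order `p ^ 3` forces rank at most two. -/
theorem card_le_sq_of_no_normal_cube (hp2 : p ≠ 2) (hR : IsPGroup p R)
    (h : ∀ A : Subgroup R, A.Normal → IsMulCommutative A → (∀ a ∈ A, a ^ p = 1) →
      Nat.card A ≠ p ^ 3) : Cfsg.PRankLE p 2 R := by
  intro E hE hEe
  obtain ⟨A, -, hAn, hAc, hAe, hA⟩ := exists_maximal_normal_elementary hp2 hR ⊥ inferInstance
    (by simp)
  have hA2 : Nat.card A ≤ p ^ 2 := by
    by_contra! hlt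
    obtain ⟨k, hk⟩ := IsPGroup.iff_card.1 (hR.to_subgroup A)
    rw [hk, Nat.pow_lt_pow_iff_right hp.out.one_lt] at hlt
    obtain ⟨B, hBn, hBA, hB⟩ := exists_normal_card_le hR A (j := 3)
      (by rw [hk]; exact Nat.pow_le_pow_right hp.out.pos hlt)
    exact h B hBn (IsMulCommutative.of_setLike_mul_comm fun a ha b hb =>
      setLike_mul_comm (hBA ha) (hBA hb)) (fun a ha => hAe a (hBA ha)) hB
  have h1 := index_centralizer_le_of_card_le_sq hR A hA2
  set C := centralizer (A : Set R) with hC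
  have h2 : C ⊓ E ≤ A := fun x hx => hA x hx.1 (hEe x hx.2)
  by_cases hEC : E ≤ C
  · exact (card_le_of_le ((le_inf hEC le_rfl).trans h2)).trans hA2
  have h3 := card_inf_mul_relIndex C E
  have h4 : C.relIndex E ≤ p :=
    (Nat.le_of_dvd (Nat.pos_of_ne_zero index_ne_zero_of_finite)
      (relIndex_dvd_index_of_normal C E)).trans h1
  have h5 : C ⊓ E < A := by
    refine lt_of_le_of_ne h2 fun e => hEC ?_
    have : A ≤ E := e ▸ inf_le_right
    exact (le_centralizer E).trans (centralizer_le this)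
  have h6 := mul_card_le_of_lt (hR.to_subgroup A) h5
  calc Nat.card E = _ := h3.symm
    _ ≤ Nat.card (C ⊓ E : Subgroup R) * p := Nat.mul_le_mul_left _ h4
    _ ≤ p ^ 2 := by rw [mul_comm]; exact h6.trans hA2

omit [Finite R] hp in
theorem pRankLE_of_injective {H : Type*} [Group H] {k : ℕ} (h : Cfsg.PRankLE p k R) (f : H →* R)
    (hf : Function.Injective f) : Cfsg.PRankLE p k H := by
  intro A hA hAe
  rw [← card_map_of_injective hf]
  refine h _ inferInstance ?_
  rintro _ ⟨a, ha, rfl⟩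
  rw [← map_pow, hAe a ha, map_one]

omit [Finite R] hp in
theorem pRankLE_subgroup {k : ℕ} (h : Cfsg.PRankLE p k R) (H : Subgroup R) : Cfsg.PRankLE p k H :=
  pRankLE_of_injective h H.subtype H.subtype_injective

/-- B&G 4.8(a): a group of exponent `p` and rank at most two has order at most `p ^ 3`. -/
theorem card_le_cube_of_exponent (hr : Cfsg.PRankLE p 2 R) (he : ∀ x : R, x ^ p = 1) :
    Nat.card R ≤ p ^ 3 := by
  have hR : IsPGroup p R := fun x => ⟨1, by rw [pow_one, he]⟩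
  obtain ⟨A, -, hAn, hA⟩ := exists_scn_ge hR ⊥ inferInstance
  have h1 : Nat.card A ≤ p ^ 2 := hr A (le_centralizer_iff_isMulCommutative.1 hA.ge)
    fun a _ => he a
  have h2 := index_centralizer_le_of_card_le_sq hR A h1
  rw [hA] at h2
  rw [← A.index_mul_card, pow_succ' p 2]
  exact Nat.mul_le_mul h2 h1

/-- B&G 4.8(a), ambient form. -/
theorem card_le_cube_of_forall_mem (hr : Cfsg.PRankLE p 2 R) (H : Subgroup R)
    (he : ∀ x ∈ H, x ^ p = 1) : Nat.card H ≤ p ^ 3 :=
  card_le_cube_of_exponent (pRankLE_subgroup hr H) fun x => Subtype.ext (he x x.2)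

omit hp in
/-- Induction principle for statements about pairs of elements of order dividing `n`. -/
theorem card_closure_lt {x y : R} (h : closure {x, y} ≠ (⊤ : Subgroup R)) :
    Nat.card (closure {x, y} : Subgroup R) < Nat.card R := by
  refine lt_of_le_of_ne (card_le_card_group _) fun e => h ?_
  exact eq_top_of_card_eq _ e

theorem class_three_of_card_le (hR : IsPGroup p R) (h : Nat.card R ≤ p ^ 4) :
    ⁅⁅commutator R, (⊤ : Subgroup R)⁆, (⊤ : Subgroup R)⁆ = ⊥ :=
  lowerCentralSeries_eq_bot_of_card_le (m := 2) hR h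

theorem class_two_of_card_le (hR : IsPGroup p R) (h : Nat.card R ≤ p ^ 3) :
    commutator R ≤ center R :=
  commutator_top_right_eq_bot_iff_le_center.1 (lowerCentralSeries_eq_bot_of_card_le (m := 1) hR h)

private theorem mul_pow_aux (hp3 : 3 < p) (n : ℕ) :
    ∀ (R : Type u) [Group R] [Finite R], Nat.card R = n → IsPGroup p R → Cfsg.PRankLE p 2 R →
      ∀ x y : R, x ^ p = 1 → y ^ p = 1 → (x * y) ^ p = 1 := by
  induction n using Nat.strong_induction_on with
  | _ n ih =>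
  intro R _ _ hn hR hr x y hx hy
  have ih' : ∀ H : Subgroup R, H ≠ ⊤ → ∀ x ∈ H, ∀ y ∈ H, x ^ p = 1 → y ^ p = 1 →
      (x * y) ^ p = 1 := by
    intro H hH x hxH y hyH hx hy
    have hlt : Nat.card H < n :=
      hn ▸ lt_of_le_of_ne (card_le_card_group _) fun e => hH (eq_top_of_card_eq _ e)
    exact congrArg Subtype.val (ih _ hlt H rfl (hR.to_subgroup H) (pRankLE_subgroup hr H)
      ⟨x, hxH⟩ ⟨y, hyH⟩ (Subtype.ext hx) (Subtype.ext hy))
  by_cases h : closure {x, y} ≠ (⊤ : Subgroup R)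
  · exact ih' _ h x (subset_closure (by simp)) y (subset_closure (by simp)) hx hy
  push Not at h
  by_cases hxt : zpowers x = ⊤
  · obtain ⟨k, rfl⟩ : y ∈ zpowers x := hxt ▸ mem_top y
    rw [((Commute.refl x).zpow_right k).mul_pow, hx, one_mul, hy]
  obtain ⟨M, hMn, hxM, hMi, -, -⟩ := exists_maximal_ge hR hxt
  have hM : M ≠ ⊤ := by
    rintro rfl
    rw [index_top] at hMi
    exact hp.out.one_lt.ne hMi
  let Ω : Subgroup R :=
    { carrier := {m | m ∈ M ∧ m ^ p = 1}
      one_mem' := ⟨one_mem _, one_pow _⟩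
      mul_mem' := fun {a b} ha hb => ⟨mul_mem ha.1 hb.1, ih' M hM a ha.1 b hb.1 ha.2 hb.2⟩
      inv_mem' := fun {a} ha => ⟨inv_mem ha.1, by rw [inv_pow, ha.2, inv_one]⟩ }
  have hΩn : Ω.Normal := normal_of_mem_iff (A := M) (n := p) fun x => Iff.rfl
  have h1 : Nat.card Ω ≤ p ^ 3 := card_le_cube_of_forall_mem hr Ω fun x hx => hx.2
  have hxΩ : x ∈ Ω := ⟨hxM (mem_zpowers x), hx⟩
  have h2 : Ω ⊔ zpowers y = ⊤ := by
    rw [eq_top_iff, ← h, closure_le]
    rintro z (rfl | rfl)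
    · exact mem_sup_left hxΩ
    · exact mem_sup_right (mem_zpowers _)
  have hyΩ : y ∉ Ω := fun hy => hM (top_le_iff.1 (h2 ▸ sup_le (fun z hz => hz.1)
    (zpowers_le_of_mem hy.1)))
  have h3 := card_sup_zpowers (p := p) hyΩ (by rw [hy]; exact one_mem _)
  rw [h2, card_top] at h3
  have h4 : Nat.card R ≤ p ^ 4 := by rw [h3, pow_succ]; exact Nat.mul_le_mul_right _ h1
  exact mul_pow_eq_one_of_class_three (class_three_of_card_le hR h4) hp.out hp3 x y hx hy

/-- B&G 4.8(b): for `p > 3` and rank at most two, elements of order dividing `p` are closed under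
multiplication. -/
theorem mul_pow_eq_one_of_rank_two (hp3 : 3 < p) (hR : IsPGroup p R) (hr : Cfsg.PRankLE p 2 R)
    (x y : R) (hx : x ^ p = 1) (hy : y ^ p = 1) : (x * y) ^ p = 1 :=
  mul_pow_aux hp3 _ R rfl hR hr x y hx hy

/-- B&G 4.8(b). -/
theorem pow_eq_one_of_rank_two (hp3 : 3 < p) (hR : IsPGroup p R) (hr : Cfsg.PRankLE p 2 R)
    {g : R} (hg : g ∈ closure {x : R | x ^ p = 1}) : g ^ p = 1 :=
  pow_eq_one_of_mem_closure (mul_pow_eq_one_of_rank_two hp3 hR hr) hg

omit [Finite R] hp in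
theorem omegaOne_top : Cfsg.omegaOne p (⊤ : Subgroup R) = closure {x : R | x ^ p = 1} := by
  simp [Cfsg.omegaOne]

/-- B&G 4.10: a non-cyclic metacyclic `p`-group (`p` odd): the elements of order dividing `p` form
a subgroup of order `p ^ 2`. -/
theorem exists_omega_of_metacyclic (hp2 : p ≠ 2) (hR : IsPGroup p R) (hm : Cfsg.IsMetacyclic R)
    (hnc : ¬ IsCyclic R) : ∃ E : Subgroup R, (∀ x, x ∈ E ↔ x ^ p = 1) ∧ Nat.card E = p ^ 2 := by
  obtain ⟨S, hSn, hS, hQ⟩ := hm
  obtain ⟨A, -, hA, hA2⟩ := exists_normal_elementary hp2 hR hnc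
  let φ : R ⧸ S →* R ⧸ S := MonoidHom.mk' (fun x => x ^ p) fun a b =>
    Commute.mul_pow (mul_comm' a b) p
  let T : Subgroup R := φ.ker.comap (QuotientGroup.mk' S)
  have hT : ∀ x : R, x ∈ T ↔ x ^ p ∈ S := fun x =>
    QuotientGroup.eq_one_iff (x ^ p)
  have hST : S ≤ T := fun x hx => (hT x).2 (pow_mem hx p)
  have hΩ : ∀ x : R, x ^ p = 1 → x ∈ T := fun x hx => (hT x).2 (hx ▸ one_mem _)
  have hAT : A ≤ T := fun x hx => hΩ x (hA.2 x hx)
  have hTc : ¬ IsCyclic T := not_isCyclic_of_elementary hA.2 hA2 hAT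
  have hlt : S < T := lt_of_le_of_ne hST fun e => hTc (e ▸ hS)
  have h1 : Nat.card φ.ker ≤ p := by
    obtain ⟨g, hg⟩ := (inferInstance : IsCyclic φ.ker).exists_ofOrder_eq_natCard
    rw [← hg]
    exact Nat.le_of_dvd hp.out.pos (orderOf_dvd_of_pow_eq_one (Subtype.ext g.2))
  have h2 : Nat.card T = Nat.card S * Nat.card φ.ker := QuotientGroup.card_preimage_mk S φ.ker
  have h3 := mul_card_le_of_lt (hR.to_subgroup T) hlt
  have h4 : p * Nat.card S = Nat.card T := by
    apply le_antisymm h3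
    rw [h2, mul_comm]
    exact Nat.mul_le_mul_right _ h1
  obtain ⟨E, hE, hcard⟩ := exists_omega_of_cyclic_le hp2 (hR.to_subgroup T) hTc hST hS h4
  exact ⟨E, fun x => (hE x).trans ⟨fun h => h.2, fun h => ⟨hΩ x h, h⟩⟩, hcard⟩

end CL.PGrp.RankTwo
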