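import Cfsg.Agent.Base
import Cfsg.Agent.PGrp.RankTwo

/-!
# `p`-groups of small rank (Bender–Glauberman, section 4, second part): 4.5(c), 4.9, 4.11, 4.13
-/

namespace CL.PGrp.RankTwo

open Subgroup CL.PGrp.Chain
open scoped commutatorElement

universe u

variable {R : Type*} [Group R] [Finite R] {p : ℕ} [hp : Fact p.Prime]

/-- A normal subgroup of order at most `p ^ 2` of a finite `p`-group lies in the second centre. -/
theorem le_upperCentralSeries_two_of_card_le (hR : IsPGroup p R) (A : Subgroup R) [A.Normal]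
    (hA : Nat.card A ≤ p ^ 2) : A ≤ Subgroup.upperCentralSeries R 2 := by
  have h1 : ⁅A, (⊤ : Subgroup R)⁆ ≤ center R := by
    by_cases h : A = ⊥
    · simp [h]
    apply le_center_of_card_le hR
    have := mul_card_le_of_lt (hR.to_subgroup A) (commutator_top_lt hR h)
    exact Nat.le_of_mul_le_mul_left (this.trans (by rwa [← sq])) hp.out.pos
  intro x hx
  rw [Subgroup.mem_upperCentralSeries_succ_iff, Subgroup.upperCentralSeries_one]
  exact fun y => h1 (commutator_mem_commutator hx (mem_top y))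

omit [Finite R] in
/-- B&G 4.5(c), exponent: for odd `p` the elements of order dividing `p` of the second centre are
closed under multiplication. -/
theorem mul_pow_eq_one_of_mem_upperCentralSeries_two (hp2 : p ≠ 2) {x y : R}
    (hy2 : y ∈ Subgroup.upperCentralSeries R 2) (hx : x ^ p = 1) (hy : y ^ p = 1) : (x * y) ^ p = 1 := by
  rw [Subgroup.mem_upperCentralSeries_succ_iff, Subgroup.upperCentralSeries_one] at hy2
  have h : ∀ g, Commute ⁅y, x⁆ g := fun g => (mem_center_iff.1 (hy2 x) g).symm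
  rw [mul_pow_of_odd' (h x) (h y) (hp.out.odd_of_ne_two hp2) (by rw [hy]; exact Commute.one_left x),
    hx, hy, one_mul]

omit hp in
theorem card_omega_le_of_injective {H : Type*} [Group H] (f : H →* R)
    (hf : Function.Injective f) :
    Nat.card (closure {x : H | x ^ p = 1}) ≤ Nat.card (closure {x : R | x ^ p = 1}) := by
  rw [← card_map_of_injective hf]
  apply card_le_of_le
  rw [map_le_iff_le_comap, closure_le]
  intro x hx
  apply Subgroup.subset_closure
  simp only [Set.mem_ofPred_eq] at hx ⊢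
  rw [← map_pow, hx, map_one]

/-- For `p > 3`: a group of order `p ^ 4` all of whose `p`-th powers lie in a subgroup of order
`p` has at least `p ^ 3` elements of order dividing `p`. -/
theorem cube_le_card_omega (hp3 : 3 < p) (hR : Nat.card R = p ^ 4) (T : Subgroup R)
    (hT : Nat.card T = p) (hpow : ∀ x : R, x ^ p ∈ T) :
    p ^ 3 ≤ Nat.card (closure {x : R | x ^ p = 1}) := by
  have hP : IsPGroup p R := IsPGroup.of_card hR
  have h1p := hp.out.one_lt
  have hnc : ¬ IsCyclic R := by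
    intro h
    obtain ⟨g, hg⟩ := h.exists_ofOrder_eq_natCard
    have h1 : (g ^ p) ^ p = 1 := by
      have := pow_card_eq_one' (x := (⟨g ^ p, hpow g⟩ : T))
      rw [hT] at this
      exact congrArg Subtype.val this
    rw [← pow_mul, ← orderOf_dvd_iff_pow_eq_one, hg, hR, ← sq,
      Nat.pow_dvd_pow_iff_le_right h1p] at h1
    omega
  obtain ⟨A, hAn, hA, hA2⟩ := exists_normal_elementary (by omega) hP hnc
  have h2 : commutator R ≤ A := by
    apply commutator_le_of_index_le_sq hP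
    have := A.index_mul_card
    rw [hA2, hR, show p ^ 4 = p ^ 2 * p ^ 2 by ring] at this
    exact (Nat.eq_of_mul_eq_mul_right (by positivity) this).le
  let φ : R →* R := MonoidHom.mk' (fun x => x ^ p) (mul_pow_of_class_three
    (class_three_of_card_le hP hR.le) hp.out hp3 fun c hc => hA.2 c (h2 hc))
  have h3 : Nat.card φ.range ≤ p := by
    rw [← hT]
    apply card_le_of_le
    rintro _ ⟨x, rfl⟩
    exact hpow x
  have h4 := φ.ker.card_mul_index
  rw [index_ker, hR] at h4
  have h5 : p ^ 3 ≤ Nat.card φ.ker := by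
    have : p ^ 3 * p ≤ Nat.card φ.ker * p := by
      rw [← pow_succ, ← h4]; exact Nat.mul_le_mul_left _ h3
    exact Nat.le_of_mul_le_mul_right this hp.out.pos
  exact h5.trans (card_le_of_le fun x hx => subset_closure hx)

theorem card_omega_quotient_le_of_card_eq (hp3 : 3 < p) (hR : IsPGroup p R)
    (hO : Nat.card (closure {x : R | x ^ p = 1}) ≤ p ^ 2) (T : Subgroup R) [T.Normal]
    (hT : Nat.card T = p) : Nat.card (closure {x : R ⧸ T | x ^ p = 1}) ≤ p ^ 2 := by
  by_contra! hlt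
  have hQ := hR.to_quotient T
  have h1p := hp.out.one_lt
  obtain ⟨B, hBe, hB⟩ : ∃ B : Subgroup (R ⧸ T), (∀ x ∈ B, x ^ p = 1) ∧ p ^ 2 < Nat.card B := by
    by_cases hr : Cfsg.PRankLE p 2 (R ⧸ T)
    · exact ⟨_, fun x hx => pow_eq_one_of_rank_two hp3 hQ hr hx, hlt⟩
    · unfold Cfsg.PRankLE at hr
      push Not at hr
      obtain ⟨A, -, h2, h3⟩ := hr
      exact ⟨A, h2, h3⟩
  obtain ⟨k, hk⟩ := IsPGroup.iff_card.1 (hQ.to_subgroup B)
  rw [hk, Nat.pow_lt_pow_iff_right h1p] at hB
  obtain ⟨K, hKB, hK⟩ := Sylow.exists_subgroup_le_card_pow_prime_of_le_card (n := 3) hp.out hQ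
    (H := B) (by rw [hk]; exact Nat.pow_le_pow_right hp.out.pos hB)
  let U : Subgroup R := K.comap (QuotientGroup.mk' T)
  have hU : Nat.card U = p ^ 4 := by
    have : Nat.card U = Nat.card T * Nat.card K := QuotientGroup.card_preimage_mk T K
    rw [this, hT, hK, ← pow_succ']
  have hTU : T ≤ U := by
    intro x hx
    rw [mem_comap, QuotientGroup.mk'_apply, (QuotientGroup.eq_one_iff x).2 hx]
    exact K.one_mem
  have h1 := cube_le_card_omega hp3 hU (T.subgroupOf U)
    (by rw [← hT]; exact Nat.card_congr (subgroupOfEquivOfLe hTU).toEquiv)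
    (fun x => (QuotientGroup.eq_one_iff ((x : R) ^ p)).1 (hBe _ (hKB x.2)))
  have h2 := (h1.trans (card_omega_le_of_injective U.subtype U.subtype_injective)).trans hO
  rw [Nat.pow_le_pow_iff_right h1p] at h2
  omega

private theorem card_omega_quotient_aux (hp3 : 3 < p) (n : ℕ) :
    ∀ (R : Type u) [Group R] [Finite R], Nat.card R = n → IsPGroup p R →
      Nat.card (closure {x : R | x ^ p = 1}) ≤ p ^ 2 → ∀ (T : Subgroup R) [T.Normal],
      Nat.card (closure {x : R ⧸ T | x ^ p = 1}) ≤ p ^ 2 := by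
  induction n using Nat.strong_induction_on with
  | _ n ih =>
  intro R _ _ hn hR hO T _
  by_cases hT : T = ⊥
  · subst hT
    exact (card_omega_le_of_injective (QuotientGroup.quotientBot (G := R)).toMonoidHom
      (MulEquiv.injective _)).trans hO
  obtain ⟨Z, hZn, hZT, hZ⟩ := exists_normal_card_le hR T (j := 1) (by
    have := mul_card_le_of_lt (hR.to_subgroup T) (bot_lt_iff_ne_bot.2 hT)
    simpa using this)
  rw [pow_one] at hZ
  have h1 := card_omega_quotient_le_of_card_eq hp3 hR hO Z hZ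
  have hlt : Nat.card (R ⧸ Z) < n := by
    have := Z.index_mul_card
    rw [hZ, hn] at this
    have h2 : 0 < Nat.card (R ⧸ Z) := Nat.card_pos
    have := hp.out.one_lt
    change Z.index < n
    change 0 < Z.index at h2
    nlinarith
  have h2 := ih _ hlt (R ⧸ Z) rfl (hR.to_quotient Z) h1 (T.map (QuotientGroup.mk' Z))
  exact (card_omega_le_of_injective
    (QuotientGroup.quotientQuotientEquivQuotient Z T hZT).symm.toMonoidHom
    (MulEquiv.injective _)).trans h2

/-- B&G 4.9. -/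
theorem card_omega_quotient_le (hp3 : 3 < p) (hR : IsPGroup p R)
    (hO : Nat.card (closure {x : R | x ^ p = 1}) ≤ p ^ 2) (T : Subgroup R) [T.Normal] :
    Nat.card (closure {x : R ⧸ T | x ^ p = 1}) ≤ p ^ 2 :=
  card_omega_quotient_aux hp3 _ R rfl hR hO T

omit [Finite R] hp in
theorem isCyclic_quotient_iff (N : Subgroup R) [N.Normal] :
    IsCyclic (R ⧸ N) ↔ ∃ d : R, N ⊔ zpowers d = ⊤ := by
  constructor
  · intro h
    obtain ⟨g, hg⟩ := h.exists_generator
    obtain ⟨x, rfl⟩ := QuotientGroup.mk_surjective g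
    refine ⟨x, eq_top_iff.2 fun y _ => ?_⟩
    obtain ⟨k, hk⟩ := hg (y : R ⧸ N)
    simp only [← QuotientGroup.mk_zpow] at hk
    rw [eq_comm, QuotientGroup.eq_iff_div_mem] at hk
    rw [← div_mul_cancel y (x ^ k)]
    exact mul_mem_sup hk (zpow_mem (mem_zpowers x) k)
  · rintro ⟨d, hd⟩
    refine ⟨⟨(d : R ⧸ N), fun g => ?_⟩⟩
    obtain ⟨x, rfl⟩ := QuotientGroup.mk_surjective g
    obtain ⟨k, hk, i, rfl⟩ := mem_sup_zpowers_iff_of_normal.1 (hd.ge (mem_top x))
    exact ⟨i, by simp [(QuotientGroup.eq_one_iff k).2 hk]⟩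

/-- If the `p`-th power map is multiplicative with kernel of order at most `p ^ 2` and the derived
subgroup lies in a cyclic subgroup, the group is metacyclic. -/
theorem isMetacyclic_of_mul_pow (hR : IsPGroup p R)
    (hmul : ∀ x y : R, (x * y) ^ p = x ^ p * y ^ p)
    (hO : Nat.card (closure {x : R | x ^ p = 1}) ≤ p ^ 2) {z : R}
    (hz : commutator R ≤ zpowers z) : Cfsg.IsMetacyclic R := by
  obtain ⟨N, hzN, hN⟩ := Finite.exists_le_maximal (p := fun N : Subgroup R => IsCyclic N)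
    (a := zpowers z) inferInstance
  have hNn : N.Normal := Normal.of_commutator_le R (hz.trans hzN)
  refine ⟨N, hNn, hN.prop, ?_⟩
  rw [isCyclic_quotient_iff]
  by_cases hNt : N = ⊤
  · exact ⟨1, by simp [hNt]⟩
  obtain ⟨c, hc⟩ := (Subgroup.isCyclic_iff_exists_zpowers_eq_top N).1 hN.prop
  let φ : R →* R := MonoidHom.mk' (fun x => x ^ p) hmul
  have hcD : c ∉ φ.range := by
    rintro ⟨d, hd⟩
    have hd' : d ^ p = c := hd
    have h1 : N ≤ zpowers d := by
      rw [← hc, ← hd', zpowers_le]; exact pow_mem (mem_zpowers d) p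
    have h2 : zpowers d ≤ N := hN.le_of_ge (inferInstance : IsCyclic (zpowers d)) h1
    have h3 : d = 1 := by
      by_contra h3
      have h4 := card_le_of_le h2
      rw [← hc, ← hd', Nat.card_zpowers, Nat.card_zpowers,
        orderOf_pow_of_dvd hp.out.ne_zero (hR.dvd_orderOf h3)] at h4
      exact absurd h4 (not_le.2 (Nat.div_lt_self (orderOf_pos d) hp.out.one_lt))
    apply hNt
    rw [eq_top_iff]
    intro x _
    have h4 : N ≤ zpowers x := by
      refine h1.trans ?_
      rw [h3, zpowers_one_eq_bot]; exact bot_le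
    exact hN.le_of_ge (inferInstance : IsCyclic (zpowers x)) h4 (mem_zpowers x)
  have h1 : φ.range < N ⊔ φ.range :=
    lt_of_le_of_ne le_sup_right fun e => hcD (e ▸ mem_sup_left (hc ▸ mem_zpowers c))
  have h2 := mul_card_le_of_lt (hR.to_subgroup _) h1
  have h3 : Nat.card φ.ker ≤ p ^ 2 := (card_le_of_le fun x hx => subset_closure hx).trans hO
  have h4 := φ.ker.card_mul_index
  rw [index_ker] at h4
  have hKn : (N ⊔ φ.range).Normal := Normal.of_commutator_le R ((hz.trans hzN).trans le_sup_left)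
  have h5 : (N ⊔ φ.range).index ≤ p := by
    have h6 := (N ⊔ φ.range).index_mul_card
    have h7 : (N ⊔ φ.range).index * (p * Nat.card φ.range) ≤ p * (p * Nat.card φ.range) :=
      calc _ ≤ _ := Nat.mul_le_mul_left _ h2
        _ = _ := h6
        _ = _ := h4.symm
        _ ≤ p ^ 2 * Nat.card φ.range := Nat.mul_le_mul_right _ h3
        _ = _ := by ring
    exact Nat.le_of_mul_le_mul_right h7 (Nat.mul_pos hp.out.pos Nat.card_pos)
  have h6 : IsCyclic (R ⧸ (N ⊔ φ.range)) := by
    apply isCyclic_of_card_dvd_prime (p := p)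
    obtain ⟨k, hk⟩ := hR.index (N ⊔ φ.range)
    rw [← index_eq_card, hk]
    rw [hk] at h5
    conv_rhs => rw [← pow_one p]
    conv_rhs at h5 => rw [← pow_one p]
    exact pow_dvd_pow _ ((Nat.pow_le_pow_iff_right hp.out.one_lt).1 h5)
  obtain ⟨d, hd⟩ := (isCyclic_quotient_iff _).1 h6
  refine ⟨d, ?_⟩
  by_contra hH
  obtain ⟨M, -, hM1, hM2, -, hM3⟩ := exists_maximal_ge hR hH
  have : M = ⊤ := by
    rw [eq_top_iff, ← hd]
    refine sup_le (sup_le (le_sup_left.trans hM1) ?_) (le_sup_right.trans hM1)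
    rintro _ ⟨x, rfl⟩
    exact hM3 x
  rw [this, index_top] at hM2
  exact hp.out.one_lt.ne hM2

omit hp in
/-- If `N = ⟨z, a⟩` is normal with `z` central and `R = N ⟨b⟩` then `R' ≤ ⟨[a, b]⟩ ⊴ R`. -/
theorem commutator_le_zpowers_of_sup {N : Subgroup R} [hNn : N.Normal] {z a b : R}
    (hz : z ∈ center R) (hN : zpowers z ⊔ zpowers a = N) (hb : N ⊔ zpowers b = ⊤) :
    (zpowers ⁅a, b⁆).Normal ∧ commutator R ≤ zpowers ⁅a, b⁆ := by
  have hzn : (zpowers z).Normal := by
    refine ⟨fun x hx g => ?_⟩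
    rw [mem_center_iff.1 (zpowers_le_of_mem hz hx) g]; simpa using hx
  have hzc : ∀ g, Commute z g := fun g => (mem_center_iff.1 hz g).symm
  have hform : ∀ n ∈ N, ∃ i j : ℤ, n = z ^ i * a ^ j := by
    intro n hn
    rw [← hN] at hn
    obtain ⟨_, ⟨i, rfl⟩, j, rfl⟩ := mem_sup_zpowers_iff_of_normal.1 hn
    exact ⟨i, j, rfl⟩
  have hcomm : ∀ n ∈ N, ∀ m ∈ N, Commute n m := by
    intro n hn m hm
    obtain ⟨i, j, rfl⟩ := hform n hn
    obtain ⟨k, l, rfl⟩ := hform m hm
    exact ((hzc _).zpow_left i).mul_left (((hzc _).zpow_left k).symm.mul_right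
      ((Commute.refl a).zpow_zpow j l))
  have haN : a ∈ N := hN ▸ mem_sup_right (mem_zpowers a)
  have hwN : ⁅a, b⁆ ∈ N := commutator_le_left N ⊤ (commutator_mem_commutator haN (mem_top b))
  have hW : ∀ n ∈ N, ⁅n, b⁆ ∈ zpowers ⁅a, b⁆ := by
    intro n hn
    obtain ⟨i, j, rfl⟩ := hform n hn
    rw [commutatorElement_mul_left_eq_conj_mul, ((hzc b).zpow_left i).commutator_eq, mul_one,
      ((hzc _).zpow_left i).eq, mul_inv_cancel_right, commutator_zpow_left (hcomm _ hwN _ haN)]
    exact zpow_mem (mem_zpowers _) j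
  have hg : ∀ g : R, ∃ n ∈ N, ∃ k : ℕ, g = n * b ^ k := by
    intro g
    obtain ⟨n, hn, i, rfl⟩ := mem_sup_zpowers_iff_of_normal.1 (hb.ge (mem_top g))
    obtain ⟨k, hk⟩ := (mem_powers_iff_mem_zpowers (x := b) (y := b ^ i)).2
      (zpow_mem (mem_zpowers b) i)
    exact ⟨n, hn, k, by rw [← hk]⟩
  have hWb : ∀ k : ℕ, ∀ x ∈ zpowers ⁅a, b⁆, b ^ k * x * (b ^ k)⁻¹ ∈ zpowers ⁅a, b⁆ := by
    intro k
    induction k with
    | zero => simp
    | succ k ih =>
      rintro _ ⟨i, rfl⟩
      have : b ^ (k + 1) * ⁅a, b⁆ ^ i * (b ^ (k + 1))⁻¹ =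
          b ^ k * ⁅b * a * b⁻¹, b⁆ ^ i * (b ^ k)⁻¹ := by
        have e : ⁅b * a * b⁻¹, b⁆ = b * ⁅a, b⁆ * b⁻¹ := by simp only [commutatorElement_def]; group
        rw [e, conj_zpow, pow_succ]; group
      simp only
      rw [this]
      exact ih _ (zpow_mem (hW _ (hNn.conj_mem a haN b)) i)
  have hWn : (zpowers ⁅a, b⁆).Normal := by
    refine ⟨fun x hx g => ?_⟩
    obtain ⟨n, hn, k, rfl⟩ := hg g
    have h1 := hWb k x hx
    have : n * b ^ k * x * (n * b ^ k)⁻¹ = n * (b ^ k * x * (b ^ k)⁻¹) * n⁻¹ := by group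
    rw [this, (hcomm n hn _ (zpowers_le_of_mem hwN h1)).eq, mul_inv_cancel_right]
    exact h1
  refine ⟨hWn, ?_⟩
  rw [← Normal.quotient_commutative_iff_commutator_le]
  refine ⟨⟨fun x y => ?_⟩⟩
  obtain ⟨x, rfl⟩ := QuotientGroup.mk'_surjective _ x
  obtain ⟨y, rfl⟩ := QuotientGroup.mk'_surjective _ y
  obtain ⟨n, hn, k, rfl⟩ := hg x
  obtain ⟨m, hm, l, rfl⟩ := hg y
  set π := QuotientGroup.mk' (zpowers ⁅a, b⁆)
  have h1 : ∀ n ∈ N, Commute (π n) (π b) := fun n hn => by
    rw [← commutatorElement_eq_one_iff_commute, ← map_commutatorElement]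
    exact (QuotientGroup.eq_one_iff _).2 (hW n hn)
  simp only [map_mul, map_pow]
  exact (((hcomm n hn m hm).map π).mul_right ((h1 n hn).pow_right l)).mul_left
    (((h1 m hm).symm.pow_left k).mul_right ((Commute.refl _).pow_pow k l))

private theorem isMetacyclic_aux (hp3 : 3 < p) (n : ℕ) :
    ∀ (R : Type u) [Group R] [Finite R], Nat.card R = n → IsPGroup p R →
      Nat.card (closure {x : R | x ^ p = 1}) ≤ p ^ 2 → Cfsg.IsMetacyclic R := by
  induction n using Nat.strong_induction_on with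
  | _ n ih =>
  intro R _ _ hn hR hO
  by_cases hab : commutator R = ⊥
  · have := (commutator_eq_bot_iff R).1 hab
    exact isMetacyclic_of_mul_pow hR (fun x y => Commute.mul_pow (mul_comm' x y) p) hO (z := 1)
      (by simp [hab])
  obtain ⟨z, hz1, hz2, hz3, hz4⟩ := exists_mem_center_of_normal hR (commutator R) hab
  have hzn : (zpowers z).Normal := by
    refine ⟨fun x hx g => ?_⟩
    rw [mem_center_iff.1 (zpowers_le_of_mem hz3 hx) g]; simpa using hx
  have hT : Nat.card (zpowers z) = p := by rw [Nat.card_zpowers, orderOf_eq_prime hz4 hz2]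
  have hlt : Nat.card (R ⧸ zpowers z) < n := by
    have := (zpowers z).index_mul_card
    rw [hT, hn] at this
    have h2 : 0 < Nat.card (R ⧸ zpowers z) := Nat.card_pos
    have := hp.out.one_lt
    change (zpowers z).index < n
    change 0 < (zpowers z).index at h2
    nlinarith
  obtain ⟨Nb, hNbn, hNb, hQ⟩ := ih _ hlt _ rfl (hR.to_quotient _)
    (card_omega_quotient_le hp3 hR hO (zpowers z))
  set π := QuotientGroup.mk' (zpowers z) with hπ
  have hsurj : Function.Surjective π := QuotientGroup.mk'_surjective _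
  obtain ⟨a, ha⟩ := (Subgroup.isCyclic_iff_exists_zpowers_eq_top Nb).1 hNb
  obtain ⟨a, rfl⟩ := hsurj a
  obtain ⟨b, hb⟩ := (isCyclic_quotient_iff Nb).1 hQ
  obtain ⟨b, rfl⟩ := hsurj b
  have hN : zpowers z ⊔ zpowers a = Nb.comap π := by
    rw [← ha, ← MonoidHom.map_zpowers, comap_map_eq, hπ, QuotientGroup.ker_mk', sup_comm]
  have hb' : Nb.comap π ⊔ zpowers b = ⊤ := by
    have := comap_sup_eq π Nb (zpowers (π b)) hsurj
    rw [hb, comap_top, ← MonoidHom.map_zpowers, comap_map_eq, hπ, QuotientGroup.ker_mk',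
      ← sup_assoc] at this
    rw [← this, ← hπ, ← hN]
    exact le_antisymm le_sup_left (sup_le le_rfl (le_sup_left.trans le_sup_left))
  obtain ⟨hWn, hW⟩ := commutator_le_zpowers_of_sup hz3 hN hb'
  by_cases hw : ⁅a, b⁆ ^ p = 1
  · have h1 : zpowers ⁅a, b⁆ ≤ center R := le_center_of_card_le hR (by
      rw [Nat.card_zpowers]; exact Nat.le_of_dvd hp.out.pos (orderOf_dvd_of_pow_eq_one hw))
    refine isMetacyclic_of_mul_pow hR (fun x y => ?_) hO hW
    have h2 := hW.trans h1
    apply mul_pow_of_odd (commute_of_commutator_le_center h2 _ _ _)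
      (commute_of_commutator_le_center h2 _ _ _) (hp.out.odd_of_ne_two (by omega))
    obtain ⟨i, hi⟩ := hW (commutatorElement_mem_commutator y x)
    rw [← hi, ← zpow_natCast, ← zpow_mul, mul_comm, zpow_mul, zpow_natCast, hw, one_zpow]
  · have hza : z ∈ zpowers a := by
      obtain ⟨k, hk⟩ := hW hz1
      simp only at hk
      have hpk : (p : ℤ) ∣ k := by
        by_contra hpk
        apply hw
        obtain ⟨m, hm⟩ := IsPGroup.iff_orderOf.1 hR ⁅a, b⁆
        have hcop : IsCoprime k (orderOf ⁅a, b⁆ : ℤ) := by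
          rw [hm]; push_cast
          apply IsCoprime.pow_right
          apply IsCoprime.symm
          rwa [(Nat.prime_iff_prime_int.1 hp.out).coprime_iff_not_dvd]
        obtain ⟨u, v, huv⟩ := hcop
        have h1 : ⁅a, b⁆ = z ^ u := by
          rw [← hk, ← zpow_mul]
          conv_lhs => rw [← zpow_one ⁅a, b⁆, ← huv]
          rw [zpow_add, mul_comm v, zpow_mul _ (orderOf ⁅a, b⁆ : ℤ), zpow_natCast,
            pow_orderOf_eq_one]
          simp [mul_comm]
        rw [h1, ← zpow_natCast, ← zpow_mul, mul_comm, zpow_mul, zpow_natCast, hz4, one_zpow]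
      obtain ⟨l, rfl⟩ := hpk
      have haN : a ∈ Nb.comap π := hN ▸ mem_sup_right (mem_zpowers a)
      have hwN : ⁅a, b⁆ ∈ Nb.comap π :=
        commutator_le_left _ ⊤ (commutator_mem_commutator haN (mem_top b))
      rw [← hN] at hwN
      obtain ⟨_, ⟨i, rfl⟩, j, hij⟩ := mem_sup_zpowers_iff_of_normal.1 hwN
      have hzc : Commute (z ^ i) (a ^ j) :=
        Commute.zpow_left (mem_center_iff.1 hz3 _).symm i
      rw [zpow_mul, zpow_natCast, hij, hzc.mul_pow, ← zpow_natCast, ← zpow_mul, mul_comm i,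
        zpow_mul, zpow_natCast, hz4, one_zpow, one_mul] at hk
      rw [← hk]
      exact zpow_mem (pow_mem (zpow_mem (mem_zpowers a) j) p) l
    refine ⟨Nb.comap π, inferInstance, ?_, (isCyclic_quotient_iff _).2 ⟨b, hb'⟩⟩
    rw [← hN, sup_eq_right.2 (zpowers_le_of_mem hza)]
    infer_instance

/-- B&G 4.11 (Huppert). -/
theorem isMetacyclic_of_card_omega_le (hp3 : 3 < p) (hR : IsPGroup p R)
    (hO : Nat.card (closure {x : R | x ^ p = 1}) ≤ p ^ 2) : Cfsg.IsMetacyclic R :=
  isMetacyclic_aux hp3 _ R rfl hR hO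

omit hp in
/-- Counting fixed points of an automorphism of prime order `q` on an invariant subgroup. -/
theorem card_modEq_card_fixed {q : ℕ} (hq : q.Prime) (α : MulAut R) (hα : α ^ q = 1)
    (K : Subgroup R) (hK : ∀ x ∈ K, α x ∈ K) :
    Nat.card K ≡ Nat.card (K ⊓ α.toMonoidHom.eqLocus (MonoidHom.id R) : Subgroup R) [MOD q] := by
  classical
  have := Fact.mk hq
  have := Fintype.ofFinite R
  let f : Function.End K := fun x => ⟨α x, hK x x.2⟩
  have hf : ∀ (n : ℕ) (x : K), (((f ^ n) x : K) : R) = (α ^ n) x := by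
    intro n
    induction n with
    | zero => intro x; rfl
    | succ n ih =>
      intro x
      rw [pow_succ', pow_succ', MulAut.mul_apply, ← ih]; rfl
  have h1 : f ^ q ^ 1 = 1 := by
    funext x
    apply Subtype.ext
    rw [hf, pow_one, hα]; rfl
  have h2 := Equiv.Perm.card_fixedPoints_modEq h1
  rw [← Nat.card_eq_fintype_card, ← Nat.card_eq_fintype_card] at h2
  have h3 : Nat.card f.fixedPoints =
      Nat.card (K ⊓ α.toMonoidHom.eqLocus (MonoidHom.id R) : Subgroup R) :=
    Nat.card_congr ⟨fun x => ⟨x.1.1, x.1.2, congrArg Subtype.val x.2⟩,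
      fun x => ⟨⟨x.1, x.2.1⟩, Subtype.ext x.2.2⟩, fun _ => rfl, fun _ => rfl⟩
  rwa [h3] at h2

theorem dvd_sq_sub_one_of_aut (hR : IsPGroup p R) {q : ℕ} (hq : q.Prime) (hqp : q ≠ p)
    (α : MulAut R) (hα : α ^ q = 1) (K : Subgroup R) (hK : ∀ x ∈ K, α x ∈ K)
    (hne : ∃ x ∈ K, α x ≠ x)
    (hc : Nat.card K ≤
      p ^ 2 * Nat.card (K ⊓ α.toMonoidHom.eqLocus (MonoidHom.id R) : Subgroup R)) :
    q ∣ p ^ 2 - 1 := by
  have h1 := card_modEq_card_fixed hq α hα K hK
  set F := K ⊓ α.toMonoidHom.eqLocus (MonoidHom.id R) with hF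
  have hlt : F < K := by
    refine lt_of_le_of_ne inf_le_left fun e => ?_
    obtain ⟨x, hx, hx'⟩ := hne
    rw [← e] at hx
    exact hx' hx.2
  have h2 := mul_card_le_of_lt (hR.to_subgroup K) hlt
  obtain ⟨m, hm⟩ := IsPGroup.iff_card.1 (hR.to_subgroup K)
  obtain ⟨k, hk⟩ := IsPGroup.iff_card.1 (hR.to_subgroup F)
  rw [hm, hk] at h1 h2 hc
  rw [← pow_succ', Nat.pow_le_pow_iff_right hp.out.one_lt] at h2
  rw [← pow_add, Nat.pow_le_pow_iff_right hp.out.one_lt] at hc
  obtain ⟨d, rfl⟩ := Nat.exists_eq_add_of_le (Nat.le_of_succ_le h2)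
  have hcop : Nat.gcd q (p ^ k) = 1 :=
    Nat.Coprime.pow_right _ ((Nat.coprime_primes hq hp.out).2 hqp)
  have h3 : p ^ d ≡ 1 [MOD q] :=
    Nat.ModEq.cancel_left_of_coprime hcop (by rwa [mul_one, ← pow_add])
  apply (Nat.modEq_iff_dvd' (Nat.one_le_pow _ _ hp.out.pos)).1
  have hd : d = 1 ∨ d = 2 := by omega
  rcases hd with rfl | rfl
  · simpa using (h3.pow 2).symm
  · exact h3.symm

theorem lt_of_dvd_sq_sub_one (hp2 : p ≠ 2) {q : ℕ} (hq : q.Prime) (hqp : q ≠ p)
    (h : q ∣ p ^ 2 - 1) : q < p := by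
  have h2 : p ^ 2 - 1 = (p + 1) * (p - 1) := by rw [← Nat.sq_sub_sq, one_pow]
  have h1p := hp.out.one_lt
  rw [h2, hq.dvd_mul] at h
  rcases h with h | h
  · have h3 := Nat.le_of_dvd (by omega) h
    have h4 : q ≠ p + 1 := by
      rintro rfl
      have := hq.eq_two_or_odd'.resolve_left (by omega)
      exact Nat.not_even_iff_odd.2 this (hp.out.odd_of_ne_two hp2).add_one
    omega
  · have h3 := Nat.le_of_dvd (by omega) h
    omega

/-- A `p'`-automorphism `α ≠ 1` of a `p`-group (`p` odd) acts nontrivially on a characteristic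
subgroup of exponent `p` and class at most two (B&G 1.13). -/
theorem exists_char_exponent_p (hp2 : p ≠ 2) (hR : IsPGroup p R) :
    ∃ H : Subgroup R, H.Characteristic ∧ (∀ x ∈ H, x ^ p = 1) ∧
      ⁅H, (⊤ : Subgroup R)⁆ ≤ centralizer (H : Set R) ∧
      ∀ α : MulAut R, Nat.Coprime (orderOf α) p → (∀ x ∈ H, α x = x) → α = 1 := by
  obtain ⟨C, hC, -, h2, h3⟩ := exists_critical hR
  have hodd := hp.out.odd_of_ne_two hp2
  have h4 : ⁅C, C⁆ ≤ centralizer (C : Set R) :=
    (commutator_mono le_rfl le_top).trans (h2.trans inf_le_right)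
  let H : Subgroup R :=
    { carrier := {m | m ∈ C ∧ m ^ p = 1}
      one_mem' := ⟨one_mem _, one_pow _⟩
      mul_mem' := fun {a b} ha hb => ⟨mul_mem ha.1 hb.1, by
        have h5 := h4 (commutator_mem_commutator hb.1 ha.1)
        rw [mul_pow_of_odd' (h5 a ha.1).symm (h5 b hb.1).symm hodd
          (by rw [hb.2]; exact Commute.one_left a), ha.2, hb.2, one_mul]⟩
      inv_mem' := fun {a} ha => ⟨inv_mem ha.1, by rw [inv_pow, ha.2, inv_one]⟩ }
  have hHC : H ≤ C := fun x hx => hx.1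
  refine ⟨H, ?_, fun x hx => hx.2, ?_, fun α hα h => ?_⟩
  · rw [characteristic_iff_le_comap]
    intro φ x hx
    exact ⟨characteristic_iff_le_comap.1 hC φ hx.1, by
      change φ x ^ p = 1
      rw [← map_pow, hx.2, map_one]⟩
  · exact (commutator_mono hHC le_rfl).trans (h2.trans (inf_le_right.trans (centralizer_le hHC)))
  · exact aut_eq_one_of_centralizer_le hR C h3 α hα (aut_apply_eq_of_class_two hodd hR C h4 α
      (characteristic_iff_le_comap.1 hC α) hα fun x hx hx' => h x ⟨hx, hx'⟩)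

/-- B&G 4.13 for a single automorphism of prime order. -/
theorem dvd_sq_sub_one_of_rank_two (hp2 : p ≠ 2) (hR : IsPGroup p R) (hr : Cfsg.PRankLE p 2 R)
    {q : ℕ} (hq : q.Prime) (hqp : q ≠ p) (α : MulAut R) (hα : orderOf α = q) :
    q ∣ p ^ 2 - 1 := by
  obtain ⟨H, hH, hHe, -, h⟩ := exists_char_exponent_p hp2 hR
  have hαq : α ^ q = 1 := hα ▸ pow_orderOf_eq_one α
  have hne : ∃ x ∈ H, α x ≠ x := by
    by_contra! h'
    have := h α (by rw [hα]; exact (Nat.coprime_primes hq hp.out).2 hqp) h'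
    rw [this, orderOf_one] at hα
    exact hq.one_lt.ne hα
  have hinv : ∀ x ∈ H, α x ∈ H := characteristic_iff_le_comap.1 hH α
  have h3 := card_le_cube_of_forall_mem hr H hHe
  by_cases hF : (H ⊓ α.toMonoidHom.eqLocus (MonoidHom.id R) : Subgroup R) = ⊥
  · have hZ : (H ⊓ centralizer (H : Set R)).Characteristic := inferInstance
    have hHb : H ≠ ⊥ := by
      rintro rfl
      obtain ⟨x, hx, hx'⟩ := hne
      rw [mem_bot] at hx
      exact hx' (by rw [hx, map_one])
    obtain ⟨z, hz1, hz2, hz3, -⟩ := exists_mem_center_of_normal hR H hHb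
    refine dvd_sq_sub_one_of_aut hR hq hqp α hαq (H ⊓ centralizer (H : Set R))
      (characteristic_iff_le_comap.1 hZ α) ⟨z, ⟨hz1, center_le_centralizer _ hz3⟩, fun e => hz2 ?_⟩
      ((hr (H ⊓ centralizer (H : Set R)) ?_ fun a ha => hHe a ha.1).trans (Nat.le_mul_of_pos_right _ Nat.card_pos))
    · rw [← mem_bot, ← hF]; exact ⟨hz1, e⟩
    · exact IsMulCommutative.of_setLike_mul_comm fun a ha b hb => hb.2 a ha.1
  · refine dvd_sq_sub_one_of_aut hR hq hqp α hαq H hinv hne (h3.trans ?_)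
    have := mul_card_le_of_lt (hR.to_subgroup _) (bot_lt_iff_ne_bot.2 hF)
    rw [card_bot, mul_one] at this
    rw [pow_succ]
    exact Nat.mul_le_mul_left _ this

/-- B&G 4.13. -/
theorem prime_dvd_card_aut_of_rank_two (hp2 : p ≠ 2) (hR : IsPGroup p R)
    (hr : Cfsg.PRankLE p 2 R) {q : ℕ} (hq : q.Prime) (hqp : q ≠ p)
    (hdvd : q ∣ Nat.card (MulAut R)) : q ∣ p ^ 2 - 1 ∧ q < p := by
  have := Fact.mk hq
  obtain ⟨α, hα⟩ := exists_prime_orderOf_dvd_card' q hdvd
  have h := dvd_sq_sub_one_of_rank_two hp2 hR hr hq hqp α hα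
  exact ⟨h, lt_of_dvd_sq_sub_one hp2 hq hqp h⟩

end CL.PGrp.RankTwo
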