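import Cfsg.Agent.Base

/-!
Commutator and power identities in groups of nilpotency class at most two or three.
-/

namespace CL.PGrp

open Subgroup
open scoped commutatorElement

variable {G : Type*} [Group G]

theorem commutator_pow_left {x y : G} (h : Commute ⁅x, y⁆ x) (n : ℕ) :
    ⁅x ^ n, y⁆ = ⁅x, y⁆ ^ n := by
  induction n with
  | zero => simp
  | succ n ih =>
    rw [pow_succ', commutatorElement_mul_left_eq_conj_mul, ih, pow_succ,
      ← (h.pow_left n).eq]
    group

theorem commutator_pow_right {x y : G} (h : Commute ⁅x, y⁆ y) (n : ℕ) :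
    ⁅x, y ^ n⁆ = ⁅x, y⁆ ^ n := by
  have h' : Commute ⁅y, x⁆ y := by
    rw [← commutatorElement_inv]
    exact h.inv_left
  rw [← commutatorElement_inv, commutator_pow_left h', ← inv_pow, commutatorElement_inv]

theorem commutator_zpow_left {x y : G} (h : Commute ⁅x, y⁆ x) (n : ℤ) :
    ⁅x ^ n, y⁆ = ⁅x, y⁆ ^ n := by
  obtain ⟨n, rfl | rfl⟩ := n.eq_nat_or_neg
  · rw [zpow_natCast, zpow_natCast, commutator_pow_left h]
  · rw [zpow_neg, zpow_neg, zpow_natCast, zpow_natCast, commutatorElement_inv_left,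
      ← commutatorElement_inv, commutator_pow_left h, mul_assoc,
      ((h.pow_pow n n).inv_left).eq]
    group

theorem commutator_zpow_right {x y : G} (h : Commute ⁅x, y⁆ y) (n : ℤ) :
    ⁅x, y ^ n⁆ = ⁅x, y⁆ ^ n := by
  have h' : Commute ⁅y, x⁆ y := by
    rw [← commutatorElement_inv]
    exact h.inv_left
  rw [← commutatorElement_inv, commutator_zpow_left h', ← inv_zpow, commutatorElement_inv]

/-- Left multiplicativity of the commutator when `⁅b, c⁆` commutes with `a`. -/
theorem commutator_mul_left {a b c : G} (h : Commute ⁅b, c⁆ a) :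
    ⁅a * b, c⁆ = ⁅b, c⁆ * ⁅a, c⁆ := by
  rw [commutatorElement_mul_left_eq_conj_mul, ← h.eq]
  group

/-- Right multiplicativity of the commutator when `⁅a, c⁆` commutes with `b`. -/
theorem commutator_mul_right {a b c : G} (h : Commute ⁅a, c⁆ b) :
    ⁅a, b * c⁆ = ⁅a, b⁆ * ⁅a, c⁆ := by
  rw [commutatorElement_mul_right_eq_mul_conj, mul_assoc, mul_assoc, ← mul_assoc b, ← h.eq]
  group

/-- `(x y) ^ n = ⁅y, x⁆ ^ (n choose 2) x ^ n y ^ n` when `⁅y, x⁆` commutes with `x` and `y`. -/
theorem mul_pow_class_two {x y : G} (hx : Commute ⁅y, x⁆ x) (hy : Commute ⁅y, x⁆ y) (n : ℕ) :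
    (x * y) ^ n = ⁅y, x⁆ ^ n.choose 2 * (x ^ n * y ^ n) := by
  induction n with
  | zero => simp
  | succ n ih =>
    have h1 : y ^ n * x = ⁅y, x⁆ ^ n * (x * y ^ n) := by
      rw [← commutator_pow_left hy, commutatorElement_def]
      group
    rw [pow_succ, ih, Nat.choose_succ_succ' n 1, Nat.choose_one_right, add_comm n, pow_add]
    calc ⁅y, x⁆ ^ n.choose 2 * (x ^ n * y ^ n) * (x * y)
        = ⁅y, x⁆ ^ n.choose 2 * (x ^ n * (y ^ n * x) * y) := by group
      _ = ⁅y, x⁆ ^ n.choose 2 * ((x ^ n * ⁅y, x⁆ ^ n) * (x * y ^ n) * y) := by rw [h1]; group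
      _ = ⁅y, x⁆ ^ n.choose 2 * ((⁅y, x⁆ ^ n * x ^ n) * (x * y ^ n) * y) := by
          rw [(hx.pow_pow n n).eq]
      _ = _ := by group

theorem prime_pow_dvd_choose_two {p : ℕ} (hp : p.Prime) {n : ℕ} (h2 : p ^ n ≠ 2) :
    p ∣ (p ^ n).choose 2 := by
  apply hp.dvd_choose_pow (by norm_num) (Ne.symm h2)

theorem dvd_choose_two_of_odd {n : ℕ} (hn : Odd n) : n ∣ n.choose 2 := by
  obtain ⟨k, rfl⟩ := hn
  rw [Nat.choose_two_right]
  exact ⟨k, by
    rw [Nat.add_sub_cancel, ← mul_assoc, mul_comm (2 * k + 1) 2, mul_assoc,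
      Nat.mul_div_cancel_left _ two_pos]⟩

/-- For odd `n`: if `⁅y, x⁆` commutes with `x`, `y` and has order dividing `n`, then
`(x y) ^ n = x ^ n y ^ n`. -/
theorem mul_pow_of_odd {x y : G} (hx : Commute ⁅y, x⁆ x) (hy : Commute ⁅y, x⁆ y) {n : ℕ}
    (hn : Odd n) (h : ⁅y, x⁆ ^ n = 1) : (x * y) ^ n = x ^ n * y ^ n := by
  obtain ⟨k, hk⟩ := dvd_choose_two_of_odd hn
  rw [mul_pow_class_two hx hy, hk, pow_mul, h, one_pow, one_mul]

/-- For odd `n`: if `⁅y, x⁆` commutes with `x`, `y` and `y ^ n` commutes with `x`, then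
`(x y) ^ n = x ^ n y ^ n`. -/
theorem mul_pow_of_odd' {x y : G} (hx : Commute ⁅y, x⁆ x) (hy : Commute ⁅y, x⁆ y) {n : ℕ}
    (hn : Odd n) (h : Commute (y ^ n) x) : (x * y) ^ n = x ^ n * y ^ n := by
  apply mul_pow_of_odd hx hy hn
  rw [← commutator_pow_left hy, h.commutator_eq]

/-- The collection formula in class three. -/
theorem mul_pow_class_three {x y c d e : G} (hyx : y * x = x * y * c) (hcx : c * x = x * c * d)
    (hcy : c * y = y * c * e) (hd : ∀ g, Commute d g) (he : ∀ g, Commute e g) (n : ℕ) :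
    (x * y) ^ n =
      x ^ n * y ^ n * c ^ n.choose 2 * (d ^ n.choose 3 * e ^ (n.choose 3 + (n + 1).choose 3)) := by
  have h1 : ∀ k : ℕ, c ^ k * x = x * c ^ k * d ^ k := by
    intro k
    induction k with
    | zero => simp
    | succ k ih =>
      calc c ^ (k + 1) * x = c ^ k * (c * x) := by rw [pow_succ, mul_assoc]
        _ = (c ^ k * x) * c * d := by rw [hcx]; group
        _ = x * c ^ k * (d ^ k * c) * d := by rw [ih]; group
        _ = x * c ^ k * (c * d ^ k) * d := by rw [((hd c).pow_left k).eq]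
        _ = _ := by group
  have h2 : ∀ k : ℕ, c ^ k * y = y * c ^ k * e ^ k := by
    intro k
    induction k with
    | zero => simp
    | succ k ih =>
      calc c ^ (k + 1) * y = c ^ k * (c * y) := by rw [pow_succ, mul_assoc]
        _ = (c ^ k * y) * c * e := by rw [hcy]; group
        _ = y * c ^ k * (e ^ k * c) * e := by rw [ih]; group
        _ = y * c ^ k * (c * e ^ k) * e := by rw [((he c).pow_left k).eq]
        _ = _ := by group
  have h3 : ∀ k : ℕ, y ^ k * x = x * y ^ k * c ^ k * e ^ k.choose 2 := by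
    intro k
    induction k with
    | zero => simp
    | succ k ih =>
      rw [Nat.choose_succ_succ' k 1, Nat.choose_one_right]
      calc y ^ (k + 1) * x = y ^ k * (y * x) := by rw [pow_succ, mul_assoc]
        _ = (y ^ k * x) * y * c := by rw [hyx]; group
        _ = x * y ^ k * c ^ k * (e ^ k.choose 2 * (y * c)) := by rw [ih]; group
        _ = x * y ^ k * (c ^ k * y) * c * e ^ k.choose 2 := by
            rw [((he (y * c)).pow_left _).eq]; group
        _ = x * y ^ k * y * c ^ k * (e ^ k * c) * e ^ k.choose 2 := by rw [h2]; group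
        _ = x * y ^ k * y * c ^ k * (c * e ^ k) * e ^ k.choose 2 := by
            rw [((he c).pow_left k).eq]
        _ = _ := by group
  induction n with
  | zero => simp [Nat.choose]
  | succ n ih =>
    have hz : ∀ (a b : ℕ) (g : G), Commute (d ^ a * e ^ b) g := fun a b g =>
      ((hd g).pow_left a).mul_left ((he g).pow_left b)
    rw [pow_succ, ih, Nat.choose_succ_succ' (n + 1) 2, Nat.choose_succ_succ' n 2,
      Nat.choose_succ_succ' n 1, Nat.choose_one_right]
    have h3n := h3 n
    generalize n.choose 2 = a at h3n ⊢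
    generalize n.choose 3 = b
    calc x ^ n * y ^ n * c ^ a * (d ^ b * e ^ (b + (a + b))) * (x * y)
        = x ^ n * y ^ n * c ^ a * ((d ^ b * e ^ (b + (a + b))) * (x * y)) := by group
      _ = x ^ n * y ^ n * (c ^ a * x) * y * (d ^ b * e ^ (b + (a + b))) := by
          rw [(hz _ _ _).eq]; group
      _ = x ^ n * (y ^ n * x) * c ^ a * (d ^ a * y) * (d ^ b * e ^ (b + (a + b))) := by
          rw [h1]; group
      _ = x ^ n * x * y ^ n * c ^ n * (e ^ a * (c ^ a * y)) * d ^ a *
            (d ^ b * e ^ (b + (a + b))) := by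
          rw [h3n, ((hd y).pow_left a).eq]; group
      _ = x ^ n * x * y ^ n * (c ^ (n + a) * y) * (e ^ a * (d ^ a * d ^ b)) *
            e ^ (b + (a + b)) := by
          rw [((he (c ^ a * y)).pow_left a).eq]; group
      _ = x ^ n * x * y ^ n * y * c ^ (n + a) * (e ^ (n + a) * e ^ a * (d ^ a * d ^ b)) *
            e ^ (b + (a + b)) := by
          rw [h2]; group
      _ = x ^ n * x * y ^ n * y * c ^ (n + a) * ((d ^ a * d ^ b) * (e ^ (n + a) * e ^ a)) *
            e ^ (b + (a + b)) := by
          rw [(((he _).pow_left (n + a)).mul_left ((he _).pow_left a)).eq]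
      _ = _ := by group

/-- In class three, `[y, x ^ n] = [y, x] ^ n [y, x, x] ^ (n choose 2)`, in the form of a
commutation rule. -/
theorem pow_mul_class_three {x y c e : G} (hyx : y * x = x * y * c)
    (hcy : c * y = y * c * e) (he : ∀ g, Commute e g) (k : ℕ) :
    y ^ k * x = x * y ^ k * c ^ k * e ^ k.choose 2 := by
  have h2 : ∀ k : ℕ, c ^ k * y = y * c ^ k * e ^ k := by
    intro k
    induction k with
    | zero => simp
    | succ k ih =>
      calc c ^ (k + 1) * y = c ^ k * (c * y) := by rw [pow_succ, mul_assoc]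
        _ = (c ^ k * y) * c * e := by rw [hcy]; group
        _ = y * c ^ k * (e ^ k * c) * e := by rw [ih]; group
        _ = y * c ^ k * (c * e ^ k) * e := by rw [((he c).pow_left k).eq]
        _ = _ := by group
  induction k with
  | zero => simp
  | succ k ih =>
    rw [Nat.choose_succ_succ' k 1, Nat.choose_one_right]
    calc y ^ (k + 1) * x = y ^ k * (y * x) := by rw [pow_succ, mul_assoc]
      _ = (y ^ k * x) * y * c := by rw [hyx]; group
      _ = x * y ^ k * c ^ k * (e ^ k.choose 2 * (y * c)) := by rw [ih]; group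
      _ = x * y ^ k * (c ^ k * y) * c * e ^ k.choose 2 := by
          rw [((he (y * c)).pow_left _).eq]; group
      _ = x * y ^ k * y * c ^ k * (e ^ k * c) * e ^ k.choose 2 := by rw [h2]; group
      _ = x * y ^ k * y * c ^ k * (c * e ^ k) * e ^ k.choose 2 := by
          rw [((he c).pow_left k).eq]
      _ = _ := by group

end CL.PGrp
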