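import Cfsg.Agent.PGrp.Basic
import Cfsg.Agent.PGrp.Power

/-!
Duality for bimultiplicative pairings with values in a cyclic group; application to commutator
pairings: if `⁅A, B⁆` lies in a cyclic subgroup centralising `A` and `B` then
`|A : C_A(B)| = |B : C_B(A)|`.
-/

namespace CL.PGrp

open Subgroup
open scoped commutatorElement

theorem index_ker_le_index_ker_flip {A B : Type*} [Group A] [Group B] [Finite B]
    (Φ : A →* B →* ℂˣ) : Φ.ker.index ≤ Φ.flip.ker.index := by
  let V := Φ.flip.range
  have : Finite V := Finite.of_surjective _ Φ.flip.rangeRestrict_surjective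
  have : NeZero (Monoid.exponent V) := ⟨Monoid.exponent_ne_zero_of_finite⟩
  let Ψ : A →* V →* ℂˣ := V.subtype.flip
  have hker : Ψ.ker = Φ.ker := by
    ext a
    simp only [MonoidHom.mem_ker, MonoidHom.ext_iff]
    constructor
    · intro h b
      exact h ⟨Φ.flip b, b, rfl⟩
    · rintro h ⟨_, b, rfl⟩
      exact h b
  have hc := CommGroup.card_monoidHom_of_hasEnoughRootsOfUnity V ℂ
  have : Finite (V →* ℂˣ) := Nat.finite_of_card_ne_zero (hc ▸ Nat.card_pos.ne')
  rw [← hker, Subgroup.index_ker, Subgroup.index_ker, ← hc]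
  exact Subgroup.card_le_card_group _

theorem index_ker_eq_index_ker_flip {A B : Type*} [Group A] [Group B] [Finite A] [Finite B]
    (Φ : A →* B →* ℂˣ) : Φ.ker.index = Φ.flip.ker.index :=
  le_antisymm (index_ker_le_index_ker_flip Φ) (index_ker_le_index_ker_flip Φ.flip)

/-- A finite cyclic group embeds in `ℂˣ`. -/
theorem exists_injective_units_complex (Z : Type*) [Group Z] [Finite Z] [IsCyclic Z] :
    ∃ ι : Z →* ℂˣ, Function.Injective ι := by
  have : NeZero (Nat.card Z) := ⟨Nat.card_pos.ne'⟩
  have h : Nat.card Z = Nat.card (rootsOfUnity (Nat.card Z) ℂ) := by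
    rw [Complex.card_rootsOfUnity]
  exact ⟨(rootsOfUnity (Nat.card Z) ℂ).subtype.comp (mulEquivOfCyclicCardEq h).toMonoidHom,
    Subtype.val_injective.comp (mulEquivOfCyclicCardEq h).injective⟩

/-- Duality for a pairing with values in a finite cyclic group. -/
theorem index_ker_eq_of_pairing {A B Z : Type*} [Group A] [Group B] [Finite A] [Finite B]
    [CommGroup Z] [Finite Z] [IsCyclic Z] (Φ : A →* B →* Z) :
    Φ.ker.index = Φ.flip.ker.index := by
  obtain ⟨ι, hι⟩ := exists_injective_units_complex Z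
  have h := index_ker_eq_index_ker_flip (Φ.compr₂ ι)
  have h1 : (Φ.compr₂ ι).ker = Φ.ker := by
    ext a
    simp only [MonoidHom.mem_ker, MonoidHom.ext_iff, MonoidHom.compr₂_apply, MonoidHom.one_apply,
      map_eq_one_iff ι hι]
  have h2 : (Φ.compr₂ ι).flip.ker = Φ.flip.ker := by
    ext a
    simp only [MonoidHom.mem_ker, MonoidHom.ext_iff, MonoidHom.flip_apply, MonoidHom.compr₂_apply,
      MonoidHom.one_apply, map_eq_one_iff ι hι]
  rwa [h1, h2] at h

variable {G : Type*} [Group G]

/-- If `⁅A, B⁆` lies in a cyclic subgroup `Z` centralising `A` and `B`, then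
`|A : C_A(B)| = |B : C_B(A)|`. -/
theorem relIndex_centralizer_eq_of_pairing (A B Z : Subgroup G) [Finite A] [Finite B] [Finite Z]
    [IsCyclic Z] (hAB : ⁅A, B⁆ ≤ Z) (hZA : Z ≤ centralizer (A : Set G))
    (hZB : Z ≤ centralizer (B : Set G)) :
    (centralizer (B : Set G)).relIndex A = (centralizer (A : Set G)).relIndex B := by
  let _ : CommGroup Z := IsCyclic.commGroup
  have hmem : ∀ (a : A) (b : B), ⁅(a : G), (b : G)⁆ ∈ Z := fun a b =>
    hAB (commutator_mem_commutator a.2 b.2)
  let Φ : A →* B →* Z := MonoidHom.mk' (fun a => MonoidHom.mk' (fun b => ⟨_, hmem a b⟩) (by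
      intro b b'
      apply Subtype.ext
      exact commutator_mul_right (hZB (hmem a b') b b.2).symm)) (by
      intro a a'
      ext b
      rw [MonoidHom.mul_apply, mul_comm]
      exact commutator_mul_left (hZA (hmem a' b) a a.2).symm)
  have hΦ : ∀ a b, (Φ a b : G) = ⁅(a : G), (b : G)⁆ := fun a b => rfl
  have h := index_ker_eq_of_pairing Φ
  have h1 : Φ.ker = (centralizer (B : Set G)).subgroupOf A := by
    ext a
    simp only [MonoidHom.mem_ker, MonoidHom.ext_iff, MonoidHom.one_apply, Subtype.ext_iff, hΦ,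
      mem_subgroupOf, mem_centralizer_iff, Subgroup.coe_one,
      commutatorElement_eq_one_iff_mul_comm]
    exact ⟨fun h b hb => (h ⟨b, hb⟩).symm, fun h b => (h b b.2).symm⟩
  have h2 : Φ.flip.ker = (centralizer (A : Set G)).subgroupOf B := by
    ext b
    simp only [MonoidHom.mem_ker, MonoidHom.ext_iff, MonoidHom.one_apply, Subtype.ext_iff, hΦ,
      mem_subgroupOf, mem_centralizer_iff, Subgroup.coe_one, MonoidHom.flip_apply,
      commutatorElement_eq_one_iff_mul_comm]
    exact ⟨fun h a ha => h ⟨a, ha⟩, fun h a => h a a.2⟩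
  rwa [h1, h2] at h

/-- If `⁅H, E⁆` lies in a cyclic subgroup `Z` centralising `H ≥ E`, and `Z(E)` centralises `H`, then
`H = E C_H(E)`. -/
theorem sup_inf_centralizer_eq_of_pairing [Finite G] (H E Z : Subgroup G) [IsCyclic Z]
    (hEH : E ≤ H) (hHE : ⁅H, E⁆ ≤ Z) (hZH : Z ≤ centralizer (H : Set G))
    (hE : E ⊓ centralizer (E : Set G) ≤ centralizer (H : Set G)) :
    ∀ h ∈ H, ∃ e ∈ E, ∃ c ∈ centralizer (E : Set G), h = e * c := by
  have h1 := relIndex_centralizer_eq_of_pairing H E Z hHE hZH
    (hZH.trans (centralizer_le (SetLike.coe_subset_coe.mpr hEH)))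
  have h2 : (centralizer (H : Set G)).relIndex E = (centralizer (E : Set G)).relIndex E := by
    rw [← Subgroup.inf_relIndex_left, ← Subgroup.inf_relIndex_left E (centralizer (E : Set G))]
    congr 1
    exact le_antisymm (inf_le_inf_left _ (centralizer_le (SetLike.coe_subset_coe.mpr hEH)))
      (le_inf inf_le_left hE)
  rw [h2] at h1
  -- the natural map `E / C_E(E) → H / C_H(E)` is injective, hence bijective
  let f : E ⧸ (centralizer (E : Set G)).subgroupOf E → H ⧸ (centralizer (E : Set G)).subgroupOf H :=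
    Subgroup.quotientSubgroupOfEmbeddingOfLE _ hEH
  have hf : Function.Bijective f :=
    (Subgroup.quotientSubgroupOfEmbeddingOfLE _ hEH).injective.bijective_of_nat_card_le h1.le
  intro h hh
  obtain ⟨q, hq⟩ := hf.2 (QuotientGroup.mk ⟨h, hh⟩)
  induction q using QuotientGroup.induction_on with | _ e => ?_
  have hq' : (QuotientGroup.mk (inclusion hEH e) : H ⧸ (centralizer (E : Set G)).subgroupOf H) =
      QuotientGroup.mk ⟨h, hh⟩ := hq
  rw [QuotientGroup.eq, mem_subgroupOf] at hq'
  exact ⟨e, e.2, _, hq', by simp⟩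

end CL.PGrp
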