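import Cfsg.Agent.Base

/-!
Basic facts on finite `p`-groups: normal subgroups meet the centre, central elements modulo a normal
subgroup, normal subgroups of every order inside a normal subgroup, the index of the centraliser of
a normal subgroup.
-/

namespace CL.PGrp

open Subgroup
open scoped commutatorElement

variable {G : Type*} [Group G]

/-- In a `p`-group, a nontrivial element has a nontrivial power of order `p`. -/
theorem exists_pow_ne_one_pow_eq_one {p : ℕ} (hG : IsPGroup p G) {x : G} (hx : x ≠ 1) :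
    ∃ k : ℕ, x ^ p ^ k ≠ 1 ∧ (x ^ p ^ k) ^ p = 1 := by
  classical
  have h := hG x
  have h0 : Nat.find h ≠ 0 := by
    intro h0
    have := Nat.find_spec h
    rw [h0] at this
    exact hx (by simpa using this)
  obtain ⟨k, hk⟩ := Nat.exists_eq_succ_of_ne_zero h0
  refine ⟨k, Nat.find_min h (by omega), ?_⟩
  have := Nat.find_spec h
  rw [hk, Nat.succ_eq_add_one, pow_succ, pow_mul] at this
  exact this

/-- A nontrivial normal subgroup of a finite `p`-group contains a central element of order `p`. -/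
theorem exists_mem_center_of_normal [Finite G] {p : ℕ} [Fact p.Prime] (hG : IsPGroup p G)
    (N : Subgroup G) [N.Normal] (hN : N ≠ ⊥) :
    ∃ x ∈ N, x ≠ 1 ∧ x ∈ center G ∧ x ^ p = 1 := by
  have hC : IsPGroup p (ConjAct G) := hG.of_equiv ConjAct.toConjAct
  have hdvd : p ∣ Nat.card N := by
    rcases (hG.to_subgroup N).card_eq_or_dvd with h | h
    · exact absurd (Subgroup.card_eq_one.mp h) hN
    · exact h
  have h1 : (1 : N) ∈ MulAction.fixedPoints (ConjAct G) N := fun g => smul_one g
  obtain ⟨b, hb, hb1⟩ := hC.exists_fixed_point_of_prime_dvd_card_of_fixed_point N hdvd h1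
  have hbc : (b : G) ∈ center G := by
    rw [mem_center_iff]
    intro g
    have : g * b * g⁻¹ = b := congrArg Subtype.val (hb (ConjAct.toConjAct g))
    exact mul_inv_eq_iff_eq_mul.mp this
  have hb1' : (b : G) ≠ 1 := fun h => hb1 (Subtype.ext h.symm)
  obtain ⟨k, hk1, hk2⟩ := exists_pow_ne_one_pow_eq_one hG hb1'
  exact ⟨_, N.pow_mem b.2 _, hk1, Subgroup.pow_mem _ hbc _, hk2⟩

/-- The workhorse: if `K`, `N` are normal in the finite `p`-group `G` and `N ≰ K`, some `x ∈ N \ K` is
central of order `p` modulo `K`. -/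
theorem exists_central_mod [Finite G] {p : ℕ} [Fact p.Prime] (hG : IsPGroup p G)
    (K N : Subgroup G) [K.Normal] [N.Normal] (h : ¬ N ≤ K) :
    ∃ x ∈ N, x ∉ K ∧ x ^ p ∈ K ∧ ∀ g : G, ⁅g, x⁆ ∈ K := by
  have hne : N.map (QuotientGroup.mk' K) ≠ ⊥ := by
    intro h0
    rw [Subgroup.map_eq_bot_iff, QuotientGroup.ker_mk'] at h0
    exact h h0
  have : (N.map (QuotientGroup.mk' K)).Normal :=
    Subgroup.Normal.map inferInstance _ (QuotientGroup.mk'_surjective K)
  obtain ⟨y, ⟨x, hxN, rfl⟩, hy1, hyc, hyp⟩ :=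
    exists_mem_center_of_normal (hG.to_quotient K) _ hne
  refine ⟨x, hxN, fun hx => hy1 ((QuotientGroup.eq_one_iff x).mpr hx), ?_, fun g => ?_⟩
  · rw [← QuotientGroup.eq_one_iff]
    simpa using hyp
  · rw [← QuotientGroup.eq_one_iff]
    have := mem_center_iff.mp hyc (QuotientGroup.mk' K g)
    rw [← commutatorElement_eq_one_iff_mul_comm, ← map_commutatorElement] at this
    exact this

/-- Membership in `K ⊔ ⟨x⟩` when `x` normalises `K`. -/
theorem mem_sup_zpowers_iff {K : Subgroup G} {x : G} (hx : x ∈ normalizer (K : Set G)) {y : G} :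
    y ∈ K ⊔ zpowers x ↔ ∃ k ∈ K, ∃ i : ℤ, y = k * x ^ i := by
  have hle : zpowers x ≤ normalizer (K : Set G) := by
    rwa [Subgroup.zpowers_le]
  have := Subgroup.coe_mul_of_right_le_normalizer_left K (zpowers x) hle
  rw [← SetLike.mem_coe, this, Set.mem_mul]
  constructor
  · rintro ⟨k, hk, _, ⟨i, rfl⟩, rfl⟩
    exact ⟨k, hk, i, rfl⟩
  · rintro ⟨k, hk, i, rfl⟩
    exact ⟨k, hk, _, ⟨i, rfl⟩, rfl⟩

theorem mem_sup_zpowers_iff_of_normal {K : Subgroup G} [K.Normal] {x y : G} :
    y ∈ K ⊔ zpowers x ↔ ∃ k ∈ K, ∃ i : ℤ, y = k * x ^ i :=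
  mem_sup_zpowers_iff (by rw [Subgroup.normalizer_eq_top]; trivial)

/-- If `x` is central modulo the normal subgroup `K`, then so is every element of `K ⊔ ⟨x⟩`. -/
theorem commutator_mem_of_mem_sup_zpowers {K : Subgroup G} [K.Normal] {x : G}
    (hx : ∀ g : G, ⁅g, x⁆ ∈ K) {y : G} (hy : y ∈ K ⊔ zpowers x) (g : G) : ⁅g, y⁆ ∈ K := by
  obtain ⟨k, hk, i, rfl⟩ := mem_sup_zpowers_iff_of_normal.mp hy
  rw [← QuotientGroup.eq_one_iff]
  change QuotientGroup.mk' K _ = 1
  have h1 : Commute (QuotientGroup.mk' K g) (QuotientGroup.mk' K x) := by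
    rw [← commutatorElement_eq_one_iff_commute, ← map_commutatorElement]
    exact (QuotientGroup.eq_one_iff _).mpr (hx g)
  have h2 : QuotientGroup.mk' K k = 1 := (QuotientGroup.eq_one_iff _).mpr hk
  rw [map_commutatorElement, commutatorElement_eq_one_iff_commute, map_mul, h2, one_mul, map_zpow]
  exact h1.zpow_right i

/-- If `x` is central modulo the normal subgroup `K`, then `K ⊔ ⟨x⟩` is normal. -/
theorem normal_sup_zpowers {K : Subgroup G} [K.Normal] {x : G} (hx : ∀ g : G, ⁅g, x⁆ ∈ K) :
    (K ⊔ zpowers x).Normal := by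
  rw [← Subgroup.commutator_top_left_le_iff]
  refine le_trans ?_ le_sup_left
  rw [Subgroup.commutator_le]
  intro g _ y hy
  exact commutator_mem_of_mem_sup_zpowers hx hy g

theorem card_mul_relIndex {H K : Subgroup G} (h : H ≤ K) :
    Nat.card H * H.relIndex K = Nat.card K := by
  rw [← Nat.card_congr (subgroupOfEquivOfLe h).toEquiv]
  exact (H.subgroupOf K).card_mul_index

theorem card_inf_mul_relIndex (H K : Subgroup G) :
    Nat.card (H ⊓ K : Subgroup G) * H.relIndex K = Nat.card K := by
  rw [← Subgroup.inf_relIndex_right]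
  exact card_mul_relIndex inf_le_right

theorem relIndex_zpowers_eq_orderOf (K : Subgroup G) [K.Normal] (x : G) :
    K.relIndex (zpowers x) = orderOf (QuotientGroup.mk' K x) := by
  conv_lhs => rw [← QuotientGroup.ker_mk' K]
  rw [Subgroup.relIndex_ker, MonoidHom.map_zpowers, Nat.card_zpowers]

theorem relIndex_sup_zpowers {p : ℕ} [hp : Fact p.Prime] {K : Subgroup G} [K.Normal] {x : G}
    (hx : x ∉ K) (hxp : x ^ p ∈ K) : K.relIndex (K ⊔ zpowers x) = p := by
  rw [Subgroup.relIndex_sup_left, relIndex_zpowers_eq_orderOf]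
  apply orderOf_eq_prime
  · rw [← map_pow]
    exact (QuotientGroup.eq_one_iff _).mpr hxp
  · intro h
    exact hx ((QuotientGroup.eq_one_iff _).mp h)

theorem card_sup_zpowers {p : ℕ} [hp : Fact p.Prime] {K : Subgroup G} [K.Normal] {x : G}
    (hx : x ∉ K) (hxp : x ^ p ∈ K) : Nat.card (K ⊔ zpowers x : Subgroup G) = Nat.card K * p := by
  rw [← card_mul_relIndex (le_sup_left : K ≤ K ⊔ zpowers x), relIndex_sup_zpowers hx hxp]

/-- Between two normal subgroups `K ≤ N` of a finite `p`-group there are normal subgroups of every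
possible order. -/
theorem exists_normal_between [Finite G] {p : ℕ} [hp : Fact p.Prime] (hG : IsPGroup p G)
    (K N : Subgroup G) [K.Normal] [N.Normal] (hKN : K ≤ N) (k : ℕ)
    (hk : Nat.card K * p ^ k ≤ Nat.card N) :
    ∃ M : Subgroup G, M.Normal ∧ K ≤ M ∧ M ≤ N ∧ Nat.card M = Nat.card K * p ^ k := by
  induction k with
  | zero => exact ⟨K, inferInstance, le_rfl, hKN, by simp⟩
  | succ k ih =>
    have hlt : Nat.card K * p ^ k < Nat.card K * p ^ (k + 1) :=
      Nat.mul_lt_mul_of_pos_left (Nat.pow_lt_pow_right hp.out.one_lt (Nat.lt_succ_self k))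
        Nat.card_pos
    obtain ⟨M, hM, hKM, hMN, hc⟩ := ih (by omega)
    have hne : ¬ N ≤ M := by
      intro h
      have := Subgroup.card_le_of_le h
      omega
    obtain ⟨x, hxN, hxM, hxp, hxc⟩ := exists_central_mod hG M N hne
    refine ⟨M ⊔ zpowers x, normal_sup_zpowers hxc, hKM.trans le_sup_left,
      sup_le hMN (by rwa [Subgroup.zpowers_le]), ?_⟩
    rw [card_sup_zpowers hxM hxp, hc, pow_succ, mul_assoc]

/-- A normal subgroup of a finite `p`-group contains normal subgroups of every possible order. -/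
theorem exists_normal_le_card_eq [Finite G] {p : ℕ} [hp : Fact p.Prime] (hG : IsPGroup p G)
    (N : Subgroup G) [N.Normal] (k : ℕ) (hk : p ^ k ≤ Nat.card N) :
    ∃ M : Subgroup G, M.Normal ∧ M ≤ N ∧ Nat.card M = p ^ k := by
  obtain ⟨M, h1, -, h2, h3⟩ := exists_normal_between hG ⊥ N bot_le k (by simpa using hk)
  exact ⟨M, h1, h2, by simpa using h3⟩

/-- A normal subgroup `N ≠ 1` of a finite `p`-group has the form `K ⊔ ⟨x⟩` with `K` normal of index
`p` in `N` and `x` central modulo `K`. -/
theorem exists_normal_index_prime_in [Finite G] {p : ℕ} [hp : Fact p.Prime] (hG : IsPGroup p G)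
    (N : Subgroup G) [N.Normal] {k : ℕ} (hk : Nat.card N = p ^ (k + 1)) :
    ∃ (K : Subgroup G) (x : G), K.Normal ∧ Nat.card K = p ^ k ∧ x ∉ K ∧ x ^ p ∈ K ∧
      (∀ g : G, ⁅g, x⁆ ∈ K) ∧ K ⊔ zpowers x = N := by
  have hlt : p ^ k < p ^ (k + 1) := Nat.pow_lt_pow_right hp.out.one_lt (Nat.lt_succ_self k)
  obtain ⟨K, hK, hKN, hc⟩ := exists_normal_le_card_eq hG N k (by omega)
  have hne : ¬ N ≤ K := by
    intro h
    have := Subgroup.card_le_of_le h
    omega
  obtain ⟨x, hxN, hxM, hxp, hxc⟩ := exists_central_mod hG K N hne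
  refine ⟨K, x, hK, hc, hxM, hxp, hxc, ?_⟩
  apply Subgroup.eq_of_le_of_card_ge (sup_le hKN (by rwa [Subgroup.zpowers_le]))
  rw [card_sup_zpowers hxM hxp, hc, hk, pow_succ]

/-- A normal subgroup of order `p` of a finite `p`-group is central. -/
theorem le_center_of_card_eq_prime [Finite G] {p : ℕ} [hp : Fact p.Prime] (hG : IsPGroup p G)
    (N : Subgroup G) [N.Normal] (hN : Nat.card N = p) : N ≤ center G := by
  have hne : N ≠ ⊥ := by
    intro h
    rw [h, Subgroup.card_bot] at hN
    exact hp.out.one_lt.ne hN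
  obtain ⟨x, hxN, hx1, hxc, hxp⟩ := exists_mem_center_of_normal hG N hne
  have : zpowers x = N := by
    apply Subgroup.eq_of_le_of_card_ge (by rwa [Subgroup.zpowers_le])
    rw [hN, Nat.card_zpowers, orderOf_eq_prime hxp hx1]
  rw [← this]
  rwa [Subgroup.zpowers_le]

/-- If all commutators `⁅h, x⁆`, `h ∈ H`, lie in a finite set `K`, then `|H : C_H(x)| ≤ |K|`. -/
theorem relIndex_centralizer_singleton_le (H : Subgroup G) (x : G) (K : Set G) [Finite K]
    (h : ∀ g ∈ H, ⁅g, x⁆ ∈ K) : (centralizer {x}).relIndex H ≤ Nat.card K := by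
  let f : H ⧸ (centralizer {x}).subgroupOf H → K :=
    Quotient.lift (fun g : H => (⟨⁅(g : G), x⁆, h g g.2⟩ : K)) (by
      intro a b hab
      have hab' : ((a : G)⁻¹ * b) ∈ centralizer {x} := by
        have := QuotientGroup.leftRel_apply.mp hab
        exact this
      rw [mem_centralizer_singleton_iff] at hab'
      apply Subtype.ext
      have hb : (b : G) = a * ((a : G)⁻¹ * b) := by group
      simp only [commutatorElement_def]
      rw [hb]
      generalize ((a : G)⁻¹ * b) = c at hab'
      rw [mul_assoc (a : G) c x, hab']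
      group)
  apply Nat.card_le_card_of_injective f
  intro a b
  induction a using Quotient.inductionOn with | _ a => ?_
  induction b using Quotient.inductionOn with | _ b => ?_
  intro hab
  have hab' : ⁅(a : G), x⁆ = ⁅(b : G), x⁆ := congrArg Subtype.val hab
  apply Quotient.sound
  apply QuotientGroup.leftRel_apply.mpr
  rw [Subgroup.mem_subgroupOf, mem_centralizer_singleton_iff]
  simp only [commutatorElement_def, mul_left_inj] at hab'
  simp only [Subgroup.coe_mul, Subgroup.coe_inv]
  calc (a : G)⁻¹ * b * x = (a : G)⁻¹ * (b * x * (b : G)⁻¹) * b := by group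
    _ = (a : G)⁻¹ * (a * x * (a : G)⁻¹) * b := by rw [hab']
    _ = x * ((a : G)⁻¹ * b) := by group

theorem centralizer_sup_eq (H K : Subgroup G) :
    centralizer ((H ⊔ K : Subgroup G) : Set G) = centralizer (H : Set G) ⊓ centralizer (K : Set G) := by
  apply le_antisymm
  · exact le_inf (centralizer_le (SetLike.coe_subset_coe.mpr le_sup_left))
      (centralizer_le (SetLike.coe_subset_coe.mpr le_sup_right))
  · rw [Subgroup.le_centralizer_iff]
    apply sup_le <;> rw [Subgroup.le_centralizer_iff]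
    · exact inf_le_left
    · exact inf_le_right

theorem centralizer_zpowers_eq (x : G) :
    centralizer ((zpowers x : Subgroup G) : Set G) = centralizer {x} := by
  rw [Subgroup.zpowers_eq_closure, Subgroup.centralizer_closure]

/-- The centraliser of a normal subgroup of order `p ^ k` of a finite `p`-group has index at most
`p ^ (k (k - 1) / 2)`. -/
theorem index_centralizer_le [Finite G] {p : ℕ} [hp : Fact p.Prime] (hG : IsPGroup p G) (k : ℕ) :
    ∀ (N : Subgroup G) [N.Normal], Nat.card N = p ^ k →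
      (centralizer (N : Set G)).index ≤ p ^ k.choose 2 := by
  induction k with
  | zero =>
    intro N _ hN
    have : N = ⊥ := Subgroup.card_eq_one.mp (by simpa using hN)
    subst this
    have : centralizer ((⊥ : Subgroup G) : Set G) = ⊤ := by
      rw [eq_top_iff, Subgroup.le_centralizer_iff]
      exact bot_le
    rw [this]
    simp
  | succ k ih =>
    intro N _ hN
    obtain ⟨K, x, hK, hc, -, -, hxc, rfl⟩ := exists_normal_index_prime_in hG N hN
    have h1 := ih K hc
    have h2 := relIndex_centralizer_singleton_le (centralizer (K : Set G)) x (K : Set G)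
      (fun g _ => hxc g)
    rw [centralizer_sup_eq, centralizer_zpowers_eq,
      ← Subgroup.relIndex_mul_index (inf_le_left : centralizer (K : Set G) ⊓ centralizer {x} ≤ _),
      Subgroup.inf_relIndex_left, Nat.choose_succ_succ' k 1, Nat.choose_one_right, pow_add]
    have h3 : Nat.card (K : Set G) = p ^ k := hc
    rw [h3] at h2
    exact Nat.mul_le_mul h2 h1

/-- A proper subgroup of a finite `p`-group lies in a normal subgroup of index `p`. -/
theorem exists_normal_index_prime [Finite G] {p : ℕ} [hp : Fact p.Prime] (hG : IsPGroup p G)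
    {K : Subgroup G} (hK : K ≠ ⊤) : ∃ M : Subgroup G, K ≤ M ∧ M.Normal ∧ M.index = p := by
  obtain ⟨M, hM, hKM⟩ := (eq_top_or_exists_le_coatom K).resolve_left hK
  have := hG.isNilpotent
  have hn : M.Normal := Subgroup.NormalizerCondition.normal_of_coatom M
    Group.normalizerCondition_of_isNilpotent hM
  refine ⟨M, hKM, hn, ?_⟩
  obtain ⟨x, -, hxM, hxp, -⟩ := exists_central_mod hG M ⊤ (fun h => hM.1 (top_le_iff.mp h))
  have h1 : M ⊔ zpowers x = ⊤ := by
    apply hM.2
    refine lt_of_le_of_ne le_sup_left (fun h => hxM ?_)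
    rw [h]
    exact Subgroup.mem_sup_right (mem_zpowers x)
  have h2 := relIndex_sup_zpowers hxM hxp
  rwa [h1, Subgroup.relIndex_top_right] at h2

/-- A subgroup of index `p` in a finite `p`-group is normal. -/
theorem normal_of_index_eq_prime [Finite G] {p : ℕ} [hp : Fact p.Prime] (hG : IsPGroup p G)
    {K : Subgroup G} (hK : K.index = p) : K.Normal := by
  have hne : K ≠ ⊤ := by
    rintro rfl
    rw [Subgroup.index_top] at hK
    exact hp.out.one_lt.ne hK
  obtain ⟨M, hKM, hM, hMi⟩ := exists_normal_index_prime hG hne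
  have h := Subgroup.relIndex_mul_index hKM
  rw [hK, hMi] at h
  have h1 : K.relIndex M = 1 := by
    have := hp.out.pos
    nlinarith
  rw [Subgroup.relIndex_eq_one] at h1
  rw [le_antisymm hKM h1]
  exact hM

end CL.PGrp
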