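import Cfsg.Agent.Base
import Cfsg.Agent.PGrp.Frattini
import Cfsg.Agent.PGrp.Omega
import Cfsg.Agent.PGrp.Pairing

/-!
Extraspecial groups: `IsES p z` says that the ambient finite `p`-group has centre `⟨z⟩` of order `p`
containing all commutators (so the group is extraspecial or cyclic of order `p`).  Hyperbolic pairs,
the decomposition `E = ⟨x, y⟩ ∘ C`, the order, and the gluing of isomorphisms.
-/

namespace CL.PGrp

open Subgroup
open scoped commutatorElement

universe u v

/-- The group `E` is a `p`-group with centre `⟨z⟩` of order `p` and class at most two. -/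
structure IsES (p : ℕ) {E : Type*} [Group E] (z : E) : Prop where
  isPGroup : IsPGroup p E
  orderOf_eq : orderOf z = p
  center_eq : center E = zpowers z
  commutator_le : commutator E ≤ center E

variable {E : Type*} [Group E] {p : ℕ}

theorem exists_isES_of_isExtraspecial [hp : Fact p.Prime] (h : Cfsg.IsExtraspecial p E) :
    ∃ z : E, IsES p z := by
  obtain ⟨⟨h1, -, h3⟩, h4⟩ := h
  have : IsCyclic (center E) := isCyclic_of_prime_card h4
  obtain ⟨z, hz⟩ := (Subgroup.isCyclic_iff_exists_zpowers_eq_top _).mp this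
  exact ⟨z, h1, by rw [← Nat.card_zpowers, hz, h4], hz.symm, h3.le⟩

theorem exists_not_mem_center_of_isExtraspecial [hp : Fact p.Prime] (h : Cfsg.IsExtraspecial p E) :
    ∃ x : E, x ∉ center E := by
  obtain ⟨⟨-, -, h3⟩, h4⟩ := h
  by_contra hx
  push Not at hx
  have h5 : center E = ⊤ := eq_top_iff.mpr fun x _ => hx x
  rw [← commutator_eq_bot_iff_center_eq_top, h3] at h5
  rw [h5, Subgroup.card_bot] at h4
  exact hp.out.one_lt.ne h4

namespace IsES

variable {z : E}

theorem mem_center (h : IsES p z) : z ∈ center E := h.center_eq ▸ mem_zpowers z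

theorem commute (h : IsES p z) (g : E) : Commute z g := (mem_center_iff.mp h.mem_center g).symm

theorem pow_eq_one (h : IsES p z) : z ^ p = 1 := h.orderOf_eq ▸ pow_orderOf_eq_one z

theorem zpow_eq_one_iff (h : IsES p z) {k : ℤ} : z ^ k = 1 ↔ (p : ℤ) ∣ k := by
  rw [← orderOf_dvd_iff_zpow_eq_one, h.orderOf_eq]

theorem card_center (h : IsES p z) : Nat.card (center E) = p := by
  rw [h.center_eq, Nat.card_zpowers, h.orderOf_eq]

theorem commute_commutator (h : IsES p z) (x y g : E) : Commute ⁅x, y⁆ g :=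
  commute_of_commutator_le_center h.commutator_le x y g

theorem exists_commutator_eq (h : IsES p z) (x y : E) : ∃ k : ℤ, ⁅x, y⁆ = z ^ k := by
  have := h.commutator_le (commutatorElement_mem_commutator x y)
  rw [h.center_eq] at this
  obtain ⟨k, hk⟩ := this
  exact ⟨k, hk.symm⟩

theorem commutator_pow_eq_one (h : IsES p z) (x y : E) : ⁅x, y⁆ ^ p = 1 := by
  obtain ⟨k, hk⟩ := h.exists_commutator_eq x y
  rw [hk, ← zpow_natCast, ← zpow_mul, h.zpow_eq_one_iff]
  exact dvd_mul_left _ _

theorem pow_mem_center (h : IsES p z) (x : E) : x ^ p ∈ center E := by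
  rw [mem_center_iff]
  intro g
  rw [← commutatorElement_eq_one_iff_mul_comm, commutator_pow_right (h.commute_commutator _ _ _),
    h.commutator_pow_eq_one]

theorem exists_pow_eq (h : IsES p z) (x : E) : ∃ k : ℤ, x ^ p = z ^ k := by
  have := h.pow_mem_center x
  rw [h.center_eq] at this
  obtain ⟨k, hk⟩ := this
  exact ⟨k, hk.symm⟩

/-- A noncentral element belongs to a hyperbolic pair. -/
theorem exists_pair [hp : Fact p.Prime] (h : IsES p z) {x : E} (hx : x ∉ center E) :
    ∃ y : E, ⁅x, y⁆ = z := by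
  rw [mem_center_iff] at hx
  push Not at hx
  obtain ⟨g, hg⟩ := hx
  obtain ⟨k, hk⟩ := h.exists_commutator_eq x g
  have hk' : ¬ (p : ℤ) ∣ k := by
    rw [← h.zpow_eq_one_iff, ← hk, commutatorElement_eq_one_iff_mul_comm]
    exact fun h => hg h.symm
  obtain ⟨a, b, hab⟩ := (Nat.prime_iff_prime_int.mp hp.out).irreducible.coprime_iff_not_dvd.mpr hk'
  refine ⟨g ^ b, ?_⟩
  rw [commutator_zpow_right (h.commute_commutator _ _ _), hk, ← zpow_mul]
  have : k * b = 1 - p * a := by linear_combination hab
  rw [this, zpow_sub, zpow_one, zpow_mul, zpow_natCast, h.pow_eq_one]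
  simp

theorem isExtraspecial [Finite E] [hp : Fact p.Prime] (h : IsES p z) {x : E} (hx : x ∉ center E) :
    Cfsg.IsExtraspecial p E := by
  obtain ⟨y, hy⟩ := h.exists_pair hx
  have h1 : commutator E = center E := by
    refine le_antisymm h.commutator_le ?_
    rw [h.center_eq, Subgroup.zpowers_le, ← hy]
    exact commutatorElement_mem_commutator x y
  exact ⟨⟨h.isPGroup, le_antisymm (frattini_le _ h.commutator_le h.pow_mem_center)
    (h1 ▸ commutator_le_frattini h.isPGroup), h1⟩, h.card_center⟩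

section pair

variable {x y : E}

theorem commutator_left_normal_form (h : IsES p z) (hxy : ⁅x, y⁆ = z) (a b : ℤ) {c : E}
    (hc : c ∈ centralizer ({x, y} : Set E)) : ⁅x, x ^ a * y ^ b * c⁆ = z ^ b := by
  have h1 : ⁅x, c⁆ = 1 := commutatorElement_eq_one_iff_mul_comm.mpr (hc x (by simp))
  rw [commutator_mul_right (h.commute_commutator _ _ _),
    commutator_mul_right (h.commute_commutator _ _ _), h1,
    commutator_zpow_right (h.commute_commutator _ _ _),
    commutator_zpow_right (h.commute_commutator _ _ _), hxy]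
  simp

theorem commutator_right_normal_form (h : IsES p z) (hxy : ⁅x, y⁆ = z) (a b : ℤ) {c : E}
    (hc : c ∈ centralizer ({x, y} : Set E)) : ⁅y, x ^ a * y ^ b * c⁆ = z ^ (-a) := by
  have h1 : ⁅y, c⁆ = 1 := commutatorElement_eq_one_iff_mul_comm.mpr (hc y (by simp))
  rw [commutator_mul_right (h.commute_commutator _ _ _),
    commutator_mul_right (h.commute_commutator _ _ _), h1,
    commutator_zpow_right (h.commute_commutator _ _ _),
    commutator_zpow_right (h.commute_commutator _ _ _), ← commutatorElement_inv x y, hxy]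
  simp

/-- Every element has the form `x ^ a * y ^ b * c` with `c` centralising `x` and `y`. -/
theorem exists_normal_form (h : IsES p z) (hxy : ⁅x, y⁆ = z) (e : E) :
    ∃ a b : ℤ, ∃ c ∈ centralizer ({x, y} : Set E), e = x ^ a * y ^ b * c := by
  obtain ⟨b, hb⟩ := h.exists_commutator_eq x e
  obtain ⟨a, ha⟩ := h.exists_commutator_eq y e
  refine ⟨-a, b, (x ^ (-a) * y ^ b)⁻¹ * e, ?_, by group⟩
  have h1 := h.commutator_left_normal_form hxy (-a) b (one_mem _)
  have h2 := h.commutator_right_normal_form hxy (-a) b (one_mem _)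
  rw [mul_one] at h1 h2
  rw [neg_neg] at h2
  have key : ∀ w : E, ⁅w, x ^ (-a) * y ^ b⁆ = ⁅w, e⁆ →
      w * ((x ^ (-a) * y ^ b)⁻¹ * e) = ((x ^ (-a) * y ^ b)⁻¹ * e) * w := by
    intro w hw
    generalize x ^ (-a) * y ^ b = u at hw
    rw [← commutatorElement_eq_one_iff_mul_comm, commutator_mul_right (h.commute_commutator _ _ _),
      ← hw, ← commutator_mul_right (h.commute_commutator _ _ _)]
    simp
  rintro w (rfl | rfl)
  · exact key _ (h1.trans hb.symm)
  · exact key _ (h2.trans ha.symm)

theorem dvd_of_normal_form_eq_one (h : IsES p z) (hxy : ⁅x, y⁆ = z) {a b : ℤ} {c : E}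
    (hc : c ∈ centralizer ({x, y} : Set E)) (h1 : x ^ a * y ^ b * c = 1) :
    (p : ℤ) ∣ a ∧ (p : ℤ) ∣ b := by
  have h2 := h.commutator_left_normal_form hxy a b hc
  have h3 := h.commutator_right_normal_form hxy a b hc
  rw [h1, commutatorElement_one_right, eq_comm, h.zpow_eq_one_iff] at h2 h3
  exact ⟨dvd_neg.mp h3, h2⟩

theorem mem_centralizer_pair (h : IsES p z) (x y : E) : z ∈ centralizer ({x, y} : Set E) :=
  center_le_centralizer _ h.mem_center

/-- The centraliser of a hyperbolic pair is again of the same kind. -/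
theorem centralizer_pair (h : IsES p z) (hxy : ⁅x, y⁆ = z) :
    IsES p (⟨z, h.mem_centralizer_pair x y⟩ : centralizer ({x, y} : Set E)) := by
  have key : ∀ c : centralizer ({x, y} : Set E), c ∈ center _ ↔ (c : E) ∈ center E := by
    intro c
    refine ⟨fun hc => mem_center_iff.mpr fun e => ?_,
      fun hc => mem_center_iff.mpr fun g => Subtype.ext (mem_center_iff.mp hc g)⟩
    obtain ⟨a, b, c', hc', rfl⟩ := h.exists_normal_form hxy e
    have h1 : Commute x c := c.2 x (by simp)
    have h2 : Commute y c := c.2 y (by simp)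
    have h3 : Commute c' c := congrArg Subtype.val (mem_center_iff.mp hc ⟨c', hc'⟩)
    exact ((h1.zpow_left a).mul_left (h2.zpow_left b)).mul_left h3
  refine ⟨h.isPGroup.to_subgroup _, ?_, ?_, ?_⟩
  · rw [← Subgroup.orderOf_coe, h.orderOf_eq]
  · ext c
    rw [key, h.center_eq, mem_zpowers_iff, mem_zpowers_iff]
    simp only [Subtype.ext_iff, SubgroupClass.coe_zpow]
  · rw [_root_.commutator_def, Subgroup.commutator_le]
    intro a _ b _
    rw [key]
    exact h.commutator_le (commutatorElement_mem_commutator _ _)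

theorem index_centralizer_pair (h : IsES p z) (hxy : ⁅x, y⁆ = z) :
    (centralizer ({x, y} : Set E)).index = p ^ 2 := by
  have hmem : ∀ a b : E, ⁅a, b⁆ ∈ center E := fun a b =>
    h.commutator_le (commutatorElement_mem_commutator a b)
  let f : E → E →* center E := fun w => MonoidHom.mk' (fun e => ⟨⁅w, e⁆, hmem w e⟩)
    fun a b => Subtype.ext (commutator_mul_right (h.commute_commutator _ _ _))
  have hker : ((f x).prod (f y)).ker = centralizer ({x, y} : Set E) := by
    ext e
    simp [f, mem_centralizer_iff, commutatorElement_eq_one_iff_mul_comm, Prod.ext_iff,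
      Subtype.ext_iff]
  have hsurj : ((f x).prod (f y)).range = ⊤ := by
    rw [eq_top_iff]
    rintro ⟨⟨u, hu⟩, ⟨v, hv⟩⟩ -
    have hu' := hu
    have hv' := hv
    rw [h.center_eq] at hu' hv'
    obtain ⟨b, rfl⟩ := hu'
    obtain ⟨a, rfl⟩ := hv'
    refine ⟨x ^ (-a) * y ^ b * 1, Prod.ext (Subtype.ext ?_) (Subtype.ext ?_)⟩
    · exact h.commutator_left_normal_form hxy (-a) b (one_mem _)
    · exact (h.commutator_right_normal_form hxy (-a) b (one_mem _)).trans (by rw [neg_neg])
  rw [← hker, Subgroup.index_ker, hsurj, Subgroup.card_top, Nat.card_prod, h.card_center, sq]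

theorem card_eq_pair (h : IsES p z) (hxy : ⁅x, y⁆ = z) :
    Nat.card E = Nat.card (centralizer ({x, y} : Set E)) * p ^ 2 := by
  rw [← h.index_centralizer_pair hxy, Subgroup.card_mul_index]

end pair

theorem card_eq_of_center_eq_top (h : IsES p z) (h1 : ∀ x : E, x ∈ center E) :
    Nat.card E = p := by
  rw [← h.card_center, (Subgroup.eq_top_iff' _).mpr h1, Subgroup.card_top]

end IsES

theorem IsES.exists_card_eq_aux [hp : Fact p.Prime] (m : ℕ) :
    ∀ (E : Type u) [Group E] [Finite E] (z : E), Nat.card E = m → IsES p z →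
      ∃ n : ℕ, Nat.card E = p ^ (2 * n + 1) := by
  induction m using Nat.strong_induction_on with
  | _ m ih =>
    intro E _ _ z hm h
    by_cases h1 : ∀ x : E, x ∈ center E
    · exact ⟨0, by rw [h.card_eq_of_center_eq_top h1]; simp⟩
    push Not at h1
    obtain ⟨x, hx⟩ := h1
    obtain ⟨y, hy⟩ := h.exists_pair hx
    have h2 := h.card_eq_pair hy
    have hlt : Nat.card (centralizer ({x, y} : Set E)) < m := by
      rw [← hm, h2]
      exact (Nat.lt_mul_iff_one_lt_right Nat.card_pos).mpr (Nat.one_lt_pow two_ne_zero hp.out.one_lt)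
    obtain ⟨n, hn⟩ := ih _ hlt _ _ rfl (h.centralizer_pair hy)
    exact ⟨n + 1, by rw [h2, hn]; ring⟩

theorem IsES.exists_card_eq [Finite E] [hp : Fact p.Prime] {z : E} (h : IsES p z) :
    ∃ n : ℕ, Nat.card E = p ^ (2 * n + 1) :=
  IsES.exists_card_eq_aux _ E z rfl h

/-- An extraspecial group has order `p ^ (2 n + 1)` with `n ≥ 1`. -/
theorem card_of_isExtraspecial [Finite E] [hp : Fact p.Prime] (h : Cfsg.IsExtraspecial p E) :
    ∃ n : ℕ, 1 ≤ n ∧ Nat.card E = p ^ (2 * n + 1) := by
  obtain ⟨z, hz⟩ := exists_isES_of_isExtraspecial h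
  obtain ⟨x, hx⟩ := exists_not_mem_center_of_isExtraspecial h
  obtain ⟨y, hy⟩ := hz.exists_pair hx
  obtain ⟨n, hn⟩ := (hz.centralizer_pair hy).exists_card_eq
  exact ⟨n + 1, by omega, by rw [hz.card_eq_pair hy, hn]; ring⟩

end CL.PGrp
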