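import Cfsg.Agent.PGrp.Extraspecial

/-!
Gluing isomorphisms of extraspecial groups along hyperbolic pairs; uniqueness of the extraspecial
group of exponent `p` of given order; at most two extraspecial `2`-groups of each order.
-/

namespace CL.PGrp

open Subgroup
open scoped commutatorElement

universe u v w

/-- If `X`, `Y` centralise `Γ` and `⁅X, Y⁆ ∈ Γ`, the products `X ^ a Y ^ b γ` form a subgroup. -/
theorem exists_subgroup_normal_form {G : Type*} [Group G] (X Y : G) (Γ : Subgroup G)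
    (hX : X ∈ centralizer (Γ : Set G)) (hY : Y ∈ centralizer (Γ : Set G)) (hZ : ⁅X, Y⁆ ∈ Γ) :
    ∃ R : Subgroup G, ∀ r, r ∈ R ↔ ∃ a b : ℤ, ∃ γ ∈ Γ, r = X ^ a * Y ^ b * γ := by
  have hcX : ∀ γ ∈ Γ, Commute γ X := fun γ hγ => hX γ hγ
  have hcY : ∀ γ ∈ Γ, Commute γ Y := fun γ hγ => hY γ hγ
  have hZ' : ⁅Y, X⁆ ∈ Γ := by
    rw [← commutatorElement_inv]
    exact inv_mem hZ
  have hswap : ∀ a b : ℤ, Y ^ b * X ^ a = X ^ a * Y ^ b * ⁅Y, X⁆ ^ (a * b) := by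
    intro a b
    have h1 : ⁅Y, X ^ a⁆ = ⁅Y, X⁆ ^ a := commutator_zpow_right (hcX _ hZ') a
    have h2 : ⁅Y ^ b, X ^ a⁆ = ⁅Y, X⁆ ^ (a * b) := by
      rw [commutator_zpow_left (h1 ▸ hcY _ (zpow_mem hZ' a)), h1, zpow_mul]
    have h3 : Commute (⁅Y, X⁆ ^ (a * b)) (X ^ a * Y ^ b) :=
      ((hcX _ (zpow_mem hZ' _)).zpow_right a).mul_right ((hcY _ (zpow_mem hZ' _)).zpow_right b)
    rw [← h3.eq, ← h2, commutatorElement_def]
    group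
  have hmul : ∀ (a b a' b' : ℤ) (γ γ' : G), γ ∈ Γ →
      (X ^ a * Y ^ b * γ) * (X ^ a' * Y ^ b' * γ') =
        X ^ (a + a') * Y ^ (b + b') * (⁅Y, X⁆ ^ (a' * b) * γ * γ') := by
    intro a b a' b' γ γ' hγ
    have h1 : Commute γ (X ^ a' * Y ^ b') :=
      ((hcX _ hγ).zpow_right a').mul_right ((hcY _ hγ).zpow_right b')
    have h2 : Commute (⁅Y, X⁆ ^ (a' * b)) (Y ^ b') := (hcY _ (zpow_mem hZ' _)).zpow_right b'
    calc (X ^ a * Y ^ b * γ) * (X ^ a' * Y ^ b' * γ')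
        = X ^ a * Y ^ b * (γ * (X ^ a' * Y ^ b')) * γ' := by group
      _ = X ^ a * (Y ^ b * X ^ a') * Y ^ b' * γ * γ' := by rw [h1.eq]; group
      _ = X ^ a * X ^ a' * Y ^ b * (⁅Y, X⁆ ^ (a' * b) * Y ^ b') * γ * γ' := by
          rw [hswap]; simp only [mul_assoc]
      _ = _ := by rw [h2.eq, zpow_add, zpow_add]; simp only [mul_assoc]
  refine ⟨{ carrier := {r | ∃ a b : ℤ, ∃ γ ∈ Γ, r = X ^ a * Y ^ b * γ}
            one_mem' := ⟨0, 0, 1, one_mem _, by simp⟩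
            mul_mem' := ?_
            inv_mem' := ?_ }, fun r => Iff.rfl⟩
  · rintro _ _ ⟨a, b, γ, hγ, rfl⟩ ⟨a', b', γ', hγ', rfl⟩
    exact ⟨_, _, _, mul_mem (mul_mem (zpow_mem hZ' _) hγ) hγ', hmul a b a' b' γ γ' hγ⟩
  · rintro _ ⟨a, b, γ, hγ, rfl⟩
    refine ⟨-a, -b, (⁅Y, X⁆ ^ (-a * b) * γ)⁻¹, inv_mem (mul_mem (zpow_mem hZ' _) hγ), ?_⟩
    apply inv_eq_of_mul_eq_one_right
    rw [hmul _ _ _ _ _ _ hγ]
    simp

variable {p : ℕ} {E₁ : Type u} {E₂ : Type v} [Group E₁] [Group E₂]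

/-- Gluing: an isomorphism between the centralisers of two hyperbolic pairs with matching `p`-th
powers extends to the whole groups. -/
theorem IsES.exists_mulEquiv_glue {z₁ x₁ y₁ : E₁} {z₂ x₂ y₂ : E₂} (h₁ : IsES p z₁) (h₂ : IsES p z₂)
    (hxy₁ : ⁅x₁, y₁⁆ = z₁) (hxy₂ : ⁅x₂, y₂⁆ = z₂) {α β : ℤ}
    (hx₁ : x₁ ^ p = z₁ ^ α) (hx₂ : x₂ ^ p = z₂ ^ α) (hy₁ : y₁ ^ p = z₁ ^ β) (hy₂ : y₂ ^ p = z₂ ^ β)
    (g : centralizer ({x₁, y₁} : Set E₁) ≃* centralizer ({x₂, y₂} : Set E₂))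
    (hg : g ⟨z₁, h₁.mem_centralizer_pair x₁ y₁⟩ = ⟨z₂, h₂.mem_centralizer_pair x₂ y₂⟩) :
    ∃ e : E₁ ≃* E₂, e z₁ = z₂ ∧ e x₁ = x₂ ∧ e y₁ = y₂ ∧
      ∀ c : centralizer ({x₁, y₁} : Set E₁), e c = g c := by
  let φ : centralizer ({x₁, y₁} : Set E₁) →* E₁ × E₂ :=
    (Subgroup.subtype _).prod ((Subgroup.subtype _).comp g.toMonoidHom)
  have hφ : ∀ c, φ c = ((c : E₁), (g c : E₂)) := fun c => rfl
  have hz : (z₁, z₂) ∈ φ.range := ⟨⟨z₁, h₁.mem_centralizer_pair x₁ y₁⟩, by rw [hφ, hg]⟩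
  obtain ⟨R, hR⟩ := exists_subgroup_normal_form (x₁, x₂) (y₁, y₂) φ.range
    (by
      rintro _ ⟨c, rfl⟩
      exact Prod.ext (c.2 x₁ (by simp)).symm ((g c).2 x₂ (by simp)).symm)
    (by
      rintro _ ⟨c, rfl⟩
      exact Prod.ext (c.2 y₁ (by simp)).symm ((g c).2 y₂ (by simp)).symm)
    (by
      have : ⁅(x₁, x₂), (y₁, y₂)⁆ = (z₁, z₂) := Prod.ext hxy₁ hxy₂
      rwa [this])
  have hXp : (x₁, x₂) ^ p ∈ φ.range := by
    have : (x₁, x₂) ^ p = (z₁, z₂) ^ α := Prod.ext hx₁ hx₂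
    rw [this]
    exact zpow_mem hz α
  have hYp : (y₁, y₂) ^ p ∈ φ.range := by
    have : (y₁, y₂) ^ p = (z₁, z₂) ^ β := Prod.ext hy₁ hy₂
    rw [this]
    exact zpow_mem hz β
  have hmem : ∀ (a b : ℤ) (γ : E₁ × E₂), γ ∈ φ.range → (p : ℤ) ∣ a ∧ (p : ℤ) ∣ b →
      (x₁, x₂) ^ a * (y₁, y₂) ^ b * γ ∈ φ.range := by
    rintro _ _ γ hγ ⟨⟨a, rfl⟩, ⟨b, rfl⟩⟩
    rw [zpow_mul, zpow_mul, zpow_natCast, zpow_natCast]
    exact mul_mem (mul_mem (zpow_mem hXp a) (zpow_mem hYp b)) hγ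
  have hb₁ : Function.Bijective (Prod.fst ∘ R.subtype) := by
    constructor
    · refine (injective_iff_map_eq_one ((MonoidHom.fst E₁ E₂).comp R.subtype)).mpr ?_
      rintro ⟨r, hr⟩ h1
      obtain ⟨a, b, _, ⟨c, rfl⟩, rfl⟩ := (hR r).mp hr
      obtain ⟨c', hc'⟩ := hmem a b _ ⟨c, rfl⟩ (h₁.dvd_of_normal_form_eq_one hxy₁ c.2 h1)
      have h2 : c' = 1 := Subtype.ext ((congrArg Prod.fst hc').trans h1)
      apply Subtype.ext
      exact hc'.symm.trans (by rw [h2, map_one]; rfl)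
    · intro e
      obtain ⟨a, b, c, hc, rfl⟩ := h₁.exists_normal_form hxy₁ e
      exact ⟨⟨_, (hR _).mpr ⟨a, b, _, ⟨⟨c, hc⟩, rfl⟩, rfl⟩⟩, rfl⟩
  have hb₂ : Function.Bijective (Prod.snd ∘ R.subtype) := by
    constructor
    · refine (injective_iff_map_eq_one ((MonoidHom.snd E₁ E₂).comp R.subtype)).mpr ?_
      rintro ⟨r, hr⟩ h1
      obtain ⟨a, b, _, ⟨c, rfl⟩, rfl⟩ := (hR r).mp hr
      obtain ⟨c', hc'⟩ := hmem a b _ ⟨c, rfl⟩ (h₂.dvd_of_normal_form_eq_one hxy₂ (g c).2 h1)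
      have h2 : g c' = 1 := Subtype.ext ((congrArg Prod.snd hc').trans h1)
      rw [map_eq_one_iff g g.injective] at h2
      apply Subtype.ext
      exact hc'.symm.trans (by rw [h2, map_one]; rfl)
    · intro e
      obtain ⟨a, b, c, hc, rfl⟩ := h₂.exists_normal_form hxy₂ e
      refine ⟨⟨_, (hR _).mpr ⟨a, b, _, ⟨g.symm ⟨c, hc⟩, rfl⟩, rfl⟩⟩, ?_⟩
      simp [hφ]
  obtain ⟨e, he⟩ := Subgroup.exists_mulEquiv_eq_graph hb₁ hb₂
  have key : ∀ u v, (u, v) ∈ R → e u = v := by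
    intro u v huv
    rw [he, MonoidHom.mem_graph] at huv
    exact huv
  refine ⟨e, key _ _ ((hR _).mpr ⟨0, 0, _, hz, by simp⟩),
    key _ _ ((hR _).mpr ⟨1, 0, 1, one_mem _, by simp⟩),
    key _ _ ((hR _).mpr ⟨0, 1, 1, one_mem _, by simp⟩),
    fun c => key _ _ ((hR _).mpr ⟨0, 0, _, ⟨c, rfl⟩, by simp [hφ]⟩)⟩

/-- The degenerate case: both groups are cyclic of order `p`. -/
theorem IsES.exists_mulEquiv_of_card_eq_prime [hp : Fact p.Prime] {z₁ : E₁} {z₂ : E₂}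
    (h₁ : IsES p z₁) (h₂ : IsES p z₂) (c₁ : Nat.card E₁ = p) (c₂ : Nat.card E₂ = p) :
    ∃ e : E₁ ≃* E₂, e z₁ = z₂ := by
  have : Finite E₁ := Nat.finite_of_card_ne_zero (c₁ ▸ hp.out.ne_zero)
  have : Finite E₂ := Nat.finite_of_card_ne_zero (c₂ ▸ hp.out.ne_zero)
  have t₁ : zpowers z₁ = ⊤ :=
    Subgroup.eq_top_of_card_eq _ (by rw [Nat.card_zpowers, h₁.orderOf_eq, c₁])
  have t₂ : zpowers z₂ = ⊤ :=
    Subgroup.eq_top_of_card_eq _ (by rw [Nat.card_zpowers, h₂.orderOf_eq, c₂])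
  exact ⟨mulEquivOfOrderOfEq (fun x => t₁ ▸ mem_top x) (fun x => t₂ ▸ mem_top x)
    (h₁.orderOf_eq.trans h₂.orderOf_eq.symm), mulEquivOfOrderOfEq_apply_gen _ _ _⟩

theorem IsES.exists_not_mem_center {E : Type*} [Group E] [hp : Fact p.Prime] {z : E} (h : IsES p z)
    {n : ℕ} (hc : Nat.card E = p ^ (2 * (n + 1) + 1)) : ∃ x : E, x ∉ center E := by
  by_contra hx
  push Not at hx
  have h1 := h.card_eq_of_center_eq_top hx
  rw [hc] at h1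
  have := Nat.pow_right_injective hp.out.two_le (h1.trans (pow_one p).symm)
  omega

theorem IsES.card_centralizer_pair {E : Type*} [Group E] [hp : Fact p.Prime] {z x y : E}
    (h : IsES p z) (hxy : ⁅x, y⁆ = z) {n : ℕ} (hc : Nat.card E = p ^ (2 * (n + 1) + 1)) :
    Nat.card (centralizer ({x, y} : Set E)) = p ^ (2 * n + 1) := by
  have h1 := h.card_eq_pair hxy
  rw [hc] at h1
  apply Nat.eq_of_mul_eq_mul_right (pow_pos hp.out.pos 2)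
  rw [← h1]
  ring

/-- Uniqueness of the extraspecial group of exponent `p` and given order. -/
theorem IsES.exists_mulEquiv_of_exponent [hp : Fact p.Prime] (n : ℕ) :
    ∀ (E₁ : Type u) (E₂ : Type v) [Group E₁] [Group E₂] (z₁ : E₁) (z₂ : E₂),
      IsES p z₁ → IsES p z₂ → (∀ x : E₁, x ^ p = 1) → (∀ x : E₂, x ^ p = 1) →
      Nat.card E₁ = p ^ (2 * n + 1) → Nat.card E₂ = p ^ (2 * n + 1) →
      ∃ e : E₁ ≃* E₂, e z₁ = z₂ := by
  induction n with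
  | zero =>
    intro E₁ E₂ _ _ z₁ z₂ h₁ h₂ _ _ c₁ c₂
    exact h₁.exists_mulEquiv_of_card_eq_prime h₂ (by simpa using c₁) (by simpa using c₂)
  | succ n ih =>
    intro E₁ E₂ _ _ z₁ z₂ h₁ h₂ e₁ e₂ c₁ c₂
    obtain ⟨x₁, hx₁⟩ := h₁.exists_not_mem_center c₁
    obtain ⟨x₂, hx₂⟩ := h₂.exists_not_mem_center c₂
    obtain ⟨y₁, hy₁⟩ := h₁.exists_pair hx₁
    obtain ⟨y₂, hy₂⟩ := h₂.exists_pair hx₂
    obtain ⟨g, hg⟩ := ih _ _ _ _ (h₁.centralizer_pair hy₁) (h₂.centralizer_pair hy₂)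
      (fun x => Subtype.ext (e₁ x)) (fun x => Subtype.ext (e₂ x))
      (h₁.card_centralizer_pair hy₁ c₁) (h₂.card_centralizer_pair hy₂ c₂)
    obtain ⟨e, he, -⟩ := h₁.exists_mulEquiv_glue h₂ hy₁ hy₂ (α := 0) (β := 0)
      (by simp [e₁]) (by simp [e₂]) (by simp [e₁]) (by simp [e₂]) g hg
    exact ⟨e, he⟩

section two

variable {E : Type*} [Group E] {z : E}

theorem IsES.sq_eq_one_or (h : IsES 2 z) (x : E) : x ^ 2 = 1 ∨ x ^ 2 = z := by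
  obtain ⟨k, hk⟩ := h.exists_pow_eq x
  have hz : z ^ (2 : ℤ) = 1 := h.zpow_eq_one_iff.mpr dvd_rfl
  obtain ⟨j, rfl | rfl⟩ := k.even_or_odd'
  · left
    rw [hk, zpow_mul, hz, one_zpow]
  · right
    rw [hk, zpow_add, zpow_mul, hz, one_zpow, one_mul, zpow_one]

theorem IsES.eq_of_mem_center_two (h : IsES 2 z) {w : E} (hw : w ∈ center E) (h1 : w ≠ 1) :
    w = z := by
  rw [h.center_eq] at hw
  obtain ⟨k, rfl⟩ := hw
  have hz : z ^ (2 : ℤ) = 1 := h.zpow_eq_one_iff.mpr dvd_rfl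
  obtain ⟨j, rfl | rfl⟩ := k.even_or_odd'
  · exact absurd (by simp only; rw [zpow_mul, hz, one_zpow]) h1
  · simp only
    rw [zpow_add, zpow_mul, hz, one_zpow, one_mul, zpow_one]

/-- A noncentral involution lies in a hyperbolic pair of involutions (a dihedral group of order
`8`). -/
theorem IsES.exists_pair_of_involution (h : IsES 2 z) {x : E} (hx : x ∉ center E)
    (hx2 : x ^ 2 = 1) : ∃ y : E, ⁅x, y⁆ = z ∧ y ^ 2 = 1 := by
  obtain ⟨y, hy⟩ := h.exists_pair hx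
  rcases h.sq_eq_one_or y with h1 | h1
  · exact ⟨y, hy, h1⟩
  refine ⟨x * y, ?_, ?_⟩
  · rw [commutator_mul_right (h.commute_commutator _ _ _), hy]
    simp
  · rw [mul_pow_class_two (h.commute_commutator _ _ _) (h.commute_commutator _ _ _), hx2, h1,
      ← commutatorElement_inv, hy]
    simp

/-- An extraspecial `2`-group of order at least `32` has a noncentral involution. -/
theorem IsES.exists_noncentral_involution (h : IsES 2 z) {n : ℕ}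
    (hc : Nat.card E = 2 ^ (2 * (n + 1 + 1) + 1)) : ∃ x : E, x ∉ center E ∧ x ^ 2 = 1 := by
  obtain ⟨x, hx⟩ := h.exists_not_mem_center hc
  rcases h.sq_eq_one_or x with h1 | h1
  · exact ⟨x, hx, h1⟩
  obtain ⟨y, hy⟩ := h.exists_pair hx
  obtain ⟨w, hw⟩ := (h.centralizer_pair hy).exists_not_mem_center (h.card_centralizer_pair hy hc)
  have hw' : (w : E) ∉ center E := fun hw' =>
    hw (mem_center_iff.mpr fun g => Subtype.ext (mem_center_iff.mp hw' g))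
  rcases h.sq_eq_one_or w with h2 | h2
  · exact ⟨w, hw', h2⟩
  have hxw : Commute x w := w.2 x (by simp)
  refine ⟨x * w, fun hc => ?_, by rw [hxw.mul_pow, h1, h2, ← sq, h.pow_eq_one]⟩
  have h3 := h.commutator_right_normal_form hy 1 0 w.2
  rw [zpow_one, zpow_zero, mul_one, commutatorElement_eq_one_iff_mul_comm.mpr
    (mem_center_iff.mp hc y), eq_comm, h.zpow_eq_one_iff] at h3
  norm_num at h3

end two

theorem IsES.map_eq_of_two {z₁ : E₁} {z₂ : E₂} (h₁ : IsES 2 z₁) (h₂ : IsES 2 z₂) (e : E₁ ≃* E₂) :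
    e z₁ = z₂ := by
  apply h₂.eq_of_mem_center_two
  · rw [mem_center_iff]
    intro g
    obtain ⟨g, rfl⟩ := e.surjective g
    rw [← map_mul, ← map_mul, (h₁.commute g).eq]
  · rw [Ne, map_eq_one_iff e e.injective, ← orderOf_eq_one_iff, h₁.orderOf_eq]
    norm_num

/-- Two extraspecial `2`-groups with noncentral involutions are isomorphic as soon as the
centralisers of dihedral hyperbolic pairs are. -/
theorem IsES.nonempty_mulEquiv_two_of_pair {z₁ x₁ y₁ : E₁} {z₂ x₂ y₂ : E₂} (h₁ : IsES 2 z₁)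
    (h₂ : IsES 2 z₂) (hxy₁ : ⁅x₁, y₁⁆ = z₁) (hxy₂ : ⁅x₂, y₂⁆ = z₂) {α β : ℤ}
    (hx₁ : x₁ ^ 2 = z₁ ^ α) (hx₂ : x₂ ^ 2 = z₂ ^ α) (hy₁ : y₁ ^ 2 = z₁ ^ β) (hy₂ : y₂ ^ 2 = z₂ ^ β)
    (g : Nonempty (centralizer ({x₁, y₁} : Set E₁) ≃* centralizer ({x₂, y₂} : Set E₂))) :
    Nonempty (E₁ ≃* E₂) := by
  obtain ⟨g⟩ := g
  obtain ⟨e, -⟩ := h₁.exists_mulEquiv_glue h₂ hxy₁ hxy₂ hx₁ hx₂ hy₁ hy₂ g
    ((h₁.centralizer_pair hxy₁).map_eq_of_two (h₂.centralizer_pair hxy₂) g)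
  exact ⟨e⟩

/-- Extraspecial groups of order `8` of the same type are isomorphic. -/
theorem IsES.nonempty_mulEquiv_eight {z₁ : E₁} {z₂ : E₂} (h₁ : IsES 2 z₁) (h₂ : IsES 2 z₂)
    (c₁ : Nat.card E₁ = 2 ^ (2 * (0 + 1) + 1)) (c₂ : Nat.card E₂ = 2 ^ (2 * (0 + 1) + 1))
    (h : (∃ x : E₁, x ∉ center E₁ ∧ x ^ 2 = 1) ↔ (∃ x : E₂, x ∉ center E₂ ∧ x ^ 2 = 1)) :
    Nonempty (E₁ ≃* E₂) := by
  have key : ∀ {x₁ y₁ : E₁} {x₂ y₂ : E₂}, ⁅x₁, y₁⁆ = z₁ → ⁅x₂, y₂⁆ = z₂ →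
      Nonempty (centralizer ({x₁, y₁} : Set E₁) ≃* centralizer ({x₂, y₂} : Set E₂)) := by
    intro x₁ y₁ x₂ y₂ hxy₁ hxy₂
    obtain ⟨e, -⟩ := (h₁.centralizer_pair hxy₁).exists_mulEquiv_of_card_eq_prime
      (h₂.centralizer_pair hxy₂) (h₁.card_centralizer_pair hxy₁ c₁)
      (h₂.card_centralizer_pair hxy₂ c₂)
    exact ⟨e⟩
  by_cases hh : ∃ x : E₁, x ∉ center E₁ ∧ x ^ 2 = 1
  · obtain ⟨x₂, hx₂, hx₂'⟩ := h.mp hh
    obtain ⟨x₁, hx₁, hx₁'⟩ := hh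
    obtain ⟨y₁, hy₁, hy₁'⟩ := h₁.exists_pair_of_involution hx₁ hx₁'
    obtain ⟨y₂, hy₂, hy₂'⟩ := h₂.exists_pair_of_involution hx₂ hx₂'
    exact h₁.nonempty_mulEquiv_two_of_pair h₂ hy₁ hy₂ (α := 0) (β := 0) (by simpa using hx₁')
      (by simpa using hx₂') (by simpa using hy₁') (by simpa using hy₂') (key hy₁ hy₂)
  · have hh' := fun h' => hh (h.mpr h')
    have s₁ : ∀ x : E₁, x ∉ center E₁ → x ^ 2 = z₁ ^ (1 : ℤ) := fun x hx => by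
      rw [zpow_one]
      exact (h₁.sq_eq_one_or x).resolve_left fun h => hh ⟨x, hx, h⟩
    have s₂ : ∀ x : E₂, x ∉ center E₂ → x ^ 2 = z₂ ^ (1 : ℤ) := fun x hx => by
      rw [zpow_one]
      exact (h₂.sq_eq_one_or x).resolve_left fun h => hh' ⟨x, hx, h⟩
    obtain ⟨x₁, hx₁⟩ := h₁.exists_not_mem_center c₁
    obtain ⟨x₂, hx₂⟩ := h₂.exists_not_mem_center c₂
    obtain ⟨y₁, hy₁⟩ := h₁.exists_pair hx₁
    obtain ⟨y₂, hy₂⟩ := h₂.exists_pair hx₂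
    have hy₁' : y₁ ∉ center E₁ := fun hc => by
      rw [commutatorElement_eq_one_iff_mul_comm.mpr (mem_center_iff.mp hc x₁), eq_comm,
        ← orderOf_eq_one_iff, h₁.orderOf_eq] at hy₁
      norm_num at hy₁
    have hy₂' : y₂ ∉ center E₂ := fun hc => by
      rw [commutatorElement_eq_one_iff_mul_comm.mpr (mem_center_iff.mp hc x₂), eq_comm,
        ← orderOf_eq_one_iff, h₂.orderOf_eq] at hy₂
      norm_num at hy₂
    exact h₁.nonempty_mulEquiv_two_of_pair h₂ hy₁ hy₂ (s₁ _ hx₁) (s₂ _ hx₂) (s₁ _ hy₁')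
      (s₂ _ hy₂') (key hy₁ hy₂)

theorem iff_of_not_iff_of_not_iff {A B C : Prop} (h1 : ¬ (A ↔ B)) (h2 : ¬ (B ↔ C)) : A ↔ C := by
  tauto

/-- At most two extraspecial `2`-groups of each order. -/
theorem IsES.two_of_three (n : ℕ) :
    ∀ (E₁ : Type u) (E₂ : Type v) (E₃ : Type w) [Group E₁] [Group E₂] [Group E₃]
      (z₁ : E₁) (z₂ : E₂) (z₃ : E₃), IsES 2 z₁ → IsES 2 z₂ → IsES 2 z₃ →
      Nat.card E₁ = 2 ^ (2 * (n + 1) + 1) → Nat.card E₂ = 2 ^ (2 * (n + 1) + 1) →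
      Nat.card E₃ = 2 ^ (2 * (n + 1) + 1) →
      Nonempty (E₁ ≃* E₂) ∨ Nonempty (E₂ ≃* E₃) ∨ Nonempty (E₁ ≃* E₃) := by
  induction n with
  | zero =>
    intro E₁ E₂ E₃ _ _ _ z₁ z₂ z₃ h₁ h₂ h₃ c₁ c₂ c₃
    by_cases h12 : (∃ x : E₁, x ∉ center E₁ ∧ x ^ 2 = 1) ↔ (∃ x : E₂, x ∉ center E₂ ∧ x ^ 2 = 1)
    · exact Or.inl (h₁.nonempty_mulEquiv_eight h₂ c₁ c₂ h12)
    by_cases h23 : (∃ x : E₂, x ∉ center E₂ ∧ x ^ 2 = 1) ↔ (∃ x : E₃, x ∉ center E₃ ∧ x ^ 2 = 1)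
    · exact Or.inr (Or.inl (h₂.nonempty_mulEquiv_eight h₃ c₂ c₃ h23))
    · exact Or.inr (Or.inr (h₁.nonempty_mulEquiv_eight h₃ c₁ c₃ (iff_of_not_iff_of_not_iff h12 h23)))
  | succ n ih =>
    intro E₁ E₂ E₃ _ _ _ z₁ z₂ z₃ h₁ h₂ h₃ c₁ c₂ c₃
    obtain ⟨x₁, hx₁, hx₁'⟩ := h₁.exists_noncentral_involution c₁
    obtain ⟨x₂, hx₂, hx₂'⟩ := h₂.exists_noncentral_involution c₂
    obtain ⟨x₃, hx₃, hx₃'⟩ := h₃.exists_noncentral_involution c₃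
    obtain ⟨y₁, hy₁, hy₁'⟩ := h₁.exists_pair_of_involution hx₁ hx₁'
    obtain ⟨y₂, hy₂, hy₂'⟩ := h₂.exists_pair_of_involution hx₂ hx₂'
    obtain ⟨y₃, hy₃, hy₃'⟩ := h₃.exists_pair_of_involution hx₃ hx₃'
    rcases ih _ _ _ _ _ _ (h₁.centralizer_pair hy₁) (h₂.centralizer_pair hy₂)
      (h₃.centralizer_pair hy₃) (h₁.card_centralizer_pair hy₁ c₁)
      (h₂.card_centralizer_pair hy₂ c₂) (h₃.card_centralizer_pair hy₃ c₃) with h | h | h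
    · exact Or.inl (h₁.nonempty_mulEquiv_two_of_pair h₂ hy₁ hy₂ (α := 0) (β := 0)
        (by simpa using hx₁') (by simpa using hx₂') (by simpa using hy₁') (by simpa using hy₂') h)
    · exact Or.inr (Or.inl (h₂.nonempty_mulEquiv_two_of_pair h₃ hy₂ hy₃ (α := 0) (β := 0)
        (by simpa using hx₂') (by simpa using hx₃') (by simpa using hy₂') (by simpa using hy₃') h))
    · exact Or.inr (Or.inr (h₁.nonempty_mulEquiv_two_of_pair h₃ hy₁ hy₃ (α := 0) (β := 0)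
        (by simpa using hx₁') (by simpa using hx₃') (by simpa using hy₁') (by simpa using hy₃') h))

end CL.PGrp
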