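import Cfsg.Agent.PGrp.Frattini
import Cfsg.Agent.PGrp.Omega

/-!
`p`-groups of maximal class: Suzuki's criterion (a self-centralising subgroup of order `p ^ 2`),
and the index of the commutator subgroup.
-/

namespace CL.PGrp

open Subgroup
open scoped commutatorElement

universe u

theorem card_comap_mk' {G : Type*} [Group G] (N : Subgroup G) [N.Normal] (H : Subgroup (G ⧸ N)) :
    Nat.card (H.comap (QuotientGroup.mk' N)) = Nat.card H * Nat.card N := by
  have h1 : N ≤ H.comap (QuotientGroup.mk' N) := fun x hx => by
    rw [Subgroup.mem_comap, QuotientGroup.mk'_apply, (QuotientGroup.eq_one_iff x).mpr hx]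
    exact one_mem _
  rw [← card_mul_relIndex h1, mul_comm]
  congr 1
  have := Subgroup.relIndex_ker (H.comap (QuotientGroup.mk' N)) (QuotientGroup.mk' N)
  rwa [QuotientGroup.ker_mk', Subgroup.map_comap_eq_self_of_surjective
    (QuotientGroup.mk'_surjective N)] at this

theorem eq_of_le_of_card_eq_prime {G : Type*} [Group G] {p : ℕ} (hp : p.Prime) {H K : Subgroup G}
    (hK : Nat.card K = p) (hHK : H ≤ K) (hH : H ≠ ⊥) : H = K := by
  have : Finite K := Nat.finite_of_card_ne_zero (hK ▸ hp.ne_zero)
  apply Subgroup.eq_of_le_of_card_ge hHK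
  rcases (Nat.dvd_prime hp).mp (hK ▸ Subgroup.card_dvd_of_le hHK) with h | h
  · exact absurd (Subgroup.card_eq_one.mp h) hH
  · rw [h, hK]

/-- Suzuki's criterion: a `p`-group with a self-centralising subgroup of order `p ^ 2` has maximal
class. -/
theorem nilpotencyClass_of_self_centralizing {p : ℕ} [hp : Fact p.Prime] (m : ℕ) :
    ∀ (X : Type u) [Group X], Nat.card X = p ^ (m + 2) → ∀ A : Subgroup X,
      Nat.card A = p ^ 2 → centralizer (A : Set X) = A → Group.nilpotencyClass X = m + 1 := by
  induction m with
  | zero =>
    intro X _ hX A _ _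
    have : Finite X := Nat.finite_of_card_ne_zero (hX ▸ pow_ne_zero _ hp.out.ne_zero)
    have hG : IsPGroup p X := IsPGroup.of_card hX
    have := hG.isNilpotent
    have h1 := Group.IsNilpotent.nilpotencyClass_le_one_iff.mpr
      (IsPGroup.isMulCommutative_of_card_eq_prime_sq hX)
    have h2 : Group.nilpotencyClass X ≠ 0 := by
      rw [Ne, Group.nilpotencyClass_zero_iff_subsingleton, not_subsingleton_iff_nontrivial,
        hG.nontrivial_iff_card]
      exact ⟨2, two_pos, hX⟩
    omega
  | succ m ih =>
    intro X _ hX A hA hC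
    have : Finite X := Nat.finite_of_card_ne_zero (hX ▸ pow_ne_zero _ hp.out.ne_zero)
    have hG : IsPGroup p X := IsPGroup.of_card hX
    have := hG.isNilpotent
    have : Nontrivial X := hG.nontrivial_iff_card.mpr ⟨_, by omega, hX⟩
    have hZA : center X ≤ A := hC ▸ center_le_centralizer _
    have hZA' : ¬ A ≤ center X := by
      intro h
      rw [centralizer_eq_top_iff_subset.mpr h] at hC
      rw [← hC, Subgroup.card_top, hX] at hA
      have := Nat.pow_right_injective hp.out.two_le hA
      omega
    have hZ : Nat.card (center X) = p := by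
      obtain ⟨i, hi, hi'⟩ := (Nat.dvd_prime_pow hp.out).mp (hA ▸ Subgroup.card_dvd_of_le hZA)
      interval_cases i
      · exact absurd (Subgroup.card_eq_one.mp hi') hG.bot_lt_center.ne'
      · simpa using hi'
      · exact absurd (Subgroup.eq_of_le_of_card_ge hZA (by rw [hi', hA])).ge hZA'
    obtain ⟨a, haA, haZ, hap, -⟩ : ∃ a ∈ A, a ∉ center X ∧ a ^ p ∈ center X ∧ True := by
      obtain ⟨a, haA, haZ⟩ := SetLike.not_le_iff_exists.mp hZA'
      refine ⟨a, haA, haZ, ?_, trivial⟩
      have h1 := card_mul_relIndex hZA
      rw [hZ, hA, sq, Nat.mul_right_inj hp.out.ne_zero] at h1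
      rw [← h1]
      exact (center X).pow_relIndex_mem haA
    have hAeq : center X ⊔ zpowers a = A := by
      apply Subgroup.eq_of_le_of_card_ge (sup_le hZA (by rwa [Subgroup.zpowers_le]))
      rw [card_sup_zpowers haZ hap, hZ, hA, sq]
    have hCa : centralizer {a} = A := by
      rw [← hC, ← hAeq, centralizer_sup_eq, centralizer_zpowers_eq, centralizer_center, top_inf_eq]
    have hQ : Nat.card (X ⧸ center X) = p ^ (m + 2) := by
      have := (center X).card_mul_index
      rw [hZ, hX, pow_succ' p (m + 2), Nat.mul_right_inj hp.out.ne_zero] at this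
      exact this
    have hQp := hG.to_quotient (center X)
    set π := QuotientGroup.mk' (center X) with hπ
    have ha1 : π a ≠ 1 := fun h => haZ ((QuotientGroup.eq_one_iff a).mp h)
    have hB1 : Nat.card (centralizer {π a}) ≤ p ^ 2 := by
      have h1 := card_comap_mk' (center X) (centralizer {π a})
      have h2 := relIndex_centralizer_singleton_le ((centralizer {π a}).comap π) a
        (center X : Set X) (fun g hg => by
          rw [SetLike.mem_coe, ← QuotientGroup.eq_one_iff]
          change π _ = 1
          rw [map_commutatorElement, commutatorElement_eq_one_iff_mul_comm]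
          exact mem_centralizer_singleton_iff.mp hg)
      have h3 := card_inf_mul_relIndex (centralizer {a}) ((centralizer {π a}).comap π)
      have h4 : Nat.card (centralizer {a} ⊓ (centralizer {π a}).comap π : Subgroup X) ≤ p ^ 2 := by
        rw [← hA, ← hCa]
        exact Subgroup.card_le_of_le inf_le_left
      have h5 : Nat.card (center X : Set X) = p := hZ
      rw [h5] at h2
      rw [h1, hZ] at h3
      have h6 := Nat.mul_le_mul h4 h2
      rw [h3] at h6
      exact Nat.le_of_mul_le_mul_right h6 hp.out.pos
    have hmem : π a ∈ centralizer {π a} := mem_centralizer_singleton_iff.mpr rfl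
    have hB : Nat.card (centralizer {π a}) = p ^ 2 := by
      obtain ⟨i, hi⟩ := IsPGroup.iff_card.mp (hQp.to_subgroup (centralizer {π a}))
      rw [hi, Nat.pow_le_pow_iff_right hp.out.one_lt] at hB1
      interval_cases i
      · rw [Subgroup.card_eq_one.mp hi, mem_bot] at hmem
        exact absurd hmem ha1
      · exfalso
        have : Nontrivial (X ⧸ center X) := ⟨_, _, ha1⟩
        have h1 := eq_of_le_of_card_eq_prime hp.out (by simpa using hi)
          (center_le_centralizer {π a}) hQp.bot_lt_center.ne'
        rw [centralizer_eq_top_iff_subset.mpr (by simpa [h1] using hmem), Subgroup.card_top,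
          hQ] at hi
        have := Nat.pow_right_injective hp.out.two_le hi
        omega
      · exact hi
    have hBC : centralizer ((centralizer {π a} : Subgroup _) : Set (X ⧸ center X)) =
        centralizer {π a} := by
      apply le_antisymm (centralizer_le (Set.singleton_subset_iff.mpr hmem))
      have := IsPGroup.isMulCommutative_of_card_eq_prime_sq hB
      exact Subgroup.le_centralizer _
    rw [Group.nilpotencyClass_eq_quotient_center_plus_one, ih _ hQ _ hB hBC]

variable {G : Type*} [Group G]

theorem lowerCentralSeries_eq_of_succ_eq {n : ℕ}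
    (h : (⊤ : Subgroup G).lowerCentralSeries (n + 1) = (⊤ : Subgroup G).lowerCentralSeries n)
    (k : ℕ) : (⊤ : Subgroup G).lowerCentralSeries (n + k) = (⊤ : Subgroup G).lowerCentralSeries n := by
  induction k with
  | zero => rfl
  | succ k ih => rw [← add_assoc, Subgroup.lowerCentralSeries_succ, ih, ← Subgroup.lowerCentralSeries_succ, h]

/-- In a finite `p`-group of class `c`, the term `γ` number `c - j` of the lower central series has
order at least `p ^ j`. -/
theorem pow_le_card_lowerCentralSeries [Finite G] {p : ℕ} [hp : Fact p.Prime] (hG : IsPGroup p G)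
    (j : ℕ) : ∀ i : ℕ, i + j = Group.nilpotencyClass G →
      p ^ j ≤ Nat.card ((⊤ : Subgroup G).lowerCentralSeries i) := by
  have := hG.isNilpotent
  induction j with
  | zero => exact fun i _ => Nat.card_pos
  | succ j ih =>
    intro i hi
    have h1 := ih (i + 1) (by omega)
    have hle : (⊤ : Subgroup G).lowerCentralSeries (i + 1) ≤ (⊤ : Subgroup G).lowerCentralSeries i :=
      Subgroup.lowerCentralSeries_antitone _ (Nat.le_succ i)
    have hne : (⊤ : Subgroup G).lowerCentralSeries (i + 1) ≠
        (⊤ : Subgroup G).lowerCentralSeries i := by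
      intro h
      have h2 := lowerCentralSeries_eq_of_succ_eq h (j + 1)
      rw [hi, Subgroup.lowerCentralSeries_nilpotencyClass, eq_comm,
        Subgroup.lowerCentralSeries_eq_bot_iff_nilpotencyClass_le] at h2
      omega
    obtain ⟨k, hk⟩ := IsPGroup.iff_card.mp (hG.to_subgroup ((⊤ : Subgroup G).lowerCentralSeries i))
    have h3 : Nat.card ((⊤ : Subgroup G).lowerCentralSeries (i + 1)) <
        Nat.card ((⊤ : Subgroup G).lowerCentralSeries i) :=
      lt_of_le_of_ne (Subgroup.card_le_of_le hle)
        fun h => hne (Subgroup.eq_of_le_of_card_ge hle h.ge)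
    rw [hk] at h3 ⊢
    exact Nat.pow_le_pow_right hp.out.pos
      ((Nat.pow_lt_pow_iff_right hp.out.one_lt).mp (h1.trans_lt h3))

/-- A finite `p`-group with cyclic abelianisation is cyclic. -/
theorem isCyclic_of_isCyclic_quotient_commutator [Finite G] {p : ℕ} [hp : Fact p.Prime]
    (hG : IsPGroup p G) (h : IsCyclic (G ⧸ commutator G)) : IsCyclic G := by
  obtain ⟨x, hx⟩ := h.exists_generator
  obtain ⟨x, rfl⟩ := QuotientGroup.mk'_surjective (commutator G) x
  have h1 : zpowers x ⊔ frattini G = ⊤ := by
    rw [eq_top_iff]
    intro g _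
    obtain ⟨i, hi⟩ := hx (QuotientGroup.mk' (commutator G) g)
    have h2 : (x ^ i)⁻¹ * g ∈ commutator G := by
      rw [← QuotientGroup.eq]
      exact (map_zpow (QuotientGroup.mk' (commutator G)) x i).trans hi
    have h3 : g = x ^ i * ((x ^ i)⁻¹ * g) := by group
    rw [h3]
    exact Subgroup.mul_mem_sup ⟨i, rfl⟩ (commutator_le_frattini hG h2)
  exact isCyclic_iff_exists_zpowers_eq_top.mpr ⟨x, frattini_nongenerating h1⟩

/-- A noncyclic finite `p`-group has commutator subgroup of index at least `p ^ 2`. -/
theorem sq_le_index_commutator [Finite G] {p : ℕ} [hp : Fact p.Prime] (hG : IsPGroup p G)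
    (h : ¬ IsCyclic G) : p ^ 2 ≤ (commutator G).index := by
  obtain ⟨i, hi⟩ := hG.index (commutator G)
  rw [hi]
  apply Nat.pow_le_pow_right hp.out.pos
  by_contra hlt
  apply h
  apply isCyclic_of_isCyclic_quotient_commutator hG
  apply isCyclic_of_card_dvd_prime (p := p)
  change (commutator G).index ∣ p
  rw [hi]
  have : i ≤ 1 := by omega
  simpa using pow_dvd_pow p this

/-- A `p`-group of maximal class and order at least `p ^ 3` has commutator subgroup of index
`p ^ 2`. -/
theorem index_commutator_of_maximal_class {p : ℕ} [hp : Fact p.Prime] {m : ℕ}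
    (hX : Nat.card G = p ^ (m + 3)) (hc : Group.nilpotencyClass G = m + 2) :
    (commutator G).index = p ^ 2 := by
  have : Finite G := Nat.finite_of_card_ne_zero (hX ▸ pow_ne_zero _ hp.out.ne_zero)
  have hG : IsPGroup p G := IsPGroup.of_card hX
  have := hG.isNilpotent
  have h1 := pow_le_card_lowerCentralSeries hG (m + 1) 1 (by omega)
  rw [top_lowerCentralSeries_one] at h1
  have h2 : ¬ IsCyclic G := fun h => by
    have := (Group.IsNilpotent.nilpotencyClass_le_one_iff (G := G)).mpr inferInstance
    omega
  refine le_antisymm ?_ (sq_le_index_commutator hG h2)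
  have h3 := (commutator G).card_mul_index
  rw [hX] at h3
  apply Nat.le_of_mul_le_mul_left _ (pow_pos hp.out.pos (m + 1))
  calc p ^ (m + 1) * (commutator G).index ≤ Nat.card (commutator G) * (commutator G).index :=
        Nat.mul_le_mul_right _ h1
    _ = _ := by rw [h3]; ring

end CL.PGrp
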