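import Cfsg.Agent.Base
import Cfsg.Agent.PGrp.RankTwo2

/-!
# Regular `p`-groups (P. Hall)
-/

namespace CL.PGrp.Regular

open Subgroup CL.PGrp.Chain
open scoped commutatorElement

universe u

variable {G : Type*} [Group G] {p : ℕ}

/-- The regularity condition for the first power only. -/
def Reg1 (p : ℕ) (G : Type*) [Group G] : Prop :=
  ∀ a b : G, ∃ c ∈ Cfsg.powerClosure p 1 ⁅closure ({a, b} : Set G), closure ({a, b} : Set G)⁆,
    (a * b) ^ p = a ^ p * b ^ p * c

theorem pow_mem_powerClosure {H : Subgroup G} {x : G} (hx : x ∈ H) (n : ℕ) :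
    x ^ p ^ n ∈ Cfsg.powerClosure p n H :=
  Subgroup.subset_closure ⟨x, hx, rfl⟩

theorem powerClosure_le_iff {H K : Subgroup G} {n : ℕ} :
    Cfsg.powerClosure p n H ≤ K ↔ ∀ x ∈ H, x ^ p ^ n ∈ K := by
  rw [Cfsg.powerClosure, closure_le]
  exact ⟨fun h x hx => h ⟨x, hx, rfl⟩, by rintro h _ ⟨x, hx, rfl⟩; exact h x hx⟩

theorem powerClosure_le (H : Subgroup G) (n : ℕ) : Cfsg.powerClosure p n H ≤ H :=
  powerClosure_le_iff.2 fun _ hx => pow_mem hx _

theorem powerClosure_mono {H K : Subgroup G} (h : H ≤ K) (n : ℕ) :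
    Cfsg.powerClosure p n H ≤ Cfsg.powerClosure p n K :=
  powerClosure_le_iff.2 fun _ hx => pow_mem_powerClosure (h hx) n

theorem map_powerClosure {G' : Type*} [Group G'] (f : G →* G') (H : Subgroup G) (n : ℕ) :
    (Cfsg.powerClosure p n H).map f = Cfsg.powerClosure p n (H.map f) := by
  apply le_antisymm
  · rw [map_le_iff_le_comap, powerClosure_le_iff]
    intro x hx
    rw [mem_comap, map_pow]
    exact pow_mem_powerClosure (mem_map_of_mem f hx) n
  · rw [powerClosure_le_iff]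
    rintro _ ⟨x, hx, rfl⟩
    rw [← map_pow]
    exact mem_map_of_mem f (pow_mem_powerClosure hx n)

theorem normalizer_le_normalizer_powerClosure (H : Subgroup G) (n : ℕ) :
    normalizer (H : Set G) ≤ normalizer (Cfsg.powerClosure p n H : Set G) := by
  intro g hg
  rw [mem_normalizer_iff_map_conj_eq] at hg ⊢
  rw [map_powerClosure, hg]

theorem powerClosure_normal (H : Subgroup G) [H.Normal] (n : ℕ) :
    (Cfsg.powerClosure p n H).Normal := by
  rw [← normalizer_eq_top_iff, eq_top_iff, ← normalizer_eq_top H]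
  exact normalizer_le_normalizer_powerClosure H n

theorem map_closure_pair {G' : Type*} [Group G'] (f : G →* G') (a b : G) :
    (closure ({a, b} : Set G)).map f = closure ({f a, f b} : Set G') := by
  rw [MonoidHom.map_closure, Set.image_pair]

theorem isRegularPGroup_of_surjective {G' : Type*} [Group G'] (hG : Cfsg.IsRegularPGroup p G)
    (f : G →* G') (hf : Function.Surjective f) : Cfsg.IsRegularPGroup p G' := by
  refine ⟨hG.1.of_surjective f hf, fun a b n => ?_⟩
  obtain ⟨a, rfl⟩ := hf a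
  obtain ⟨b, rfl⟩ := hf b
  obtain ⟨c, hc, h⟩ := hG.2 a b n
  refine ⟨f c, ?_, by rw [← map_mul, ← map_pow, h]; simp⟩
  rw [← map_closure_pair, ← map_commutator, ← map_powerClosure]
  exact mem_map_of_mem f hc

theorem Reg1.of_isRegularPGroup (hG : Cfsg.IsRegularPGroup p G) : Reg1 p G := fun a b => by
  simpa using hG.2 a b 1

theorem Reg1.of_surjective {G' : Type*} [Group G'] (hG : Reg1 p G) (f : G →* G')
    (hf : Function.Surjective f) : Reg1 p G' := by
  intro a b
  obtain ⟨a, rfl⟩ := hf a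
  obtain ⟨b, rfl⟩ := hf b
  obtain ⟨c, hc, h⟩ := hG a b
  refine ⟨f c, ?_, by rw [← map_mul, ← map_pow, h]; simp⟩
  rw [← map_closure_pair, ← map_commutator, ← map_powerClosure]
  exact mem_map_of_mem f hc

theorem Reg1.quotient (hG : Reg1 p G) (N : Subgroup G) [N.Normal] : Reg1 p (G ⧸ N) :=
  hG.of_surjective _ (QuotientGroup.mk'_surjective N)

theorem Reg1.of_injective {H : Type*} [Group H] (hG : Reg1 p G) (f : H →* G)
    (hf : Function.Injective f) : Reg1 p H := by
  intro a b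
  obtain ⟨c, hc, h⟩ := hG (f a) (f b)
  rw [← map_closure_pair, ← map_commutator, ← map_powerClosure] at hc
  obtain ⟨c, hc, rfl⟩ := hc
  exact ⟨c, hc, hf (by simpa using h)⟩

theorem Reg1.subgroup (hG : Reg1 p G) (H : Subgroup G) : Reg1 p H :=
  hG.of_injective H.subtype H.subtype_injective

/-- If the derived subgroup of `⟨a, b⟩` has exponent `p` then `(a b) ^ p = a ^ p b ^ p`. -/
theorem Reg1.mul_pow (hG : Reg1 p G) {a b : G}
    (h : ∀ c ∈ ⁅closure ({a, b} : Set G), closure ({a, b} : Set G)⁆, c ^ p = 1) :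
    (a * b) ^ p = a ^ p * b ^ p := by
  obtain ⟨c, hc, h1⟩ := hG a b
  have : Cfsg.powerClosure p 1 ⁅closure ({a, b} : Set G), closure ({a, b} : Set G)⁆ ≤ ⊥ :=
    powerClosure_le_iff.2 fun x hx => by simpa using h x hx
  rw [h1, mem_bot.1 (this hc), mul_one]

/-- If `G = ⟨x, y⟩` and `⁅x, y⁆` lies in the normal subgroup `N` then `G' ≤ N`. -/
theorem commutator_le_of_closure_pair {x y : G} (h : closure ({x, y} : Set G) = ⊤)
    (N : Subgroup G) [N.Normal] (hN : ⁅x, y⁆ ∈ N) : commutator G ≤ N := by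
  set π := QuotientGroup.mk' N
  have h1 : Commute (π x) (π y) := by
    rw [← commutatorElement_eq_one_iff_commute, ← map_commutatorElement]
    exact (QuotientGroup.eq_one_iff _).2 hN
  have h2 : closure ({π x, π y} : Set (G ⧸ N)) = ⊤ := by
    rw [← map_closure_pair, h, map_top_of_surjective _ (QuotientGroup.mk'_surjective N)]
  have h3 : IsMulCommutative (closure ({π x, π y} : Set (G ⧸ N))) :=
    Subgroup.isMulCommutative_closure (by
      rintro a (rfl | rfl) b (rfl | rfl)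
      exacts [rfl, h1, h1.symm, rfl])
  rw [← Normal.quotient_commutative_iff_commutator_le]
  refine ⟨⟨fun a b => ?_⟩⟩
  exact setLike_mul_comm (s := closure ({π x, π y} : Set (G ⧸ N))) (h2 ▸ mem_top a)
    (h2 ▸ mem_top b)

/-- Induction principle: a property of pairs of elements, preserved by passing to subgroups. -/
theorem pair_induction
    {P : ∀ (G : Type u) [Group G], G → G → Prop}
    (hsub : ∀ (G : Type u) [Group G] (H : Subgroup G) (x y : H), P H x y → P G x y)
    (hstep : ∀ (G : Type u) [Group G] [Finite G], IsPGroup p G → Reg1 p G →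
      (∀ H : Subgroup G, H ≠ ⊤ → ∀ x ∈ H, ∀ y ∈ H, P G x y) →
      ∀ x y : G, closure ({x, y} : Set G) = ⊤ → P G x y)
    (G : Type u) [Group G] [Finite G] (hG : IsPGroup p G) (hr : Reg1 p G) (x y : G) : P G x y := by
  suffices h : ∀ n : ℕ, ∀ (G : Type u) [Group G] [Finite G], Nat.card G = n → IsPGroup p G →
      Reg1 p G → ∀ x y : G, P G x y from h _ G rfl hG hr x y
  intro n
  induction n using Nat.strong_induction_on with
  | _ n ih =>
  intro G _ _ hn hG hr x y
  have ih' : ∀ H : Subgroup G, H ≠ ⊤ → ∀ x ∈ H, ∀ y ∈ H, P G x y := by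
    intro H hH x hxH y hyH
    have hlt : Nat.card H < n :=
      hn ▸ lt_of_le_of_ne (card_le_card_group _) fun e => hH (eq_top_of_card_eq _ e)
    exact hsub G H ⟨x, hxH⟩ ⟨y, hyH⟩ (ih _ hlt H rfl (hG.to_subgroup H) (hr.subgroup H) _ _)
  by_cases h : closure ({x, y} : Set G) = ⊤
  · exact hstep G hG hr ih' x y h
  · exact ih' _ h x (Subgroup.subset_closure (by simp)) y (Subgroup.subset_closure (by simp))

variable [Finite G] [hp : Fact p.Prime]

/-- In a regular `p`-group the elements of order dividing `p` are closed under multiplication. -/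
theorem Reg1.mul_pow_eq_one (hG : IsPGroup p G) (hr : Reg1 p G) (x y : G) :
    x ^ p = 1 → y ^ p = 1 → (x * y) ^ p = 1 := by
  refine pair_induction (P := fun G _ x y => x ^ p = 1 → y ^ p = 1 → (x * y) ^ p = 1)
    ?_ ?_ G hG hr x y
  · intro G _ H x y h hx hy
    exact congrArg Subtype.val (h (Subtype.ext hx) (Subtype.ext hy))
  intro G _ _ hG hr ih x y h hx hy
  by_cases hxt : zpowers x = ⊤
  · obtain ⟨k, rfl⟩ : y ∈ zpowers x := hxt ▸ mem_top y
    rw [((Commute.refl x).zpow_right k).mul_pow, hx, one_mul, hy]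
  obtain ⟨M, hMn, hxM, hMi, -, -⟩ := exists_maximal_ge hG hxt
  have hM : M ≠ ⊤ := by
    rintro rfl
    rw [index_top] at hMi
    exact hp.out.one_lt.ne hMi
  let Ω : Subgroup G :=
    { carrier := {m | m ∈ M ∧ m ^ p = 1}
      one_mem' := ⟨one_mem _, one_pow _⟩
      mul_mem' := fun {a b} ha hb => ⟨mul_mem ha.1 hb.1, ih M hM a ha.1 b hb.1 ha.2 hb.2⟩
      inv_mem' := fun {a} ha => ⟨inv_mem ha.1, by rw [inv_pow, ha.2, inv_one]⟩ }
  have hΩn : Ω.Normal := RankTwo.normal_of_mem_iff (A := M) (n := p) fun x => Iff.rfl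
  have hxΩ : x ∈ Ω := ⟨hxM (mem_zpowers x), hx⟩
  have h1 := commutator_le_of_closure_pair h Ω
    (commutator_le_left Ω ⊤ (commutator_mem_commutator hxΩ (mem_top y)))
  rw [hr.mul_pow fun c hc => (h1 (commutator_mono le_top le_top hc)).2, hx, hy, one_mul]

/-- `Ω₁` of a regular `p`-group as the set of elements of order dividing `p`. -/
def Reg1.omega (hG : IsPGroup p G) (hr : Reg1 p G) : Subgroup G where
  carrier := {x | x ^ p = 1}
  one_mem' := one_pow _
  mul_mem' := fun {a b} ha hb => hr.mul_pow_eq_one hG a b ha hb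
  inv_mem' := fun {a} ha => by
    change a⁻¹ ^ p = 1
    rw [inv_pow, show a ^ p = 1 from ha, inv_one]

theorem Reg1.mem_omega (hG : IsPGroup p G) (hr : Reg1 p G) {x : G} :
    x ∈ hr.omega hG ↔ x ^ p = 1 := Iff.rfl

theorem Reg1.omega_normal (hG : IsPGroup p G) (hr : Reg1 p G) : (hr.omega hG).Normal :=
  ⟨fun x hx g => by rw [Reg1.mem_omega] at hx ⊢; rw [conj_pow, hx]; simp⟩

theorem Reg1.pow_eq_pow_iff_one (hG : IsPGroup p G) (hr : Reg1 p G) (x y : G) :
    x ^ p = y ^ p ↔ (x⁻¹ * y) ^ p = 1 := by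
  refine pair_induction (P := fun G _ x y => x ^ p = y ^ p ↔ (x⁻¹ * y) ^ p = 1)
    ?_ ?_ G hG hr x y
  · intro G _ H x y h
    simpa [Subtype.ext_iff] using h
  intro G _ _ hG hr ih x y h
  have hΩn := hr.omega_normal hG
  have key : ⁅x, y⁆ ∈ hr.omega hG → (x⁻¹ * y) ^ p = (x ^ p)⁻¹ * y ^ p := fun h0 => by
    have h1 := commutator_le_of_closure_pair h _ h0
    rw [hr.mul_pow fun c hc => h1 (commutator_mono le_top le_top hc), inv_pow]
  constructor
  · intro hxy
    by_cases hxt : zpowers x = ⊤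
    · obtain ⟨k, rfl⟩ : y ∈ zpowers x := hxt ▸ mem_top y
      rw [((Commute.refl x).zpow_right k).inv_left.mul_pow, inv_pow, hxy, inv_mul_cancel]
    obtain ⟨M, hMn, hxM, hMi, -, -⟩ := exists_maximal_ge hG hxt
    have hM : M ≠ ⊤ := by
      rintro rfl
      rw [index_top] at hMi
      exact hp.out.one_lt.ne hMi
    have hx := hxM (mem_zpowers x)
    have h1 := (ih M hM _ (inv_mem hx) _ (hMn.conj_mem _ (inv_mem hx) y)).1 (by
      rw [conj_pow, inv_pow, hxy]; group)
    rw [key, hxy, inv_mul_cancel]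
    rw [Reg1.mem_omega, ← h1, commutatorElement_def]
    congr 1; group
  · intro hxy
    have h0 : ⁅x, y⁆ ∈ hr.omega hG := by
      have h1 : x⁻¹ * y ∈ hr.omega hG := hxy
      have : ⁅x, y⁆ = x * (x * (x⁻¹ * y) * x⁻¹) * x⁻¹ * (x * (x⁻¹ * y) * x⁻¹)⁻¹ := by
        rw [commutatorElement_def]; group
      rw [this]
      exact mul_mem (hΩn.conj_mem _ (hΩn.conj_mem _ h1 x) x) (inv_mem (hΩn.conj_mem _ h1 x))
    rw [key h0, inv_mul_eq_one] at hxy
    exact hxy

private theorem pow_eq_pow_iff_aux (k : ℕ) :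
    ∀ (G : Type u) [Group G] [Finite G], IsPGroup p G → Reg1 p G → ∀ x y : G,
      (x ^ p ^ k = y ^ p ^ k ↔ (x⁻¹ * y) ^ p ^ k = 1) := by
  induction k with
  | zero => intro G _ _ _ _ x y; simp [inv_mul_eq_one]
  | succ k ih =>
    intro G _ _ hG hr x y
    have hΩn := hr.omega_normal hG
    have h1 := ih (G ⧸ hr.omega hG) (hG.to_quotient _) (hr.quotient _) x y
    rw [← QuotientGroup.mk_inv, ← QuotientGroup.mk_mul, ← QuotientGroup.mk_pow,
      ← QuotientGroup.mk_pow, ← QuotientGroup.mk_pow, QuotientGroup.eq, QuotientGroup.eq_one_iff,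
      Reg1.mem_omega, Reg1.mem_omega] at h1
    rw [pow_succ, pow_mul, pow_mul, pow_mul, hr.pow_eq_pow_iff_one hG, h1]

/-- In a regular `p`-group, `x ^ p ^ k = y ^ p ^ k` iff `(x⁻¹ y) ^ p ^ k = 1`. -/
theorem Reg1.pow_eq_pow_iff (hG : IsPGroup p G) (hr : Reg1 p G) (k : ℕ) (x y : G) :
    x ^ p ^ k = y ^ p ^ k ↔ (x⁻¹ * y) ^ p ^ k = 1 :=
  pow_eq_pow_iff_aux k G hG hr x y

theorem Reg1.mul_pow_pow_eq_one (hG : IsPGroup p G) (hr : Reg1 p G) (k : ℕ) {x y : G}
    (hx : x ^ p ^ k = 1) (hy : y ^ p ^ k = 1) : (x * y) ^ p ^ k = 1 := by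
  have := (hr.pow_eq_pow_iff hG k x⁻¹ y).1 (by rw [inv_pow, hx, hy, inv_one])
  rwa [inv_inv] at this

/-- In a regular `p`-group a product of two `p`-th powers is a `p`-th power. -/
theorem Reg1.exists_pow_mul_pow (hG : IsPGroup p G) (hr : Reg1 p G) (x y : G) :
    ∃ z ∈ closure ({x, y} : Set G), x ^ p * y ^ p = z ^ p := by
  refine pair_induction
    (P := fun G _ x y => ∃ z ∈ closure ({x, y} : Set G), x ^ p * y ^ p = z ^ p)
    ?_ ?_ G hG hr x y
  · rintro G _ H x y ⟨z, hz, h⟩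
    refine ⟨z, ?_, congrArg Subtype.val h⟩
    have := mem_map_of_mem H.subtype hz
    rwa [map_closure_pair] at this
  intro G _ _ hG hr ih x y h
  rw [h]
  by_cases hc : IsCyclic G
  · exact ⟨x * y, mem_top _, (Commute.mul_pow (mul_comm' x y) p).symm⟩
  have hne : ∀ g : G, zpowers g ⊔ commutator G ≠ ⊤ := fun g e =>
    hc ⟨⟨g, fun y => (eq_top_of_sup_commutator hG e).ge (mem_top y)⟩⟩
  have hne' : commutator G ≠ ⊤ := by simpa using hne 1
  obtain ⟨c, hc, h1⟩ := hr x y
  rw [h] at hc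
  obtain ⟨d, hd, rfl⟩ : ∃ d ∈ commutator G, c = d ^ p := by
    refine closure_induction (p := fun c _ => ∃ d ∈ commutator G, c = d ^ p) ?_ ?_ ?_ ?_ hc
    · rintro _ ⟨d, hd, rfl⟩
      exact ⟨d, hd, by rw [pow_one]⟩
    · exact ⟨1, one_mem _, by simp⟩
    · rintro _ _ _ _ ⟨a, ha, rfl⟩ ⟨b, hb, rfl⟩
      obtain ⟨z, hz, h2⟩ := ih _ hne' a ha b hb
      refine ⟨z, (closure_le _).2 ?_ hz, h2⟩
      rintro _ (rfl | rfl) <;> assumption
    · rintro _ _ ⟨a, ha, rfl⟩
      exact ⟨a⁻¹, inv_mem ha, by rw [inv_pow]⟩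
  obtain ⟨z, -, h2⟩ := ih _ (hne (x * y)) (x * y) (mem_sup_left (mem_zpowers _)) d⁻¹
    (mem_sup_right (inv_mem hd))
  exact ⟨z, mem_top _, by rw [← h2, h1, inv_pow, mul_inv_cancel_right]⟩

/-- In a regular `p`-group the `p ^ n`-th powers of the elements of a subgroup form a subgroup. -/
theorem Reg1.mem_powerClosure_iff (hG : IsPGroup p G) (hr : Reg1 p G) (n : ℕ) (H : Subgroup G)
    {y : G} : y ∈ Cfsg.powerClosure p n H ↔ ∃ x ∈ H, y = x ^ p ^ n := by
  refine ⟨fun hy => ?_, by rintro ⟨x, hx, rfl⟩; exact pow_mem_powerClosure hx n⟩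
  induction n generalizing y with
  | zero => exact ⟨y, powerClosure_le H 0 hy, by simp⟩
  | succ n ih =>
    refine closure_induction (p := fun c _ => ∃ d ∈ H, c = d ^ p ^ (n + 1)) ?_ ?_ ?_ ?_ hy
    · exact fun _ h => h
    · exact ⟨1, one_mem _, by simp⟩
    · rintro _ _ _ _ ⟨a, ha, rfl⟩ ⟨b, hb, rfl⟩
      obtain ⟨z, hz, h2⟩ := hr.exists_pow_mul_pow hG (a ^ p ^ n) (b ^ p ^ n)
      have hz' : z ∈ Cfsg.powerClosure p n H := by
        refine (closure_le _).2 ?_ hz
        rintro _ (rfl | rfl)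
        exacts [pow_mem_powerClosure ha n, pow_mem_powerClosure hb n]
      obtain ⟨w, hw, rfl⟩ := ih hz'
      exact ⟨w, hw, by simpa only [pow_succ, pow_mul] using h2⟩
    · rintro _ _ ⟨a, ha, rfl⟩
      exact ⟨a⁻¹, inv_mem ha, by rw [inv_pow]⟩

theorem Reg1.commutator_powerClosure_top_le (hG : IsPGroup p G) (hr : Reg1 p G) (n : ℕ) :
    ⁅Cfsg.powerClosure p n (⊤ : Subgroup G), (⊤ : Subgroup G)⁆ ≤
      Cfsg.powerClosure p n (commutator G) := by
  have hKn := powerClosure_normal (p := p) (commutator G) n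
  rw [commutator_le]
  intro a ha y _
  obtain ⟨x, -, rfl⟩ := (hr.mem_powerClosure_iff hG n ⊤).1 ha
  set π := QuotientGroup.mk' (Cfsg.powerClosure p n (commutator G))
  have h1 := ((hr.quotient (Cfsg.powerClosure p n (commutator G))).pow_eq_pow_iff
    (hG.to_quotient _) n (π x) (π y * π x * (π y)⁻¹)).2 (by
      have : (π x)⁻¹ * (π y * π x * (π y)⁻¹) = π ⁅x⁻¹, y⁆ := by
        simp only [commutatorElement_def, map_mul, map_inv]; group
      rw [this, ← map_pow]
      exact (QuotientGroup.eq_one_iff _).2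
        (pow_mem_powerClosure (commutatorElement_mem_commutator _ _) n))
  rw [← QuotientGroup.eq_one_iff, ← QuotientGroup.mk'_apply, map_commutatorElement,
    commutatorElement_eq_one_iff_mul_comm, map_pow]
  rw [conj_pow, eq_mul_inv_iff_mul_eq] at h1
  exact h1

theorem Reg1.commutator_powerClosure_le (hG : IsPGroup p G) (hr : Reg1 p G) (n : ℕ)
    (H : Subgroup G) : ⁅Cfsg.powerClosure p n H, H⁆ ≤ Cfsg.powerClosure p n ⁅H, H⁆ := by
  have h := map_mono (f := H.subtype)
    ((hr.subgroup H).commutator_powerClosure_top_le (hG.to_subgroup H) n)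
  rwa [map_commutator, map_powerClosure, map_powerClosure, map_subtype_commutator,
    ← MonoidHom.range_eq_map, range_subtype] at h

/-- The first-power condition implies regularity. -/
theorem Reg1.isRegularPGroup (hG : IsPGroup p G) (hr : Reg1 p G) : Cfsg.IsRegularPGroup p G := by
  refine ⟨hG, fun a b n => ?_⟩
  induction n generalizing a b with
  | zero => exact ⟨1, one_mem _, by simp⟩
  | succ n ih =>
    set H := closure ({a, b} : Set G) with hH
    have ha : a ∈ H := Subgroup.subset_closure (by simp)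
    have hb : b ∈ H := Subgroup.subset_closure (by simp)
    obtain ⟨v, hv, h1⟩ := hr a b
    have key : ∀ u w : G, u ∈ Cfsg.powerClosure p 1 H → w ∈ Cfsg.powerClosure p 1 H →
        Cfsg.powerClosure p n ⁅closure ({u, w} : Set G), closure ({u, w} : Set G)⁆ ≤
          Cfsg.powerClosure p (n + 1) ⁅H, H⁆ := by
      intro u w hu hw
      have h2 : closure ({u, w} : Set G) ≤ Cfsg.powerClosure p 1 H := by
        rw [closure_le]
        rintro _ (rfl | rfl) <;> assumption
      rw [powerClosure_le_iff]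
      intro x hx
      have h3 := hr.commutator_powerClosure_le hG 1 H
        (commutator_mono h2 (h2.trans (powerClosure_le H 1)) hx)
      obtain ⟨y, hy, rfl⟩ := (hr.mem_powerClosure_iff hG 1 _).1 h3
      rw [← pow_mul, ← pow_add, add_comm]
      exact pow_mem_powerClosure hy _
    have hap : a ^ p ∈ Cfsg.powerClosure p 1 H := by simpa using pow_mem_powerClosure (p := p) ha 1
    have hbp : b ^ p ∈ Cfsg.powerClosure p 1 H := by simpa using pow_mem_powerClosure (p := p) hb 1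
    obtain ⟨e, he, h2⟩ := ih (a ^ p * b ^ p) v
    obtain ⟨d, hd, h3⟩ := ih (a ^ p) (b ^ p)
    obtain ⟨c, hc, hvc⟩ := (hr.mem_powerClosure_iff hG 1 _).1 hv
    refine ⟨d * v ^ p ^ n * e, mul_mem (mul_mem (key _ _ hap hbp hd) ?_)
      (key _ _ (mul_mem hap hbp) (powerClosure_mono (commutator_le_self H) 1 hv) he), ?_⟩
    · rw [hvc, ← pow_mul, ← pow_add, add_comm]
      exact pow_mem_powerClosure hc _
    · rw [pow_succ', pow_mul, pow_mul, pow_mul, h1, h2, h3]
      simp only [mul_assoc]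

omit hp in
/-- For a finite `p`-subgroup `K`, `K ≤ ℧₁(K)` forces `K = 1`. -/
theorem eq_bot_of_le_powerClosure [Fact p.Prime] {K : Subgroup G} (hK : IsPGroup p K)
    (h : K ≤ Cfsg.powerClosure p 1 K) : K = ⊥ := by
  by_contra hne
  have h1 : (⊥ : Subgroup K) ≠ ⊤ := by
    intro e
    apply hne
    rw [eq_bot_iff]
    intro x hx
    have : (⟨x, hx⟩ : K) ∈ (⊥ : Subgroup K) := e ▸ mem_top _
    exact congrArg Subtype.val (mem_bot.1 this)
  obtain ⟨M, -, -, hMi, -, hM⟩ := exists_maximal_ge hK h1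
  have h2 : Cfsg.powerClosure p 1 K ≤ M.map K.subtype :=
    powerClosure_le_iff.2 fun x hx => ⟨⟨x, hx⟩ ^ p, hM _, by simp⟩
  have h3 : M = ⊤ := by
    rw [eq_top_iff]
    intro x _
    obtain ⟨y, hy, e⟩ := h2 (h x.2)
    rwa [← Subtype.ext e]
  rw [h3, index_top] at hMi
  exact (Fact.out : p.Prime).one_lt.ne hMi

/-- A regular `2`-group is abelian. -/
theorem Reg1.mul_comm_of_two (hG : IsPGroup 2 G) (hr : Reg1 2 G) (a b : G) : a * b = b * a := by
  refine pair_induction (p := 2) (P := fun G _ x y => x * y = y * x) ?_ ?_ G hG hr a b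
  · intro G _ H x y h
    exact congrArg Subtype.val h
  intro G _ _ hG hr _ x y h
  obtain ⟨c, hc, h1⟩ := hr x y
  rw [h] at hc
  have hKn := powerClosure_normal (p := 2) (commutator G) 1
  have h2 : ⁅x, y⁆ ∈ Cfsg.powerClosure 2 1 (commutator G) := by
    have h3 : c = (x ^ 2 * y ^ 2)⁻¹ * (x * y) ^ 2 := by rw [h1]; group
    have : ⁅x, y⁆ = (x * y * y) * c⁻¹ * (x * y * y)⁻¹ := by
      rw [h3, commutatorElement_def]
      simp only [sq]; group
    rw [this]
    exact hKn.conj_mem _ (inv_mem hc) _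
  have h3 := eq_bot_of_le_powerClosure (hG.to_subgroup _) (commutator_le_of_closure_pair h _ h2)
  have := (commutator_eq_bot_iff G).1 h3
  exact mul_comm' x y

end CL.PGrp.Regular
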