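import Cfsg.Agent.PGrp.MaxClass
import Cfsg.Agent.Invol.Dihedral

/-!
Taussky's theorem: a `2`-group whose commutator subgroup has index `4` has a cyclic subgroup of
index `2` and is of maximal class; its central quotient is dihedral.
-/

namespace CL.PGrp

open Subgroup
open scoped commutatorElement

universe u

variable {G : Type*} [Group G]

theorem eq_of_sq_eq_one_of_mem_zpowers [Finite G] {c x y : G} (hx : x ∈ zpowers c)
    (hy : y ∈ zpowers c) (hx1 : x ≠ 1) (hy1 : y ≠ 1) (hx2 : x ^ 2 = 1) (hy2 : y ^ 2 = 1) :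
    x = y := by
  classical
  have := Fintype.ofFinite (zpowers c)
  have h := IsCyclic.card_pow_eq_one_le (α := zpowers c) (n := 2) two_pos
  by_contra hne
  have hsub : ({1, ⟨x, hx⟩, ⟨y, hy⟩} : Finset (zpowers c)) ⊆
      Finset.univ.filter (fun a : zpowers c => a ^ 2 = 1) := by
    intro a ha
    simp only [Finset.mem_insert, Finset.mem_singleton] at ha
    rcases ha with rfl | rfl | rfl <;> simp [Subtype.ext_iff, hx2, hy2]
  have h3 := Finset.card_le_card hsub
  have h4 : ({1, ⟨x, hx⟩, ⟨y, hy⟩} : Finset (zpowers c)).card = 3 :=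
    Finset.card_eq_three.mpr ⟨1, ⟨x, hx⟩, ⟨y, hy⟩, by simpa [Subtype.ext_iff] using hx1.symm,
      by simpa [Subtype.ext_iff] using hy1.symm, by simpa [Subtype.ext_iff] using hne, rfl⟩
  omega

theorem exists_mul_eq_of_index_two {A : Subgroup G} (hA : A.index = 2) {b : G} (hb : b ∉ A)
    (g : G) : g ∈ A ∨ ∃ u ∈ A, g = u * b := by
  by_cases hg : g ∈ A
  · exact Or.inl hg
  · refine Or.inr ⟨g * b⁻¹, ?_, by simp⟩
    rw [Subgroup.mul_mem_iff_of_index_two hA, inv_mem_iff]
    exact iff_of_false hg hb

/-- If an abelian subgroup `A` of index `2` is generated by `a` modulo the centre, then the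
commutator subgroup is generated by `⁅b, a⁆` for any `b ∉ A`. -/
theorem commutator_eq_zpowers_of_index_two {A : Subgroup G} (hA : A.index = 2) {a b : G}
    (ha : a ∈ A) (hb : b ∉ A) (hAa : A ≤ center G ⊔ zpowers a) :
    commutator G = zpowers ⁅b, a⁆ := by
  have hAn : A.Normal := Subgroup.normal_of_index_eq_two hA
  have hab : ∀ u ∈ A, ∀ v ∈ A, Commute u v := by
    intro u hu v hv
    obtain ⟨z, hz, i, rfl⟩ := mem_sup_zpowers_iff_of_normal.mp (hAa hu)
    obtain ⟨w, hw, j, rfl⟩ := mem_sup_zpowers_iff_of_normal.mp (hAa hv)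
    have h1 : ∀ g, Commute z g := fun g => (mem_center_iff.mp hz g).symm
    have h2 : ∀ g, Commute g w := fun g => mem_center_iff.mp hw g
    exact (h1 _).mul_left ((h2 _).mul_right (Commute.zpow_zpow_self a i j))
  have hc : ⁅b, a⁆ ∈ A := mul_mem (hAn.conj_mem a ha b) (inv_mem ha)
  have hb2 : b * b ∈ A := Subgroup.mul_self_mem_of_index_two hA b
  have hbc : b * ⁅b, a⁆ * b⁻¹ = ⁅b, a⁆⁻¹ := by
    have h1 : b * b * a * (b * b)⁻¹ = a := by rw [(hab _ hb2 _ ha).eq]; group
    have h2 : Commute a (b * a⁻¹ * b⁻¹) := hab _ ha _ (hAn.conj_mem _ (inv_mem ha) b)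
    calc b * ⁅b, a⁆ * b⁻¹ = (b * b * a * (b * b)⁻¹) * (b * a⁻¹ * b⁻¹) := by
          rw [commutatorElement_def]; group
      _ = _ := by rw [h1, commutatorElement_inv, commutatorElement_def]; group
  have hn : (zpowers ⁅b, a⁆).Normal := by
    have key : ∀ g : G, g * ⁅b, a⁆ * g⁻¹ ∈ zpowers ⁅b, a⁆ := by
      intro g
      rcases exists_mul_eq_of_index_two hA hb g with hg | ⟨u, hu, rfl⟩
      · rw [(hab _ hg _ hc).eq, mul_inv_cancel_right]
        exact mem_zpowers _
      · have : u * b * ⁅b, a⁆ * (u * b)⁻¹ = u * (b * ⁅b, a⁆ * b⁻¹) * u⁻¹ := by group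
        rw [this, hbc, (hab _ hu _ (inv_mem hc)).eq, mul_inv_cancel_right]
        exact inv_mem (mem_zpowers _)
    refine ⟨?_⟩
    rintro _ ⟨i, rfl⟩ g
    rw [← conj_zpow]
    exact zpow_mem (key g) i
  refine le_antisymm ?_ (by rw [Subgroup.zpowers_le]; exact commutatorElement_mem_commutator _ _)
  rw [_root_.commutator_def, Subgroup.commutator_le]
  let π := QuotientGroup.mk' (zpowers ⁅b, a⁆)
  have h1 : Commute (π b) (π a) := by
    rw [← commutatorElement_eq_one_iff_commute, ← map_commutatorElement]
    exact (QuotientGroup.eq_one_iff _).mpr (mem_zpowers _)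
  have h2 : ∀ u ∈ A, Commute (π b) (π u) := by
    intro u hu
    obtain ⟨z, hz, i, rfl⟩ := mem_sup_zpowers_iff_of_normal.mp (hAa hu)
    have h3 : Commute b z := mem_center_iff.mp hz b
    rw [map_mul, map_zpow]
    exact (h3.map π).mul_right (h1.zpow_right i)
  intro g _ h _
  rw [← QuotientGroup.eq_one_iff]
  change π _ = 1
  rw [map_commutatorElement, commutatorElement_eq_one_iff_commute]
  rcases exists_mul_eq_of_index_two hA hb g with hg | ⟨u, hu, rfl⟩ <;>
    rcases exists_mul_eq_of_index_two hA hb h with hh | ⟨v, hv, rfl⟩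
  · exact (hab _ hg _ hh).map π
  · rw [map_mul]
    exact ((hab _ hg _ hv).map π).mul_right (h2 _ hg).symm
  · rw [map_mul]
    exact ((hab _ hu _ hh).map π).mul_left (h2 _ hh)
  · rw [map_mul, map_mul]
    exact (((hab _ hu _ hv).map π).mul_right (h2 _ hu).symm).mul_left
      ((h2 _ hv).mul_right (Commute.refl _))

theorem orderOf_eq_of_index_zpowers {a : G} {n : ℕ} (hG : Nat.card G = 2 ^ (n + 1))
    (ha : (zpowers a).index = 2) : orderOf a = 2 ^ n := by
  have := (zpowers a).card_mul_index
  rw [ha, hG, Nat.card_zpowers, pow_succ] at this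
  exact Nat.eq_of_mul_eq_mul_right two_pos this

/-- Taussky: a `2`-group of order at least `8` whose commutator subgroup has index `4` has a cyclic
subgroup of index `2`. -/
theorem exists_index_zpowers_eq_two (m : ℕ) :
    ∀ (X : Type u) [Group X], Nat.card X = 2 ^ (m + 3) → (commutator X).index = 4 →
      ∃ a : X, (zpowers a).index = 2 := by
  induction m with
  | zero =>
    intro X _ hX h4
    have : Finite X := Nat.finite_of_card_ne_zero (hX ▸ by norm_num)
    have hna : ¬ IsMulCommutative X := fun h => by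
      rw [commutator_eq_bot, Subgroup.index_bot, hX] at h4
      norm_num at h4
    obtain ⟨a, ha⟩ : ∃ a : X, a ^ 2 ≠ 1 := by
      by_contra h
      push Not at h
      exact hna ⟨⟨fun x y => (Commute.of_orderOf_dvd_two
        (fun g => orderOf_dvd_of_pow_eq_one (h g)) x y).eq⟩⟩
    refine ⟨a, ?_⟩
    obtain ⟨i, hi, hi'⟩ := (Nat.dvd_prime_pow Nat.prime_two).mp (hX ▸ orderOf_dvd_natCard a)
    have h1 := (zpowers a).card_mul_index
    rw [Nat.card_zpowers, hi', hX] at h1
    interval_cases i
    · exact absurd (by rw [orderOf_eq_one_iff.mp hi', one_pow]) ha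
    · exact absurd (orderOf_dvd_iff_pow_eq_one.mp (by rw [hi']; rfl)) ha
    · omega
    · have : IsCyclic X := isCyclic_of_orderOf_eq_card a (hi'.trans hX.symm)
      exact hna.elim inferInstance
  | succ m ih =>
    intro X _ hX h4
    have : Finite X := Nat.finite_of_card_ne_zero (hX ▸ by positivity)
    have hG : IsPGroup 2 X := IsPGroup.of_card hX
    have hne : commutator X ≠ ⊥ := fun h => by
      rw [h, Subgroup.index_bot, hX] at h4
      have : 2 ^ (m + 1 + 3) = 2 ^ 2 := h4
      have := Nat.pow_right_injective le_rfl this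
      omega
    obtain ⟨z, hz1, hz2, hz3, hz4⟩ := exists_mem_center_of_normal hG _ hne
    have hZc : zpowers z ≤ center X := by rwa [Subgroup.zpowers_le]
    have hZn : (zpowers z).Normal := ⟨fun x hx g => by
      rwa [mem_center_iff.mp (hZc hx) g, mul_inv_cancel_right]⟩
    have hZ : Nat.card (zpowers z) = 2 := by rw [Nat.card_zpowers, orderOf_eq_prime hz4 hz2]
    set π := QuotientGroup.mk' (zpowers z) with hπ
    have hπs : Function.Surjective π := QuotientGroup.mk'_surjective _
    have hker : π.ker ≤ commutator X := by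
      rw [hπ, QuotientGroup.ker_mk']
      rwa [Subgroup.zpowers_le]
    have hQ : Nat.card (X ⧸ zpowers z) = 2 ^ (m + 3) := by
      have := (zpowers z).card_mul_index
      rw [hZ, hX, pow_succ' 2 (m + 3), Nat.mul_right_inj two_ne_zero] at this
      exact this
    have hcomm : (commutator X).map π = commutator (X ⧸ zpowers z) := by
      rw [map_commutator_eq, MonoidHom.range_eq_top.mpr hπs, _root_.commutator_def]
    obtain ⟨a, ha⟩ := ih _ hQ (by rw [← hcomm, Subgroup.index_map_eq _ hπs hker, h4])
    obtain ⟨a, rfl⟩ := hπs a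
    have hA : (zpowers z ⊔ zpowers a).index = 2 := by
      rw [← ha, ← MonoidHom.map_zpowers, Subgroup.index_map, MonoidHom.range_eq_top.mpr hπs,
        Subgroup.index_top, mul_one, hπ, QuotientGroup.ker_mk', sup_comm]
    by_cases hza : z ∈ zpowers a
    · exact ⟨a, by rwa [sup_eq_right.mpr (by rwa [Subgroup.zpowers_le])] at hA⟩
    exfalso
    obtain ⟨b, hb⟩ : ∃ b, b ∉ zpowers z ⊔ zpowers a := by
      by_contra h
      push Not at h
      rw [(Subgroup.eq_top_iff' _).mpr h, Subgroup.index_top] at hA
      norm_num at hA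
    have hc := commutator_eq_zpowers_of_index_two hA (Subgroup.mem_sup_right (mem_zpowers a)) hb
      (sup_le_sup_right hZc _)
    have hle : commutator X ≤ zpowers z ⊔ zpowers a := by
      have := Subgroup.normal_of_index_eq_two hA
      exact commutator_le_of_index_eq_prime hA
    have hrel : (commutator X).relIndex (zpowers z ⊔ zpowers a) = 2 := by
      have := Subgroup.relIndex_mul_index hle
      rw [hA, h4] at this
      omega
    have ha2 : a ^ 2 ∈ commutator X := by
      rw [← hrel]
      exact (commutator X).pow_relIndex_mem (Subgroup.mem_sup_right (mem_zpowers a))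
    have ha2' : a ^ 2 ≠ 1 := by
      intro h
      have h1 := orderOf_eq_of_index_zpowers hQ ha
      have h2 : orderOf (π a) ∣ 2 ^ 1 := orderOf_dvd_of_pow_eq_one (by rw [← map_pow]; simp [h])
      rw [h1, Nat.pow_dvd_pow_iff_le_right (by norm_num)] at h2
      omega
    obtain ⟨k, hk1, hk2⟩ := exists_pow_ne_one_pow_eq_one hG ha2'
    have := eq_of_sq_eq_one_of_mem_zpowers (hc ▸ hz1) (hc ▸ pow_mem ha2 _) hz2 hk1 hz4 hk2
    exact hza (this ▸ pow_mem (pow_mem (mem_zpowers a) 2) _)

/-- Structure of a `2`-group `X` of order `2 ^ (m + 3)` with `|X : X'| = 4`: generators `a`, `b`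
with `⟨a⟩` of index `2`, centre generated by the involution `a ^ 2 ^ (m + 1)`, and `b` an involution
inverting `a` modulo the centre. -/
theorem exists_generators_of_index_commutator_eq_four {m : ℕ} (hX : Nat.card G = 2 ^ (m + 3))
    (h4 : (commutator G).index = 4) :
    ∃ a b : G, orderOf a = 2 ^ (m + 2) ∧ (zpowers a).index = 2 ∧ b ∉ zpowers a ∧
      commutator G = zpowers (a ^ 2) ∧ center G = zpowers (a ^ 2 ^ (m + 1)) ∧
      centralizer {b} ⊓ zpowers a = center G ∧ b * b ∈ center G ∧ b * a * b⁻¹ * a ∈ center G := by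
  have : Finite G := Nat.finite_of_card_ne_zero (hX ▸ by positivity)
  have hG : IsPGroup 2 G := IsPGroup.of_card hX
  obtain ⟨a, ha⟩ := exists_index_zpowers_eq_two m G hX h4
  have hAn := Subgroup.normal_of_index_eq_two ha
  have hao := orderOf_eq_of_index_zpowers hX ha
  obtain ⟨b, hb⟩ : ∃ b, b ∉ zpowers a := by
    by_contra h
    push Not at h
    rw [(Subgroup.eq_top_iff' _).mpr h, Subgroup.index_top] at ha
    norm_num at ha
  have hc := commutator_eq_zpowers_of_index_two ha (mem_zpowers a) hb le_sup_right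
  have hcard : Nat.card (commutator G) = 2 ^ (m + 1) := by
    have := (commutator G).card_mul_index
    rw [h4, hX] at this
    apply Nat.eq_of_mul_eq_mul_right (show 0 < 4 by norm_num)
    rw [this]; ring
  have hle : commutator G ≤ zpowers a := commutator_le_of_index_eq_prime ha
  have hrel : (commutator G).relIndex (zpowers a) = 2 := by
    have := Subgroup.relIndex_mul_index hle
    rw [ha, h4] at this
    omega
  have ha2 : a ^ 2 ∈ commutator G := by
    rw [← hrel]
    exact (commutator G).pow_relIndex_mem (mem_zpowers a)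
  have hc2 : commutator G = zpowers (a ^ 2) := by
    symm
    apply Subgroup.eq_of_le_of_card_ge (by rwa [Subgroup.zpowers_le])
    rw [hcard, Nat.card_zpowers, orderOf_pow' a two_ne_zero, hao, pow_succ 2 (m + 1),
      Nat.gcd_mul_left_left, Nat.mul_div_cancel _ two_pos]
  have hab : ∀ u ∈ zpowers a, ∀ v ∈ zpowers a, Commute u v := fun u hu v hv =>
    congrArg Subtype.val (mul_comm' (⟨u, hu⟩ : zpowers a) ⟨v, hv⟩)
  have hba : ⁅b, a⁆ ∈ zpowers a := hle (commutatorElement_mem_commutator _ _)
  have hbo : orderOf ⁅b, a⁆ = 2 ^ (m + 1) := by rw [← Nat.card_zpowers, ← hc, hcard]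
  have hcen : centralizer {b} ⊓ zpowers a = center G := by
    apply le_antisymm
    · rintro x ⟨hx1, hx2⟩
      have hx1' : Commute x b := mem_centralizer_singleton_iff.mp hx1
      rw [mem_center_iff]
      intro g
      rcases exists_mul_eq_of_index_two ha hb g with hg | ⟨u, hu, rfl⟩
      · exact hab _ hg _ hx2
      · exact ((hab _ hu _ hx2).mul_left hx1'.symm).eq
    · refine le_inf (center_le_centralizer _) fun x hx => ?_
      rcases exists_mul_eq_of_index_two ha hb x with hg | ⟨u, hu, rfl⟩
      · exact hg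
      · exfalso
        have h1 : Commute a (u * b) := mem_center_iff.mp hx a
        have h2 : Commute a b := by
          simpa using (hab _ (mem_zpowers a) _ (inv_mem hu)).mul_right h1
        rw [h2.symm.commutator_eq, orderOf_one] at hbo
        exact absurd hbo (Nat.one_lt_pow (by omega) one_lt_two).ne
  refine ⟨a, b, hao, ha, hb, hc2, ?_, hcen, ?_, ?_⟩
  · rw [← hcen]
    ext x
    constructor
    · rintro ⟨hx1, i, rfl⟩
      have h1 : ⁅b, a ^ i⁆ = 1 :=
        commutatorElement_eq_one_iff_mul_comm.mpr (mem_centralizer_singleton_iff.mp hx1).symm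
      rw [commutator_zpow_right (hab _ hba _ (mem_zpowers a)), ← orderOf_dvd_iff_zpow_eq_one,
        hbo] at h1
      obtain ⟨j, rfl⟩ := h1
      exact ⟨j, by simp only; rw [zpow_mul, zpow_natCast]⟩
    · rintro ⟨i, rfl⟩
      refine ⟨zpow_mem (mem_centralizer_singleton_iff.mpr ?_) i,
        zpow_mem (pow_mem (mem_zpowers a) _) i⟩
      rw [eq_comm, ← commutatorElement_eq_one_iff_mul_comm,
        commutator_pow_right (hab _ hba _ (mem_zpowers a)), ← hbo, pow_orderOf_eq_one]
  · rw [← hcen]
    exact ⟨mem_centralizer_singleton_iff.mpr (mul_assoc _ _ _),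
      Subgroup.mul_self_mem_of_index_two ha b⟩
  · rw [← hcen]
    have h0 := hAn.conj_mem a (mem_zpowers a) b
    refine ⟨mem_centralizer_singleton_iff.mpr ?_, mul_mem h0 (mem_zpowers a)⟩
    have h1 : b * b * a * (b * b)⁻¹ = a := by
      rw [(hab _ (Subgroup.mul_self_mem_of_index_two ha b) _ (mem_zpowers a)).eq]; group
    calc b * a * b⁻¹ * a * b = (b * a * b⁻¹ * a) * b := by group
      _ = (a * (b * a * b⁻¹)) * b := by rw [(hab _ h0 _ (mem_zpowers a)).eq]
      _ = (b * b * a * (b * b)⁻¹ * (b * a * b⁻¹)) * b := by rw [h1]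
      _ = _ := by group

theorem card_center_of_index_commutator_eq_four {m : ℕ} (hX : Nat.card G = 2 ^ (m + 3))
    (h4 : (commutator G).index = 4) : Nat.card (center G) = 2 := by
  obtain ⟨a, b, h1, -, -, -, h2, -⟩ := exists_generators_of_index_commutator_eq_four hX h4
  rw [h2, Nat.card_zpowers, orderOf_pow' a (by positivity), h1, pow_succ 2 (m + 1),
    Nat.gcd_mul_right_left, Nat.mul_div_cancel_left _ (by positivity)]

/-- Taussky: a `2`-group with `|X : X'| = 4` has maximal class. -/
theorem nilpotencyClass_of_index_commutator_eq_four {m : ℕ} (hX : Nat.card G = 2 ^ (m + 3))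
    (h4 : (commutator G).index = 4) : Group.nilpotencyClass G = m + 2 := by
  have : Finite G := Nat.finite_of_card_ne_zero (hX ▸ by positivity)
  obtain ⟨a, b, -, ha, hb, -, -, h2, -⟩ := exists_generators_of_index_commutator_eq_four hX h4
  have hbb : b ∈ centralizer {b} := mem_centralizer_singleton_iff.mpr rfl
  have hC : Nat.card (centralizer {b}) = 2 ^ 2 := by
    have h3 := card_inf_mul_relIndex (zpowers a) (centralizer {b})
    have hAn := Subgroup.normal_of_index_eq_two ha
    have h5 : (zpowers a).relIndex (centralizer {b}) ∣ 2 :=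
      ha ▸ Subgroup.relIndex_dvd_index_of_normal _ _
    rcases (Nat.dvd_prime Nat.prime_two).mp h5 with h | h
    · exact absurd (Subgroup.relIndex_eq_one.mp h hbb) hb
    · rw [inf_comm, h2, card_center_of_index_commutator_eq_four hX h4, h] at h3
      exact h3.symm
  refine nilpotencyClass_of_self_centralizing (p := 2) (m + 1) G hX _ hC ?_
  apply le_antisymm (centralizer_le (Set.singleton_subset_iff.mpr hbb))
  have := IsPGroup.isMulCommutative_of_card_eq_prime_sq hC
  exact Subgroup.le_centralizer _

/-- The central quotient of a `2`-group with `|X : X'| = 4` is dihedral. -/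
theorem nonempty_quotient_center_equiv_dihedral {m : ℕ} (hX : Nat.card G = 2 ^ (m + 3))
    (h4 : (commutator G).index = 4) : Nonempty (G ⧸ center G ≃* DihedralGroup (2 ^ (m + 1))) := by
  have : Finite G := Nat.finite_of_card_ne_zero (hX ▸ by positivity)
  obtain ⟨a, b, -, ha, hb, -, -, h2, h3, h5⟩ := exists_generators_of_index_commutator_eq_four hX h4
  set π := QuotientGroup.mk' (center G) with hπ
  have hπs : Function.Surjective π := QuotientGroup.mk'_surjective _
  have hker : π.ker ≤ zpowers a := by
    rw [hπ, QuotientGroup.ker_mk', ← h2]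
    exact inf_le_right
  have hQ : Nat.card (G ⧸ center G) = 2 ^ (m + 2) := by
    have := (center G).card_mul_index
    rw [card_center_of_index_commutator_eq_four hX h4, hX, pow_succ' 2 (m + 2),
      Nat.mul_right_inj two_ne_zero] at this
    exact this
  have hi : (zpowers (π a)).index = 2 := by
    rw [← MonoidHom.map_zpowers, Subgroup.index_map_eq _ hπs hker, ha]
  have hb' : π b ∉ zpowers (π a) := by
    rw [← MonoidHom.map_zpowers, ← Subgroup.mem_comap, Subgroup.comap_map_eq_self hker]
    exact hb
  have e1 : π b * π b = 1 := by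
    rw [← map_mul]
    exact (QuotientGroup.eq_one_iff _).mpr h3
  have e2 : π b * π a * (π b)⁻¹ = (π a)⁻¹ := by
    rw [eq_inv_iff_mul_eq_one, ← map_inv, ← map_mul, ← map_mul, ← map_mul]
    exact (QuotientGroup.eq_one_iff _).mpr h5
  obtain ⟨e⟩ := CL.Invol.nonempty_equiv_dihedral_of_inverts e1 e2 hb'
  have htop : closure ({π b, π a} : Set (G ⧸ center G)) = ⊤ := by
    rw [eq_top_iff]
    intro g _
    have h6 : zpowers (π a) ≤ closure ({π b, π a} : Set (G ⧸ center G)) := by
      rw [Subgroup.zpowers_le]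
      exact subset_closure (by simp)
    rcases exists_mul_eq_of_index_two hi hb' g with hg | ⟨u, hu, rfl⟩
    · exact h6 hg
    · exact mul_mem (h6 hu) (subset_closure (by simp))
  rw [orderOf_eq_of_index_zpowers hQ hi, htop] at e
  exact ⟨Subgroup.topEquiv.symm.trans e⟩

end CL.PGrp
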